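import Groth.Agent.Pi1C.ZeroScheme
import Groth.Agent.Divis.IdealComap

/-!
# Zero schemes of sections under isomorphisms
-/

set_option autoImplicit false
universe u

open CategoryTheory CategoryTheory.Limits AlgebraicGeometry TopologicalSpace

namespace K802.ZeroIso

open Groth.Agent Groth.Agent.Fdesc.LocGen Groth.Agent.Pi1C.ZeroScheme
  Groth.Agent.Divis.IdealComap

variable {X : Scheme.{u}}

theorem zeroScheme_comp_iso {L L' : X.Modules} (hL : PicF.IsInvertible L)
    (hL' : PicF.IsInvertible L') (s : Coh.structureModule X ⟶ L) (φ : L ≅ L') :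
    PicF2.zeroScheme L' (s ≫ φ.hom) = PicF2.zeroScheme L s := by
  refine ext_of_forall_mem fun x ↦ ?_
  obtain ⟨U, hU, hxU, -, e, he⟩ := exists_affine_isGen hL ⊤ x trivial
  obtain ⟨c, hc⟩ := he.exists_eq (sec s U)
  refine ⟨⟨U, hU⟩, hxU, ?_⟩
  rw [ideal_eq_span s hL ⟨U, hU⟩ he hc,
    ideal_eq_span (s ≫ φ.hom) hL' ⟨U, hU⟩ (e := φ.hom.app U e) (he.app φ.hom) (c := c)]
  rw [sec_comp, hc]
  exact Scheme.Modules.Hom.app_smul φ.hom c e

end K802.ZeroIso
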