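import Groth.Agent.AdjLin.K802.SocleFinite
import Groth.Agent.Lefpen.H703.ClosedSmooth
import Groth.Agent.Picfga.CurveRelDim
import Groth.Agent.S2821

/-!
# The local hypotheses on a zero-dimensional local complete intersection in a smooth surface
-/

set_option autoImplicit false

namespace K802.GoodPoint

universe u

open CategoryTheory AlgebraicGeometry TopologicalSpace
open Groth.Agent

variable {k : Type u} [Field k] {X : Scheme.{u}} (f : X ⟶ Spec (CommRingCat.of k)) [Smooth f]

include f in
theorem isIntegral_of_smooth [PerfectField k] [IrreducibleSpace X] : IsIntegral X := by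
  have h1 : ∀ x : X, _root_.IsReduced (X.presheaf.stalk x) := by
    intro x
    have := Lefpen.H705.ClosedPoint.isRegularLocalRing_stalk f x
    have : IsDomain (X.presheaf.stalk x) := (Groth.Agent.S2821.result (X.presheaf.stalk x)).1
    infer_instance
  have : IsReduced X := isReduced_of_isReduced_stalk X
  exact isIntegral_of_irreducibleSpace_of_isReduced X

include f in
theorem stalk_closedPoint [PerfectField k] [IrreducibleSpace X] (hdim : topologicalKrullDim X = 2) {x : X}
    (hx : IsClosed ({x} : Set X)) :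
    IsRegularLocalRing (X.presheaf.stalk x) ∧ ringKrullDim (X.presheaf.stalk x) = 2 := by
  have := isIntegral_of_smooth f
  have h1 : SmoothOfRelativeDimension 2 f :=
    Picfga.CurveRelDim.smoothOfRelativeDimension_of_topologicalKrullDim_eq k X f 2 hdim
  exact (Lefpen.H703.ClosedSmooth.smoothOfRelativeDimension_iff f 2).1 h1 x hx

/-- Points of a finite closed subset of a Jacobson space are closed. -/
theorem isClosed_of_finite {X : Type*} [TopologicalSpace X] [JacobsonSpace X] {Z : Set X}
    (hZ : IsClosed Z) (hf : Z.Finite) {z : X} (hz : z ∈ Z) : IsClosed {z} := by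
  have h1 : IsClosed (Z ∩ closedPoints X) := by
    rw [← Set.biUnion_of_singleton (Z ∩ closedPoints X)]
    exact (hf.subset Set.inter_subset_left).isClosed_biUnion (fun x hx => hx.2)
  have h2 := closure_inter_closedPoints hZ
  rw [h1.closure_eq] at h2
  rw [← h2] at hz
  exact hz.2

/-- The maximal ideals of an affine open come from closed points. -/
theorem exists_point [JacobsonSpace X] (V : X.affineOpens) (m : Ideal Γ(X, V)) (hm : m.IsMaximal) :
    ∃ x : (V : X.Opens), IsClosed ({x.1} : Set X) ∧ (V.2.primeIdealOf x).asIdeal = m := by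
  let p : PrimeSpectrum Γ(X, V) := ⟨m, hm.isPrime⟩
  have hoi : IsOpenImmersion V.2.fromSpec := V.2.isOpenImmersion_fromSpec
  have hp : (V.2.fromSpec p : X) ∈ (V : X.Opens) := by
    have := Set.mem_range_self (f := V.2.fromSpec) p
    rwa [V.2.range_fromSpec] at this
  have h1 : V.2.primeIdealOf ⟨V.2.fromSpec p, hp⟩ = p := by
    apply V.2.fromSpec.isOpenEmbedding.injective
    exact V.2.fromSpec_primeIdealOf ⟨V.2.fromSpec p, hp⟩
  refine ⟨⟨V.2.fromSpec p, hp⟩, ?_, by rw [h1]⟩
  have h2 : p ∈ closedPoints (PrimeSpectrum Γ(X, V)) :=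
    (PrimeSpectrum.isClosed_singleton_iff_isMaximal p).2 hm
  have h3 := V.2.fromSpec.isOpenEmbedding.preimage_closedPoints
  exact h3.symm.le h2

/-- The extension of a quasi-coherent ideal to the stalk is computed on any affine neighbourhood. -/
theorem map_germ_eq (I : X.IdealSheafData) (V W : X.affineOpens) {x : X} (hV : x ∈ (V : X.Opens))
    (hW : x ∈ (W : X.Opens)) :
    (I.ideal V).map (X.presheaf.germ V x hV).hom = (I.ideal W).map (X.presheaf.germ W x hW).hom := by
  obtain ⟨a, b, hab, hxa⟩ := exists_basicOpen_le_affine_inter V.2 W.2 x ⟨hV, hW⟩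
  have h1 := I.map_ideal (U := X.affineBasicOpen a) (V := V) (X.basicOpen_le a)
  have h2 := I.map_ideal (U := X.affineBasicOpen b) (V := W) (X.basicOpen_le b)
  have h3 : X.affineBasicOpen a = X.affineBasicOpen b := Subtype.ext hab
  have key : ∀ (U : X.affineOpens) (T : X.affineOpens) (h : T ≤ U) (hx : x ∈ (T : X.Opens)),
      ((I.ideal U).map (X.presheaf.germ U x (h hx)).hom) = (I.ideal T).map (X.presheaf.germ T x hx).hom := by
    intro U T h hx
    rw [← I.map_ideal h, Ideal.map_map]
    congr 1
    rw [← CommRingCat.hom_comp]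
    exact congrArg _ (X.presheaf.germ_res (homOfLE h) x hx).symm
  rw [key V (X.affineBasicOpen a) (X.basicOpen_le a) hxa,
    key W (X.affineBasicOpen a) (h3 ▸ X.basicOpen_le b) hxa]

include f in
theorem good [PerfectField k] [IrreducibleSpace X] (hdim : topologicalKrullDim X = 2) (I : X.IdealSheafData)
    (hlci : ∀ x : X, ∃ V : X.affineOpens, x ∈ (V : X.Opens) ∧
      ∃ a b : Γ(X, V), I.ideal V = Ideal.span {a, b}) (V : X.affineOpens) (m : Ideal Γ(X, V))
    (hm : m.IsMaximal) : SocleFinite.Good (I.ideal V) m := by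
  have : JacobsonSpace X := LocallyOfFiniteType.jacobsonSpace f
  obtain ⟨x, hx, rfl⟩ := exists_point V m hm
  obtain ⟨h1, h2⟩ := stalk_closedPoint f hdim hx
  obtain ⟨W, hxW, a, b, hab⟩ := hlci x.1
  let _ : Algebra Γ(X, V) (X.presheaf.stalk x.1) := X.presheaf.algebra_section_stalk x
  refine ⟨inferInstance, X.presheaf.stalk x.1, inferInstance, inferInstance, V.2.isLocalization_stalk x, h1,
    h2, X.presheaf.germ W x.1 hxW a, X.presheaf.germ W x.1 hxW b, ?_⟩
  have h3 := map_germ_eq I V W x.2 hxW
  rw [hab, Ideal.map_span, Set.image_pair] at h3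
  exact h3

end K802.GoodPoint
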