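import Groth.Agent.AdjLin.K802.UnitIso
import Groth.Agent.Krr.H478.ImIdeal
import Groth.Agent.Sga67.LocBasisOps
import Groth.Agent.Dcoh.FinLocFree
import Groth.Agent.Sga67.TensorOps
import Groth.Agent.VarietyB.DegCartier
import Groth.Agent.Ega1.QcqsPush
import Groth.Agent.CurvesB.SubPoint

/-!
# When the middle term of an extension `0 → M → F → I_Z → 0` is locally free
-/

set_option autoImplicit false

namespace K802.BundleCrit

universe u

open CategoryTheory CategoryTheory.Limits AlgebraicGeometry TopologicalSpace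
open Groth.Agent K802.UnitIso

variable {X : Scheme.{u}}

theorem isFinLocFree_of_isInvertible {L : X.Modules} (hL : PicF.IsInvertible L) :
    FlatMod.IsFinLocFree L := by
  intro x
  obtain ⟨U, hU, ⟨e⟩⟩ := hL x
  refine ⟨U, 1, hU, ⟨e ≪≫ ?_⟩⟩
  exact (Limits.coproductUniqueIso (fun _ : Fin 1 => Coh.structureModule (↑U : Scheme.{u}))).symm

/-- If `φ` commutes with the inclusions the ideals are contained. -/
theorem le_of_hom {I I' : X.IdealSheafData} (φ : ClSub.idealMod I ⟶ ClSub.idealMod I')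
    (h : φ ≫ ClSub.idealModι I' = ClSub.idealModι I) : I ≤ I' := by
  intro V a ha
  obtain ⟨x, rfl⟩ := PerfA.IdealModule.exists_val_eq I V ha
  have h1 : PerfA.IdealModule.val I' (φ.app V x) = PerfA.IdealModule.val I x := by
    unfold PerfA.IdealModule.val
    rw [← h]
    rfl
  rw [← h1]
  exact PerfA.IdealModule.val_mem I' V _

theorem restrict_shortExact (U : X.Opens) {S : ShortComplex X.Modules} (hS : S.ShortExact) :
    (S.map (Scheme.Modules.restrictFunctor U.ι)).ShortExact := by
  have h1 : (Scheme.Modules.restrictFunctor U.ι).IsLeftAdjoint :=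
    (Scheme.Modules.restrictAdjunction U.ι).isLeftAdjoint
  have h2 : PreservesFiniteColimits (Scheme.Modules.restrictFunctor U.ι) := inferInstance
  have h3 : PreservesFiniteLimits (Scheme.Modules.restrictFunctor U.ι) := inferInstance
  exact hS.map_of_exact _

theorem mono_unit_of (U : X.Opens) {S : ShortComplex X.Modules} (hS : S.ShortExact)
    (h1 : Mono ((η U).app S.X₁)) (h3 : Mono ((η U).app S.X₃)) : Mono ((η U).app S.X₂) :=
  UnitLemma.mono_unit (T U) (η U) hS

theorem isIso_T_map (U : X.Opens) {F G : X.Modules} (g : F ⟶ G)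
    (h : IsIso ((Scheme.Modules.restrictFunctor U.ι).map g)) : IsIso ((T U).map g) :=
  inferInstanceAs (IsIso ((Scheme.Modules.pushforward U.ι).map ((Scheme.Modules.restrictFunctor U.ι).map g)))

theorem isIso_T_idealModι (U : X.Opens) (I : X.IdealSheafData) (h : ∀ x ∈ U, x ∉ I.support) :
    IsIso ((T U).map (ClSub.idealModι I)) :=
  isIso_T_map U _ (isIso_restrict_idealModι U I h)

theorem mono_unit_idealMod (U : X.Opens) (I : X.IdealSheafData)
    [IsIso ((η U).app (Coh.structureModule X))] : Mono ((η U).app (ClSub.idealMod I)) := by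
  have h1 : (η U).app (ClSub.idealMod I) ≫ (T U).map (ClSub.idealModι I) =
      ClSub.idealModι I ≫ (η U).app (Coh.structureModule X) := ((η U).naturality _).symm
  have h2 : Mono ((η U).app (ClSub.idealMod I) ≫ (T U).map (ClSub.idealModι I)) := by
    rw [h1]
    infer_instance
  exact mono_of_mono _ ((T U).map (ClSub.idealModι I))

variable {M : X.Modules} (IZ : X.IdealSheafData) {F : X.Modules} {a : M ⟶ F}
  {b : F ⟶ ClSub.idealMod IZ} {w : a ≫ b = 0} (hex : (ShortComplex.mk a b w).ShortExact)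
  (U : X.Opens) (hU : ∀ x ∈ U, x ∉ IZ.support)

include hex hU in
/-- If the middle term extends over the support, no push-out data exist. -/
theorem not_exists [IsIso ((η U).app (Coh.structureModule X))] [IsIso ((η U).app M)]
    [IsIso ((η U).app F)] (I' : X.IdealSheafData) (F' : X.Modules) (a' : M ⟶ F')
    (b' : F' ⟶ ClSub.idealMod I') (w' : a' ≫ b' = 0) (φ : ClSub.idealMod IZ ⟶ ClSub.idealMod I')
    (g : F ⟶ F') (hlt : IZ < I') (hex' : (ShortComplex.mk a' b' w').ShortExact)
    (hφ : φ ≫ ClSub.idealModι I' = ClSub.idealModι IZ) (hag : a ≫ g = a') (hgb : g ≫ b' = b ≫ φ) :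
    False := by
  have hU' : ∀ x ∈ U, x ∉ I'.support := fun x hx hx' => hU x hx (Scheme.IdealSheafData.support_antitone hlt.le hx')
  have h1 := isIso_restrict_idealModι U IZ hU
  have h2 := isIso_restrict_idealModι U I' hU'
  have h3 : IsIso ((Scheme.Modules.restrictFunctor U.ι).map φ) := by
    have h4 : (Scheme.Modules.restrictFunctor U.ι).map φ ≫
        (Scheme.Modules.restrictFunctor U.ι).map (ClSub.idealModι I') =
          (Scheme.Modules.restrictFunctor U.ι).map (ClSub.idealModι IZ) := by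
      rw [← Functor.map_comp, hφ]
    have h5 : IsIso ((Scheme.Modules.restrictFunctor U.ι).map φ ≫
        (Scheme.Modules.restrictFunctor U.ι).map (ClSub.idealModι I')) := by rw [h4]; exact h1
    exact IsIso.of_isIso_comp_right _ ((Scheme.Modules.restrictFunctor U.ι).map (ClSub.idealModι I'))
  let ψ : ShortComplex.mk a b w ⟶ ShortComplex.mk a' b' w' :=
    { τ₁ := 𝟙 M
      τ₂ := g
      τ₃ := φ
      comm₁₂ := by
        change 𝟙 M ≫ a' = a ≫ g
        rw [hag, Category.id_comp]
      comm₂₃ := hgb }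
  have h6 : IsIso ((Scheme.Modules.restrictFunctor U.ι).map g) := by
    have h7 := restrict_shortExact U hex
    have h8 := restrict_shortExact U hex'
    have h9 : IsIso ((Scheme.Modules.restrictFunctor U.ι).mapShortComplex.map ψ).τ₁ :=
      inferInstanceAs (IsIso ((Scheme.Modules.restrictFunctor U.ι).map (𝟙 M)))
    have h10 : IsIso ((Scheme.Modules.restrictFunctor U.ι).mapShortComplex.map ψ).τ₃ := h3
    exact ShortComplex.isIso₂_of_shortExact_of_isIso₁₃
      ((Scheme.Modules.restrictFunctor U.ι).mapShortComplex.map ψ) h7 h8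
  have h11 : IsIso ((T U).map g) := isIso_T_map U g h6
  have h13 : Mono ((η U).app M) := inferInstance
  have h12 : Mono ((η U).app F') :=
    mono_unit_of U (S := ShortComplex.mk a' b' w') hex' h13 (mono_unit_idealMod U I')
  have h15 : IsIso g := UnitLemma.isIso_of_isIso_map (T U) (η U) g
  have hb' : Epi b' := hex'.epi_g
  have hb : Epi b := hex.epi_g
  have h16 : Epi (b ≫ φ) := by
    rw [← hgb]
    infer_instance
  have h17 : Epi φ := epi_of_epi b φ
  have h18 : Mono φ := by
    have : Mono (φ ≫ ClSub.idealModι I') := by rw [hφ]; infer_instance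
    exact mono_of_mono φ (ClSub.idealModι I')
  have h19 : IsIso φ := isIso_of_mono_of_epi φ
  have h20 : I' ≤ IZ := le_of_hom (inv φ) (by rw [← hφ, IsIso.inv_hom_id_assoc])
  exact hlt.not_ge h20

include hex in
/-- If the middle term does not extend over the support, there are push-out data. -/
theorem exists_of_not_isIso [QuasiCompact U.ι] [QuasiSeparated U.ι]
    [IsIso ((η U).app (Coh.structureModule X))] [IsIso ((η U).app M)]
    (hU : ∀ x ∈ U, x ∉ IZ.support) (hF : Coh.IsQCoh F) (h : ¬ IsIso ((η U).app F)) :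
    ∃ (I' : X.IdealSheafData) (F' : X.Modules) (a' : M ⟶ F') (b' : F' ⟶ ClSub.idealMod I')
      (w' : a' ≫ b' = 0) (φ : ClSub.idealMod IZ ⟶ ClSub.idealMod I') (g : F ⟶ F'),
      IZ < I' ∧ (ShortComplex.mk a' b' w').ShortExact ∧ φ ≫ ClSub.idealModι I' = ClSub.idealModι IZ ∧
        a ≫ g = a' ∧ g ≫ b' = b ≫ φ := by
  have h1 := isIso_T_idealModι U IZ hU
  let t : (T U).obj F ⟶ Coh.structureModule X := UnitLemma.ext (T U) (η U) b (ClSub.idealModι IZ)
  have hq : Coh.IsQCoh ((T U).obj F) := by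
    have hq' : Coh.IsQCoh (F.restrict U.ι) := by
      have hq : SheafOfModules.IsQuasicoherent (R := X.ringCatSheaf) F := hF
      change SheafOfModules.IsQuasicoherent (R := (U : Scheme.{u}).ringCatSheaf)
        ((Scheme.Modules.restrictFunctor U.ι).obj F)
      infer_instance
    exact Ega1.QcqsPush.isQCoh_pushforward U.ι _ hq'
  obtain ⟨l, hl, hlt⟩ := Krr.H478.ImIdeal.exists_factor t (Krr.H478.ImIdeal.imIdeal hq t)
    (fun V => Krr.H478.ImIdeal.ideal_imIdeal hq t V)
  have hm := PerfA.IdealModule.mono_idealModι (Krr.H478.ImIdeal.imIdeal hq t)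
  obtain ⟨w', φ, hse, hφ, hηl⟩ := UnitLemma.exists_data (T U) (η U) a b w hex (ClSub.idealModι IZ) l
    (ClSub.idealModι (Krr.H478.ImIdeal.imIdeal hq t)) hlt
  refine ⟨_, _, _, l, w', φ, (η U).app F, ?_, hse, hφ, rfl, hηl⟩
  refine lt_of_le_of_ne (le_of_hom φ hφ) fun he => h ?_
  have h2 : ∀ (I' : X.IdealSheafData) (φ : ClSub.idealMod IZ ⟶ ClSub.idealMod I')
      (_ : φ ≫ ClSub.idealModι I' = ClSub.idealModι IZ) (_ : IZ = I'), IsIso φ := by
    rintro I' φ hφ rfl
    have : φ = 𝟙 _ := by
      rw [← cancel_mono (ClSub.idealModι IZ), hφ, Category.id_comp]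
    rw [this]
    infer_instance
  have h3 := h2 _ φ hφ he
  let ψ : ShortComplex.mk a b w ⟶ ShortComplex.mk (a ≫ (η U).app F) l w' :=
    { τ₁ := 𝟙 M
      τ₂ := (η U).app F
      τ₃ := φ
      comm₁₂ := by
        change 𝟙 M ≫ (a ≫ (η U).app F) = a ≫ (η U).app F
        rw [Category.id_comp]
      comm₂₃ := hηl }
  have h9 : IsIso ψ.τ₁ := inferInstanceAs (IsIso (𝟙 M))
  have h10 : IsIso ψ.τ₃ := h3
  exact ShortComplex.isIso₂_of_shortExact_of_isIso₁₃ ψ hex hse

include hex in
/-- The criterion. -/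
theorem criterion [IsIntegral X] [IsLocallyNoetherian X] [QuasiCompact U.ι] [QuasiSeparated U.ι]
    (hreg : ∀ x : X, IsRegularLocalRing (X.presheaf.stalk x)) (hdim : topologicalKrullDim X ≤ 2)
    (hdimU : ∀ x : X, x ∉ U → (2 : WithBot ℕ∞) ≤ ringKrullDim (X.presheaf.stalk x))
    (hU : ∀ x ∈ U, x ∉ IZ.support) (hM : PicF.IsInvertible M) :
    ¬ FlatMod.IsFinLocFree F ↔
      ∃ (I' : X.IdealSheafData) (F' : X.Modules) (a' : M ⟶ F') (b' : F' ⟶ ClSub.idealMod I')
        (w' : a' ≫ b' = 0) (φ : ClSub.idealMod IZ ⟶ ClSub.idealMod I') (g : F ⟶ F'),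
        IZ < I' ∧ (ShortComplex.mk a' b' w').ShortExact ∧
          φ ≫ ClSub.idealModι I' = ClSub.idealModι IZ ∧ a ≫ g = a' ∧ g ≫ b' = b ≫ φ := by
  have hOl : FlatMod.IsFinLocFree (Coh.structureModule X) := Sga67.TensorOps.isFinLocFree_structureModule
  have hMl := isFinLocFree_of_isInvertible hM
  have hMc := CurvesB.SubPoint.isCoh_of_isInvertible hM
  have hOc : Coh.IsCoh (Coh.structureModule X) :=
    CurvesB.SubPoint.isCoh_of_isInvertible Fdesc.LocGen.isInvertible_structureModule
  have hIc : Coh.IsCoh (ClSub.idealMod IZ) :=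
    CycB.CohProp.isCoh_of_mono (ClSub.idealModι IZ) (PerfA.IdealModule.isQCoh_idealMod IZ) hOc
  have hFc : Coh.IsCoh F := CycB.CohProp.isCoh_extension _ hex hMc hIc
  have h1 := isIso_unit U hreg hdim hdimU hOc hOl
  have h2 := isIso_unit U hreg hdim hdimU hMc hMl
  constructor
  · intro h
    refine exists_of_not_isIso IZ hex U hU hFc.1 fun hi => h ?_
    refine isFinLocFree_of_isIso_unit U hreg hdim hdimU hFc ?_ hi
    have h3 := restrict_shortExact U hex
    refine Sga67.LocBasis.isFinLocFree_of_shortExact h3 (Dcoh.FinLocFree.isFinLocFree_restrict hMl U.ι) ?_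
    have h4 := isIso_restrict_idealModι U IZ hU
    exact Dcoh.FinLocFree.isFinLocFree_of_iso
      (asIso ((Scheme.Modules.restrictFunctor U.ι).map (ClSub.idealModι IZ))).symm
      (Dcoh.FinLocFree.isFinLocFree_restrict hOl U.ι)
  · rintro ⟨I', F', a', b', w', φ, g, hlt, hex', hφ, hag, hgb⟩ hl
    have h3 := isIso_unit U hreg hdim hdimU hFc hl
    exact not_exists IZ hex U hU I' F' a' b' w' φ g hlt hex' hφ hag hgb

end K802.BundleCrit
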