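import Groth.Agent.AdjLin.K802.GoodPoint

/-!
# Basic facts on smooth surfaces
-/

set_option autoImplicit false

namespace K802.SurfBase

universe u

open CategoryTheory AlgebraicGeometry TopologicalSpace
open Groth.Agent

variable {k : Type u} [Field k] {X : Scheme.{u}} (f : X ⟶ Spec (CommRingCat.of k))

include f in
theorem isNoetherian [LocallyOfFiniteType f] [QuasiCompact f] : IsNoetherian X := by
  have : IsLocallyNoetherian X := LocallyOfFiniteType.isLocallyNoetherian f
  have : CompactSpace X := QuasiCompact.compactSpace_of_compactSpace f
  exact { }

variable [Smooth f]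

include f in
theorem regular [PerfectField k] (x : X) : IsRegularLocalRing (X.presheaf.stalk x) :=
  Lefpen.H705.ClosedPoint.isRegularLocalRing_stalk f x

include f in
/-- Outside the complement of a finite closed set of a smooth surface the local rings have dimension two. -/
theorem two_le [PerfectField k] [IrreducibleSpace X] (hdim : topologicalKrullDim X = 2)
    {Z : Set X} (hZ : IsClosed Z) (hfin : Z.Finite) (x : X) (hx : x ∈ Z) :
    (2 : WithBot ℕ∞) ≤ ringKrullDim (X.presheaf.stalk x) := by
  have : JacobsonSpace X := LocallyOfFiniteType.jacobsonSpace f
  rw [(GoodPoint.stalk_closedPoint f hdim (GoodPoint.isClosed_of_finite hZ hfin hx)).2]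

end K802.SurfBase
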