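import Mathlib.AlgebraicGeometry.IdealSheaf.Functorial
import Mathlib.AlgebraicGeometry.Noetherian

/-!
# Ideal sheaves containing an ideal sheaf with support in an affine open

`X` is a scheme, `I` an ideal sheaf with support contained in the affine open `V`.  The ideal sheaves containing `I`
correspond to the ideals of `Γ(X, V)` containing `I(V)`.
-/

set_option autoImplicit false

namespace K802.SubIdeal

universe u

open CategoryTheory AlgebraicGeometry Scheme TopologicalSpace

variable {X : Scheme.{u}}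

/-- An ideal sheaf is everything over affine opens disjoint from its support. -/
theorem ideal_eq_top {I : X.IdealSheafData} (U : X.affineOpens)
    (h : ∀ x ∈ (U : X.Opens), x ∉ I.support) : I.ideal U = ⊤ := by
  have h1 := I.coe_support_inter U
  have h2 : (I.support : Set X) ∩ U = ∅ := by
    ext x
    simp only [Set.mem_inter_iff, Set.mem_empty_iff_false, iff_false, not_and]
    exact fun hx hxU => h x hxU hx
  rw [h2] at h1
  by_contra hne
  obtain ⟨m, hm, hle⟩ := Ideal.exists_le_maximal _ hne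
  have h3 : U.2.fromSpec ⟨m, hm.isPrime⟩ ∈ (U : X.Opens) := by
    have : U.2.fromSpec ⟨m, hm.isPrime⟩ ∈ Set.range U.2.fromSpec := ⟨_, rfl⟩
    rwa [U.2.range_fromSpec] at this
  have h4 : U.2.fromSpec ⟨m, hm.isPrime⟩ ∈ X.zeroLocus (U := U.1) (I.ideal U) ∩ U := by
    refine ⟨?_, h3⟩
    rw [Scheme.mem_zeroLocus_iff]
    intro f hf hmem
    have h5 : (⟨m, hm.isPrime⟩ : PrimeSpectrum Γ(X, U.1)) ∈ U.2.fromSpec ⁻¹ᵁ X.basicOpen f := hmem
    rw [U.2.fromSpec_preimage_basicOpen] at h5
    exact h5 (hle hf)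
  rw [← h1] at h4
  exact h4

/-- Comparison of ideal sheaves on the affine open containing the support. -/
theorem le_iff {I : X.IdealSheafData} {V : X.affineOpens} (hV : (I.support : Set X) ⊆ (V : X.Opens))
    {I' I'' : X.IdealSheafData} (hI : I ≤ I'') : I' ≤ I'' ↔ I'.ideal V ≤ I''.ideal V := by
  refine ⟨fun h => h V, fun h => ?_⟩
  -- the cover by `V` and the affine opens in the complement of the support
  let W : X.Opens := ⟨(I.support : Set X)ᶜ, I.support.isClosed.isOpen_compl⟩
  let ι : Type u := Option {U : X.affineOpens // (U : X.Opens) ≤ W}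
  let O : ι → X.affineOpens := fun i => i.elim V fun U => U.1
  refine Scheme.IdealSheafData.le_of_iSup_eq_top O ?_ ?_
  · rw [eq_top_iff]
    intro x _
    rw [Opens.mem_iSup]
    by_cases hx : x ∈ (I.support : Set X)
    · exact ⟨none, hV hx⟩
    · obtain ⟨U, hU, hxU, hUW⟩ := Opens.isBasis_iff_nbhd.1 X.isBasis_affineOpens
        (show x ∈ W from hx)
      exact ⟨some ⟨⟨U, hU⟩, hUW⟩, hxU⟩
  · rintro (_ | U)
    · exact h
    · have h1 : I.ideal U.1 = ⊤ := ideal_eq_top U.1 fun x hx => U.2 hx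
      have h2 : I''.ideal U.1 = ⊤ := top_le_iff.1 (h1 ▸ hI U.1)
      change I'.ideal U.1 ≤ I''.ideal U.1
      rw [h2]
      exact le_top

/-- Equality of ideal sheaves can be tested on the affine open. -/
theorem eq_iff {I : X.IdealSheafData} {V : X.affineOpens} (hV : (I.support : Set X) ⊆ (V : X.Opens))
    {I' I'' : X.IdealSheafData} (hI' : I ≤ I') (hI'' : I ≤ I'') :
    I' = I'' ↔ I'.ideal V = I''.ideal V :=
  ⟨fun h => h ▸ rfl, fun h => le_antisymm ((le_iff hV hI'').2 h.le) ((le_iff hV hI').2 h.ge)⟩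

/-- Every ideal over the affine open containing `I(V)` comes from an ideal sheaf containing `I`. -/
theorem exists_ideal {I : X.IdealSheafData} (V : X.affineOpens) [QuasiCompact (V : X.Opens).ι]
    (J : Ideal Γ(X, V)) (hJ : I.ideal V ≤ J) :
    ∃ I' : X.IdealSheafData, I ≤ I' ∧ I'.ideal V = J := by
  let f := (V : X.Opens).ι
  have haff : IsAffine (V : X.Opens) := V.2
  have hpre : IsAffineOpen (f ⁻¹ᵁ (V : X.Opens)) := by
    rw [show f ⁻¹ᵁ (V : X.Opens) = ⊤ from (V : X.Opens).ι_preimage_self]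
    exact isAffineOpen_top _
  let J₀ : Ideal Γ((V : X.Opens), ⊤) := J.comap ((V : X.Opens).topIso.hom.hom)
  let J' : ((V : X.Opens) : Scheme).IdealSheafData := Scheme.IdealSheafData.ofIdealTop J₀
  refine ⟨J'.map f, ?_, ?_⟩
  · rw [Scheme.IdealSheafData.le_map_iff_comap_le]
    apply Scheme.IdealSheafData.le_of_isAffine
    rw [Scheme.IdealSheafData.ideal_comap_of_isOpenImmersion]
    have h1 : J'.ideal ⟨⊤, isAffineOpen_top _⟩ = J₀ :=
      Scheme.IdealSheafData.equivOfIsAffine.apply_symm_apply J₀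
    rw [h1]
    intro b hb
    rw [Ideal.mem_comap] at hb
    change (V : X.Opens).topIso.hom.hom b ∈ J
    refine hJ ?_
    let g : Opposite.op (f ''ᵁ ⊤) ⟶ Opposite.op (V : X.Opens) := CategoryTheory.eqToHom (by
      rw [(V : X.Opens).ι_image_top])
    have h2 := I.map_ideal' (U := V)
      (V := ⟨f ''ᵁ ⊤, (isAffineOpen_top _).image_of_isOpenImmersion f⟩) g
    rw [← h2]
    rw [Scheme.Opens.ι_appIso] at hb
    have hb' : (show Γ(X, f ''ᵁ ⊤) from b) ∈
        I.ideal ⟨f ''ᵁ ⊤, (isAffineOpen_top _).image_of_isOpenImmersion f⟩ := hb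
    have h4 : (V : X.Opens).topIso.hom = X.presheaf.map g := by
      rw [Scheme.Opens.topIso_hom]
      exact congrArg X.presheaf.map (Subsingleton.elim _ _)
    rw [h4]
    exact Ideal.mem_map_of_mem (X.presheaf.map g).hom hb'
  · rw [Scheme.IdealSheafData.ideal_map _ _ _ hpre]
    have hle : f ⁻¹ᵁ (V : X.Opens) ≤ ⊤ := le_top
    have htop : f ⁻¹ᵁ (V : X.Opens) = ⊤ := (V : X.Opens).ι_preimage_self
    let ψ : Γ((V : X.Opens), ⊤) →+* Γ((V : X.Opens), f ⁻¹ᵁ (V : X.Opens)) :=
      (((V : X.Opens) : Scheme).presheaf.map (CategoryTheory.homOfLE hle).op).hom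
    have hψ : Function.Bijective ψ := by
      have h1 : CategoryTheory.IsIso (CategoryTheory.homOfLE hle) :=
        ⟨CategoryTheory.homOfLE htop.ge, Subsingleton.elim _ _, Subsingleton.elim _ _⟩
      exact (CategoryTheory.asIso (((V : X.Opens) : Scheme).presheaf.map
        (CategoryTheory.homOfLE hle).op)).commRingCatIsoToRingEquiv.bijective
    have happ : ∀ a : Γ(X, V), (f.app (V : X.Opens)).hom a =
        ψ ((V : X.Opens).topIso.inv.hom a) := by
      intro a
      change _ = ((V : X.Opens).topIso.inv ≫ ((V : X.Opens) : Scheme).presheaf.map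
        (CategoryTheory.homOfLE hle).op).hom a
      congr 2
      rw [Scheme.Opens.topIso_inv, Scheme.Opens.ι_app, Scheme.Opens.toScheme_presheaf_map]
      exact X.presheaf.map_comp _ _
    have hid : J'.ideal ⟨f ⁻¹ᵁ (V : X.Opens), hpre⟩ = J₀.map ψ := rfl
    ext a
    rw [Ideal.mem_comap, hid, happ]
    constructor
    · intro h
      obtain ⟨b, hb, hab⟩ := (Ideal.mem_map_iff_of_surjective ψ hψ.2).1 h
      have h2 : b = (V : X.Opens).topIso.inv.hom a := hψ.1 hab
      have h3 : (V : X.Opens).topIso.hom.hom b = a := by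
        rw [h2]
        exact congr($((V : X.Opens).topIso.inv_hom_id).hom a)
      rw [← h3]
      exact hb
    · intro h
      refine Ideal.mem_map_of_mem _ ?_
      change (V : X.Opens).topIso.hom.hom ((V : X.Opens).topIso.inv.hom a) ∈ J
      have h3 : (V : X.Opens).topIso.hom.hom ((V : X.Opens).topIso.inv.hom a) = a :=
        congr($((V : X.Opens).topIso.inv_hom_id).hom a)
      rwa [h3]

/-- Covers of `I` are seen on the affine open containing the support. -/
theorem covBy_of_covBy_ideal {I I' : X.IdealSheafData} {V : X.affineOpens}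
    (hV : (I.support : Set X) ⊆ (V : X.Opens)) (hI : I ≤ I') (h : I.ideal V ⋖ I'.ideal V) :
    I ⋖ I' := by
  refine ⟨lt_of_le_of_ne hI fun he => h.1.ne (by rw [← he]), fun I'' h1 h2 => ?_⟩
  have h3 : I.ideal V < I''.ideal V :=
    lt_of_le_of_ne (h1.le V) fun he => h1.ne ((eq_iff hV le_rfl h1.le).2 he)
  have h4 : I''.ideal V < I'.ideal V :=
    lt_of_le_of_ne (h2.le V) fun he => h2.ne ((eq_iff hV h1.le hI).2 he)
  exact h.2 h3 h4

/-- Covers of `I` are seen on the affine open containing the support. -/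
theorem covBy_ideal_of_covBy {I I' : X.IdealSheafData} {V : X.affineOpens}
    [QuasiCompact (V : X.Opens).ι] (hV : (I.support : Set X) ⊆ (V : X.Opens)) (h : I ⋖ I') :
    I.ideal V ⋖ I'.ideal V := by
  refine ⟨lt_of_le_of_ne (h.1.le V) fun he => h.1.ne ((eq_iff hV le_rfl h.1.le).2 he),
    fun J h1 h2 => ?_⟩
  obtain ⟨I'', hI'', rfl⟩ := exists_ideal V J h1.le
  have h3 : I < I'' := lt_of_le_of_ne hI'' fun he => h1.ne (by rw [← he])
  have h4 : I'' < I' :=
    lt_of_le_of_ne ((le_iff hV h.1.le).2 h2.le) fun he => h2.ne (by rw [he])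
  exact h.2 h3 h4

end K802.SubIdeal
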