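import Mathlib.RingTheory.IntegralClosure.IsIntegralClosure.Basic
import Mathlib.RingTheory.Polynomial.Basic
import Mathlib.Algebra.Polynomial.EraseLead
import Mathlib.Tactic.LinearCombination
import Mathlib.Tactic.FieldSimp

/-!
# Integrality of products of brackets of linear factors

`R` is an integrally closed subring of a field `K`.

* `two_term`: if `(u X + v) G` has coefficients in `R` then so have `u G` and `v G`;
* `bracket_mem`: if `c ∏ (u_i X + v_i) (u'_i X + v'_i)` has coefficients in `R`, then
  `c ∏ (u_i v'_i - v_i u'_i)` lies in `R`;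
* `prim_mem`: removing primitive linear factors.
-/

set_option autoImplicit false

open Polynomial

namespace K802.BogAlg

variable {K : Type*} [Field K]

/-- All coefficients lie in `R`. -/
def Co (R : Subring K) (P : K[X]) : Prop := ∀ n, P.coeff n ∈ R

variable {R : Subring K}

theorem Co.zero : Co R 0 := fun n => by simp

theorem Co.add {P Q : K[X]} (hP : Co R P) (hQ : Co R Q) : Co R (P + Q) := fun n => by
  rw [coeff_add]; exact R.add_mem (hP n) (hQ n)

theorem Co.sub {P Q : K[X]} (hP : Co R P) (hQ : Co R Q) : Co R (P - Q) := fun n => by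
  rw [coeff_sub]; exact R.sub_mem (hP n) (hQ n)

theorem Co.monomial {n : ℕ} {a : K} (ha : a ∈ R) : Co R (monomial n a) := fun m => by
  rw [coeff_monomial]
  split_ifs
  · exact ha
  · exact R.zero_mem

theorem Co.mem_of_C {a : K} (h : Co R (C a)) : a ∈ R := by
  have := h 0
  rwa [coeff_C_zero] at this

/-- `R` is integrally closed in `K`. -/
def IC (R : Subring K) : Prop := ∀ z : K, IsIntegral R z → z ∈ R

theorem exists_lift {P : K[X]} (h : Co R P) : ∃ Q : R[X], Q.map (algebraMap R K) = P ∧ Q.natDegree = P.natDegree := by
  have h1 : P ∈ lifts (algebraMap R K) := by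
    rw [lifts_iff_coeff_lifts]
    intro n
    exact ⟨⟨P.coeff n, h n⟩, rfl⟩
  obtain ⟨Q, hQ⟩ := (mem_lifts P).1 h1
  refine ⟨Q, hQ, ?_⟩
  rw [← hQ, natDegree_map_eq_of_injective]
  exact Subtype.val_injective

/-- The leading coefficient times a root is integral. -/
theorem lead_mul_root (hR : IC R) {P : K[X]} (h : Co R P) {z : K} (hz : P.eval z = 0) :
    P.leadingCoeff * z ∈ R := by
  obtain ⟨Q, hQ, hd⟩ := exists_lift h
  refine hR _ ?_
  have h1 : aeval z Q = 0 := by
    rw [aeval_def, ← eval_map, hQ, hz]
  have h2 := isIntegral_leadingCoeff_smul Q z h1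
  have h3 : Q.leadingCoeff • z = P.leadingCoeff * z := by
    have h4 : (algebraMap R K) Q.leadingCoeff = P.leadingCoeff := by
      rw [leadingCoeff, leadingCoeff, ← hd, ← hQ, coeff_map]
    rw [Algebra.smul_def, h4]
  rwa [h3] at h2

theorem two_term_aux (hR : IC R) (u v : K) (hu : u ≠ 0) : ∀ (n : ℕ) (G : K[X]), G.natDegree < n →
    Co R ((C u * X + C v) * G) → Co R (C u * G) ∧ Co R (C v * G) := by
  intro n
  induction n with
  | zero => intro G h; exact absurd h (Nat.not_lt_zero _)
  | succ n ih =>
    intro G hG h
    by_cases hG0 : G = 0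
    · subst hG0
      simp only [mul_zero]
      exact ⟨Co.zero, Co.zero⟩
    -- the leading coefficient
    have hlin : (C u * X + C v : K[X]).leadingCoeff = u := leadingCoeff_linear hu
    have h1 : ((C u * X + C v) * G).leadingCoeff = u * G.leadingCoeff := by
      rw [leadingCoeff_mul, hlin]
    have h2 : u * G.leadingCoeff ∈ R := by
      rw [← h1]; exact h _
    have h3 : G.leadingCoeff * v ∈ R := by
      have h4 := lead_mul_root hR h (z := -(v / u)) (by
        rw [eval_mul, eval_add, eval_mul, eval_C, eval_X, eval_C]
        field_simp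
        ring)
      rw [h1] at h4
      have h5 : u * G.leadingCoeff * -(v / u) = -(G.leadingCoeff * v) := by
        field_simp
      rw [h5] at h4
      have := R.neg_mem h4
      rwa [neg_neg] at this
    -- erase the leading term
    have hdec : G = G.eraseLead + monomial G.natDegree G.leadingCoeff :=
      (eraseLead_add_monomial_natDegree_leadingCoeff G).symm
    have h6 : (C u * X + C v) * G.eraseLead = (C u * X + C v) * G -
        (monomial (G.natDegree + 1) (u * G.leadingCoeff) + monomial G.natDegree (v * G.leadingCoeff)) := by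
      have h7 : (C u * X + C v) * monomial G.natDegree G.leadingCoeff =
          monomial (G.natDegree + 1) (u * G.leadingCoeff) + monomial G.natDegree (v * G.leadingCoeff) := by
        rw [add_mul, mul_assoc, X_mul_monomial, C_mul_monomial, C_mul_monomial]
      rw [← h7, ← mul_sub]
      congr 1
      exact eq_sub_of_add_eq hdec.symm
    have h8 : Co R ((C u * X + C v) * G.eraseLead) := by
      rw [h6]
      refine h.sub ((Co.monomial h2).add (Co.monomial ?_))
      rw [mul_comm]; exact h3
    have h9 : Co R (C u * G.eraseLead) ∧ Co R (C v * G.eraseLead) := by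
      by_cases hG1 : G.eraseLead = 0
      · rw [hG1, mul_zero, mul_zero]
        exact ⟨Co.zero, Co.zero⟩
      by_cases hG2 : G.natDegree = 0
      · refine absurd ?_ hG1
        rw [eq_C_of_natDegree_eq_zero hG2, eraseLead_C]
      refine ih _ ?_ h8
      have h10 := eraseLead_natDegree_le G
      omega
    constructor
    · rw [hdec, mul_add, C_mul_monomial]
      exact h9.1.add (Co.monomial h2)
    · rw [hdec, mul_add, C_mul_monomial]
      refine h9.2.add (Co.monomial ?_)
      rw [mul_comm]; exact h3

/-- The two term lemma. -/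
theorem two_term (hR : IC R) (u v : K) {G : K[X]} (h : Co R ((C u * X + C v) * G)) :
    Co R (C u * G) ∧ Co R (C v * G) := by
  by_cases hu : u = 0
  · subst hu
    simp only [C_0, zero_mul, zero_add] at h ⊢
    exact ⟨Co.zero, h⟩
  · exact two_term_aux hR u v hu _ G (Nat.lt_succ_self _) h

/-- Brackets of pairs of linear factors. -/
theorem bracket_mem_aux (hR : IC R) {ι : Type*} (s : Finset ι) (u v u' v' : ι → K) (G : K[X])
    (h : Co R (G * ∏ i ∈ s, ((C (u i) * X + C (v i)) * (C (u' i) * X + C (v' i))))) :
    Co R (C (∏ i ∈ s, (u i * v' i - v i * u' i)) * G) := by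
  classical
  induction s using Finset.induction_on generalizing G with
  | empty => simpa using h
  | insert i s hi ih =>
    rw [Finset.prod_insert hi] at h ⊢
    have h1 : Co R ((C (u i) * X + C (v i)) * ((C (u' i) * X + C (v' i)) *
        (G * ∏ i ∈ s, ((C (u i) * X + C (v i)) * (C (u' i) * X + C (v' i)))))) := by
      convert h using 1
      ring
    obtain ⟨h2, h3⟩ := two_term hR _ _ h1
    have h4 : Co R ((C (u' i) * X + C (v' i)) * (C (u i) *
        (G * ∏ i ∈ s, ((C (u i) * X + C (v i)) * (C (u' i) * X + C (v' i)))))) := by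
      convert h2 using 1
      ring
    have h5 : Co R ((C (u' i) * X + C (v' i)) * (C (v i) *
        (G * ∏ i ∈ s, ((C (u i) * X + C (v i)) * (C (u' i) * X + C (v' i)))))) := by
      convert h3 using 1
      ring
    have h6 := (two_term hR _ _ h4).2
    have h7 := (two_term hR _ _ h5).1
    have h8 := ih (C (u i * v' i - v i * u' i) * G) (by
      convert h6.sub h7 using 1
      rw [C_sub, C_mul, C_mul]
      ring)
    convert h8 using 1
    rw [C_mul]
    ring

theorem bracket_mem (hR : IC R) {ι : Type*} (s : Finset ι) (u v u' v' : ι → K) (c : K)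
    (h : Co R (C c * ∏ i ∈ s, ((C (u i) * X + C (v i)) * (C (u' i) * X + C (v' i))))) :
    c * ∏ i ∈ s, (u i * v' i - v i * u' i) ∈ R := by
  have h1 := bracket_mem_aux hR s u v u' v' (C c) h
  rw [← C_mul] at h1
  rw [mul_comm]
  exact h1.mem_of_C

/-- `u`, `v` are elements of `R` without common divisor. -/
def Prim (R : Subring K) (u v : K) : Prop :=
  u ∈ R ∧ v ∈ R ∧ ∀ b : K, b * u ∈ R → b * v ∈ R → b ∈ R

/-- Removing a primitive linear factor. -/
theorem prim_mem (hR : IC R) {u v : K} (hp : Prim R u v) {G : K[X]} (n : ℕ)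
    (h : Co R ((C u * X + C v) ^ n * G)) : Co R G := by
  induction n with
  | zero => simpa using h
  | succ n ih =>
    apply ih
    have h1 : Co R ((C u * X + C v) * ((C u * X + C v) ^ n * G)) := by
      convert h using 1
      ring
    obtain ⟨h2, h3⟩ := two_term hR _ _ h1
    intro m
    refine hp.2.2 _ ?_ ?_
    · have := h2 m
      rwa [coeff_C_mul, mul_comm] at this
    · have := h3 m
      rwa [coeff_C_mul, mul_comm] at this

end K802.BogAlg
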