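import Mathlib.RingTheory.Ideal.Quotient.Operations
import Mathlib.FieldTheory.IsAlgClosed.Basic
import Mathlib.LinearAlgebra.Dimension.FreeAndStrongRankCondition
import Mathlib.RingTheory.Ideal.Maximal

/-!
# The colength of a minimal overideal
-/

set_option autoImplicit false

namespace K802.CoverDim

open Module

/-- The kernel of a surjection which is a minimal ideal is one-dimensional. -/
theorem finrank_eq_add_one {k R R' : Type*} [Field k] [IsAlgClosed k] [CommRing R] [CommRing R'] [Algebra k R]
    [Algebra k R'] [FiniteDimensional k R] (f : R →ₐ[k] R') (hf : Function.Surjective f)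
    (hker : IsAtom (RingHom.ker f)) : finrank k R = finrank k R' + 1 := by
  obtain ⟨a, ha, ha0⟩ := Submodule.exists_mem_ne_zero_of_ne_bot hker.1
  have hspan : ∀ b : R, b ∈ RingHom.ker f → b ≠ 0 → Ideal.span {b} = RingHom.ker f := by
    intro b hb hb0
    refine (hker.le_iff.1 ((Ideal.span_singleton_le_iff_mem _).2 hb)).resolve_left ?_
    rwa [Ideal.span_singleton_eq_bot]
  let m : Ideal R := Submodule.colon ⊥ {a}
  have hm : ∀ c : R, c ∈ m ↔ c * a = 0 := by
    intro c
    rw [Submodule.mem_colon_singleton, Submodule.mem_bot]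
    rfl
  have hmax : m.IsMaximal := by
    rw [Ideal.isMaximal_iff]
    refine ⟨fun h => ha0 (by rw [hm, one_mul] at h; exact h), fun J c hmJ hc hcJ => ?_⟩
    have h1 : c * a ≠ 0 := fun h => hc ((hm c).2 h)
    have h2 := hspan (c * a) (Ideal.mul_mem_left _ _ ha) h1
    rw [← h2] at ha
    obtain ⟨d, hd⟩ := Ideal.mem_span_singleton'.1 ha
    have h3 : 1 - d * c ∈ m := by
      rw [hm]
      linear_combination -hd
    have h4 := J.add_mem (hmJ h3) (J.mul_mem_left d hcJ)
    rwa [sub_add_cancel] at h4
  let _ : Field (R ⧸ m) := Ideal.Quotient.field m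
  have hsurj : Function.Surjective (algebraMap k (R ⧸ m)) :=
    (IsAlgClosed.algebraMap_bijective_of_isIntegral (k := k) (K := R ⧸ m)).2
  have h1 : finrank k (LinearMap.ker f.toLinearMap) = 1 := by
    rw [finrank_eq_one_iff_of_nonzero' (⟨a, ha⟩ : LinearMap.ker f.toLinearMap)
      (fun h => ha0 (Subtype.ext_iff.1 h))]
    rintro ⟨b, hb⟩
    have hb' : b ∈ RingHom.ker f := hb
    rw [← hspan a ha ha0] at hb'
    obtain ⟨c, rfl⟩ := Ideal.mem_span_singleton'.1 hb'
    obtain ⟨t, ht⟩ := hsurj (Ideal.Quotient.mk m c)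
    refine ⟨t, Subtype.ext ?_⟩
    change t • a = c * a
    have h2 : c - algebraMap k R t ∈ m := by
      rw [← Ideal.Quotient.eq, ← ht]
      rfl
    rw [hm] at h2
    rw [Algebra.smul_def]
    linear_combination -h2
  have h2 := LinearMap.finrank_range_add_finrank_ker f.toLinearMap
  have h3 : LinearMap.range f.toLinearMap = ⊤ := LinearMap.range_eq_top.2 hf
  rw [h1, h3, finrank_top] at h2
  exact h2.symm

/-- The colengths of ideals one of which covers the other. -/
theorem finrank_quotient_eq {k A : Type*} [Field k] [IsAlgClosed k] [CommRing A] {I J : Ideal A} (h : I ⋖ J)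
    [Algebra k (A ⧸ I)] [Algebra k (A ⧸ J)] [FiniteDimensional k (A ⧸ I)]
    (hk : ∀ t : k, Ideal.Quotient.factor h.le (algebraMap k (A ⧸ I) t) = algebraMap k (A ⧸ J) t) :
    finrank k (A ⧸ I) = finrank k (A ⧸ J) + 1 := by
  let f : (A ⧸ I) →ₐ[k] (A ⧸ J) := { Ideal.Quotient.factor h.le with commutes' := hk }
  have hf : Function.Surjective f := Ideal.Quotient.factor_surjective h.le
  refine finrank_eq_add_one f hf ⟨?_, ?_⟩
  · obtain ⟨a, haJ, haI⟩ := SetLike.exists_of_lt h.lt
    intro hbot
    have h1 : Ideal.Quotient.mk I a ∈ RingHom.ker f := by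
      rw [RingHom.mem_ker]
      change Ideal.Quotient.mk J a = 0
      exact Ideal.Quotient.eq_zero_iff_mem.2 haJ
    rw [hbot, Submodule.mem_bot, Ideal.Quotient.eq_zero_iff_mem] at h1
    exact haI h1
  · intro K hK
    by_contra hne
    have h1 : I < K.comap (Ideal.Quotient.mk I) := by
      refine lt_of_le_of_ne (fun x hx => ?_) fun he => hne ?_
      · rw [Ideal.mem_comap, Ideal.Quotient.eq_zero_iff_mem.2 hx]
        exact K.zero_mem
      · rw [eq_bot_iff]
        intro x hx
        obtain ⟨y, rfl⟩ := Ideal.Quotient.mk_surjective x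
        have : y ∈ K.comap (Ideal.Quotient.mk I) := hx
        rw [← he] at this
        rw [Submodule.mem_bot, Ideal.Quotient.eq_zero_iff_mem]
        exact this
    have h2 : K.comap (Ideal.Quotient.mk I) < J := by
      obtain ⟨x, hx, hxK⟩ := SetLike.exists_of_lt hK
      refine lt_of_le_of_ne (fun y hy => ?_) fun he => hxK ?_
      · have h3 : f (Ideal.Quotient.mk I y) = 0 := hK.le hy
        exact Ideal.Quotient.eq_zero_iff_mem.1 h3
      · obtain ⟨y, rfl⟩ := Ideal.Quotient.mk_surjective x
        have h3 : f (Ideal.Quotient.mk I y) = 0 := hx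
        have h4 : y ∈ J := Ideal.Quotient.eq_zero_iff_mem.1 h3
        rw [← he] at h4
        exact h4
    exact h.2 h1 h2

end K802.CoverDim
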