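import Groth.Agent.Surf.K461.SerreDual
import Mathlib.Algebra.Homology.DerivedCategory.Ext.Linear

/-!
# Serre duality for Ext groups as a pairing
-/

set_option autoImplicit false

universe u

open CategoryTheory CategoryTheory.Limits CategoryTheory.Abelian AlgebraicGeometry

attribute [local instance] HasDerivedCategory.standard

namespace K802.ExtDual

open Groth.Agent Groth.Agent.CurvesC Groth.Agent.CurvesC.RepX Groth.Agent.CurvesC.DualLin

variable (k : Type u) [Field k] (X : Scheme.{u}) [X.Over (Spec (CommRingCat.of k))] [HasExt.{u} X.Modules]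

attribute [local instance] LinMod.linearModules

/-- `Ext^n(O_X, F) = H^n(X, F)`. -/
noncomputable def extHH (F : X.Modules) (n : ℕ) : Ext.{u} (Coh.structureModule X) F n ≃ₗ[k] Coh.HH X F n :=
  (Ext.homLinearEquiv.trans (homHVₗ k X F n)).trans (HV.equiv k F n)

variable {X}

/-- The functional attached to an extension class. -/
noncomputable def fun' {W : X.Modules} {n : ℕ} (τ : Ext.{u} (Coh.structureModule X) W n →ₗ[k] k) {F : X.Modules}
    {m p : ℕ} (h : p + m = n) (x : Ext.{u} F W m) : Module.Dual k (Ext.{u} (Coh.structureModule X) F p) :=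
  τ ∘ₗ x.postcompOfLinear k (Coh.structureModule X) h

theorem fun'_apply {W : X.Modules} {n : ℕ} (τ : Ext.{u} (Coh.structureModule X) W n →ₗ[k] k) {F : X.Modules}
    {m p : ℕ} (h : p + m = n) (x : Ext.{u} F W m) (s : Ext.{u} (Coh.structureModule X) F p) :
    fun' k τ h x s = τ (s.comp x h) := rfl

/-- The pairing of `Ext^p(O, F)` with `Ext^m(F, W)` is perfect. -/
def IsPerfect {W : X.Modules} {n : ℕ} (τ : Ext.{u} (Coh.structureModule X) W n →ₗ[k] k) : Prop :=
  ∀ (F : X.Modules), Coh.IsQCoh F → ∀ (m p : ℕ) (h : p + m = n),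
    Function.Bijective (fun x : Ext.{u} F W m => fun' k τ h x)

theorem exists_isPerfect [IsProper (X ↘ Spec (CommRingCat.of k))] (n : ℕ)
    [SmoothOfRelativeDimension n (X ↘ Spec (CommRingCat.of k))] (W : X.Modules)
    (hW : ExtPow.IsExtPow n (Omega.sheaf (X ↘ Spec (CommRingCat.of k))) W) :
    ∃ τ : Ext.{u} (Coh.structureModule X) W n →ₗ[k] k, IsPerfect k τ := by
  obtain ⟨τ₀, hτ₀⟩ := K461.SerreDual.exists_form k X n W hW
  refine ⟨τ₀ ∘ₗ (Ext.homLinearEquiv (R := k) (X := Coh.structureModule X) (Y := W) (n := n)).toLinearMap, ?_⟩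
  intro F hF m p h
  have h1 := hτ₀ _ (PerfA.QCohD.isQCohD_shift (PerfA.QCohD.isQCohD_inD F hF) (p : ℤ))
  have h2 : Function.Bijective (fun x : Ext.{u} F W m =>
      ((Ext.homLinearEquiv (R := k) (X := Coh.structureModule X) (Y := F) (n := p)).dualMap
        (pairing k X τ₀ ((DCoh.inD X F)⟦(p : ℤ)⟧)
          (K461.DualAbs.homShiftE k F W m p n (by lia) (Ext.homLinearEquiv (R := k) x))))) :=
    (LinearEquiv.bijective _).comp (h1.comp ((LinearEquiv.bijective _).comp (LinearEquiv.bijective _)))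
  convert h2 using 1
  funext x
  ext s
  change τ₀ ((s.comp x h).hom) = _
  rw [Ext.comp_hom]
  change τ₀ (s.hom ≫ (shiftFunctor (DCoh.D X) (p : ℤ)).map x.hom ≫
    (shiftFunctorAdd' (DCoh.D X) (m : ℤ) (p : ℤ) (n : ℤ) (by lia)).inv.app _) =
      τ₀ (s.hom ≫ ((𝟙 _ ≫ (shiftFunctor (DCoh.D X) (p : ℤ)).map x.hom) ≫
        (shiftFunctorAdd' (DCoh.D X) (m : ℤ) (p : ℤ) (n : ℤ) (by lia)).inv.app _))
  rw [Category.id_comp]

end K802.ExtDual
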