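import Mathlib.Algebra.Homology.DerivedCategory.Ext.ExactSequences
import Mathlib.Algebra.Homology.DerivedCategory.Ext.Linear
import Mathlib.LinearAlgebra.FiniteDimensional.Lemmas

/-!
# The kernel of the map on first Ext groups
-/

set_option autoImplicit false

namespace K802.ExtKer

open CategoryTheory CategoryTheory.Limits CategoryTheory.Abelian

universe w v u t

variable {C : Type u} [Category.{v} C] [Abelian C] [HasExt.{w} C] {S : ShortComplex C} (hS : S.ShortExact)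
  (P : C)

include hS in
theorem exists_ne_zero (h : ∃ t : P ⟶ S.X₃, t ≠ 0) (hsec : ∀ u : P ⟶ S.X₂, u ≫ S.g = 0) :
    ∃ s : Ext.{w} P S.X₁ 1, s ≠ 0 ∧ s.comp (Ext.mk₀ S.f) (add_zero 1) = 0 := by
  obtain ⟨t, ht⟩ := h
  refine ⟨(Ext.mk₀ t).comp hS.extClass (zero_add 1), fun h0 => ?_, ?_⟩
  · obtain ⟨x, hx⟩ := Ext.covariant_sequence_exact₃ _ hS (Ext.mk₀ t) (zero_add 1) h0
    obtain ⟨u, rfl⟩ := (Ext.mk₀_bijective _ _).2 x
    apply ht
    apply (Ext.mk₀_bijective _ _).1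
    rw [← hx, Ext.mk₀_comp_mk₀, hsec u]
  · rw [Ext.comp_assoc_of_third_deg_zero, hS.extClass_comp, Ext.comp_zero]

include hS in
theorem eq_zero {k : Type t} [Field k] [Linear k C] (h1 : Module.finrank k (P ⟶ S.X₃) = 1)
    (u : P ⟶ S.X₂) (hu : u ≫ S.g ≠ 0) (s : Ext.{w} P S.X₁ 1)
    (hs : s.comp (Ext.mk₀ S.f) (add_zero 1) = 0) : s = 0 := by
  obtain ⟨x, rfl⟩ := Ext.covariant_sequence_exact₁ _ hS s hs (zero_add 1)
  obtain ⟨t, rfl⟩ := (Ext.mk₀_bijective _ _).2 x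
  rw [finrank_eq_one_iff_of_nonzero' _ hu] at h1
  obtain ⟨c, hc⟩ := h1 t
  have h3 : (Ext.mk₀ (u ≫ S.g)).comp hS.extClass (zero_add 1) = 0 := by
    rw [← Ext.mk₀_comp_mk₀, Ext.comp_assoc_of_second_deg_zero, hS.comp_extClass, Ext.comp_zero]
  have h5 : Ext.mk₀ t = c • Ext.mk₀ (u ≫ S.g) := by
    rw [← Ext.mk₀_smul, hc]
  rw [h5, Ext.smul_comp, h3, smul_zero]

end K802.ExtKer
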