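import Groth.Agent.AdjLin.K802.QuotDim
import Groth.Agent.AdjLin.K802.CoverDim
import Groth.Agent.AdjLin.K802.ExtDual
import Groth.Agent.AdjLin.K802.ExtKer
import Groth.Agent.PerfB.TensExact

/-!
# The kernel of `H¹(I ⊗ N) → H¹(I' ⊗ N)` for a minimal overideal `I'`
-/

set_option autoImplicit false

universe u

open CategoryTheory CategoryTheory.Limits CategoryTheory.Abelian AlgebraicGeometry

attribute [local instance] HasDerivedCategory.standard

namespace K802.CoverKernel

open Groth.Agent Groth.Agent.Fdesc.LocGen Groth.Agent.CurvesC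
open K802.EvalMap K802.EvalDim

section Sections

variable {X : Scheme.{u}} {N : X.Modules}

/-- The multiplication `I ⊗ N ⟶ N`. -/
noncomputable def muT (I : X.IdealSheafData) (N : X.Modules) :
    (DCoh.tensorRightMod N).obj (ClSub.idealMod I) ⟶ N := CurvesB.SepLift.mu I N

theorem map_mu {I I' : X.IdealSheafData} (φ : ClSub.idealMod I ⟶ ClSub.idealMod I')
    (hφ : φ ≫ ClSub.idealModι I' = ClSub.idealModι I) :
    (DCoh.tensorRightMod N).map φ ≫ muT I' N = muT I N := by
  have h1 := PerfB.TensExact.tensorRightMod_map_eq N φ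
  have h2 : Ega2.Tens.mapT φ (𝟙 N) ≫ CurvesB.SepLift.mu I' N = CurvesB.SepLift.mu I N := by
    rw [CurvesB.SepLift.mu, CurvesB.SepLift.mu, ← Category.assoc, ← Ega2.Tens.mapT_comp, hφ,
      Category.comp_id]
  refine Eq.trans ?_ h2
  rw [h1]
  rfl

/-- The zero scheme of a section is contained in `I'` exactly when the section comes from `I' ⊗ N`. -/
theorem zeroScheme_le_iff_exists (hN : PicF.IsInvertible N) {I I' : X.IdealSheafData} (hle : I ≤ I')
    {V : X.affineOpens} (hV : (I.support : Set X) ⊆ (V : X.Opens)) {e : Γ(N, (V : X.Opens))} (he : IsGen e)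
    (σ : Coh.structureModule X ⟶ N) :
    PicF2.zeroScheme N σ ≤ I' ↔
      ∃ u : Coh.structureModule X ⟶ (DCoh.tensorRightMod N).obj (ClSub.idealMod I'), u ≫ muT I' N = σ := by
  have hV' : (I'.support : Set X) ⊆ (V : X.Opens) :=
    Set.Subset.trans (Scheme.IdealSheafData.support_antitone hle) hV
  rw [zeroScheme_le_iff hN hle hV he, ← Ideal.Quotient.eq_zero_iff_mem, ← rho_apply,
    rho_eq_zero_iff hN hV' he]
  constructor
  · rintro ⟨t, ht⟩
    refine ⟨homOf (M := CohB1.tensorMod (ClSub.idealMod I') N) t, hom_ext_sec ?_⟩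
    refine (sec_comp (M := CohB1.tensorMod (ClSub.idealMod I') N) _ _ _).trans ?_
    rw [sec_homOf, res_refl]
    exact ht
  · rintro ⟨u, rfl⟩
    exact ⟨sec (M := CohB1.tensorMod (ClSub.idealMod I') N) u ⊤,
      (sec_comp (M := CohB1.tensorMod (ClSub.idealMod I') N) _ _ _).symm⟩

/-- The Cayley–Bacharach condition at `I'` in terms of sections of `I' ⊗ N`. -/
theorem cb_iff (hN : PicF.IsInvertible N) {I I' : X.IdealSheafData} (hle : I ≤ I')
    {V : X.affineOpens} (hV : (I.support : Set X) ⊆ (V : X.Opens)) {e : Γ(N, (V : X.Opens))} (he : IsGen e)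
    (φ : ClSub.idealMod I ⟶ ClSub.idealMod I') (hφ : φ ≫ ClSub.idealModι I' = ClSub.idealModι I) :
    (∀ σ : Coh.structureModule X ⟶ N, PicF2.zeroScheme N σ ≤ I' → PicF2.zeroScheme N σ ≤ I) ↔
      ∀ u : Coh.structureModule X ⟶ (DCoh.tensorRightMod N).obj (ClSub.idealMod I'),
        ∃ v : Coh.structureModule X ⟶ (DCoh.tensorRightMod N).obj (ClSub.idealMod I),
          v ≫ (DCoh.tensorRightMod N).map φ = u := by
  have hmono : Mono (muT I' N) := CurvesB.SepLift.mono_mu I' hN
  constructor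
  · intro h u
    obtain ⟨v, hv⟩ := (zeroScheme_le_iff_exists hN le_rfl hV he _).1
      (h (u ≫ muT I' N) ((zeroScheme_le_iff_exists hN hle hV he _).2 ⟨u, rfl⟩))
    refine ⟨v, ?_⟩
    rw [← cancel_mono (muT I' N), Category.assoc, map_mu φ hφ]
    exact hv
  · intro h σ hσ
    obtain ⟨u, rfl⟩ := (zeroScheme_le_iff_exists hN hle hV he _).1 hσ
    obtain ⟨v, rfl⟩ := h u
    refine (zeroScheme_le_iff_exists hN le_rfl hV he _).2 ⟨v, ?_⟩
    rw [Category.assoc, map_mu φ hφ]

end Sections

section Kernel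

variable (k : Type u) [Field k] {X : Scheme.{u}} [X.Over (Spec (CommRingCat.of k))] [HasExt.{u} X.Modules]

attribute [local instance] LinMod.linearModules

theorem finrank_hom (F : X.Modules) :
    Module.finrank k (Coh.structureModule X ⟶ F) = Module.finrank k (Coh.HH X F 0) := by
  rw [← (Ext.linearEquiv₀ (R := k) (X := Coh.structureModule X) (Y := F)).finrank_eq,
    (ExtDual.extHH k X F 0).finrank_eq]

theorem finrank_quot_eq [IsAlgClosed k] [IsProper (X ↘ (Spec (CommRingCat.of k)))] {I I' : X.IdealSheafData}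
    (hcov : I ⋖ I') {V : X.affineOpens} [QuasiCompact (V : X.Opens).ι]
    (hV : (I.support : Set X) ⊆ (V : X.Opens)) :
    Module.finrank k (Coh.HH X (ClSub.quotMod I) 0) = Module.finrank k (Coh.HH X (ClSub.quotMod I') 0) + 1 := by
  have hV' : (I'.support : Set X) ⊆ (V : X.Opens) :=
    Set.Subset.trans (Scheme.IdealSheafData.support_antitone hcov.le) hV
  have hX := SurfBase.isNoetherian (X ↘ (Spec (CommRingCat.of k)))
  have hfinQ : Module.Finite k (Coh.HH X (ClSub.quotMod I) 0) :=
    S0002.result k X _ (VarietyB.DegCartier.isCoh_quotMod I) 0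
  let _ := alg k I V
  let _ := alg k I' V
  obtain ⟨h1, h2⟩ := finrank_quot k I hV
  obtain ⟨h3, h4⟩ := finrank_quot k I' hV'
  have hfinR := h2 hfinQ
  rw [← h1, ← h3]
  exact CoverDim.finrank_quotient_eq (SubIdeal.covBy_ideal_of_covBy hV hcov) (fun t => rfl)

variable [IsAlgClosed k] [IsProper (X ↘ (Spec (CommRingCat.of k)))] {N : X.Modules}
  (hN : PicF.IsInvertible N) [(DCoh.tensorRightMod N).IsEquivalence] {I I' : X.IdealSheafData}
  (hcov : I ⋖ I') {V : X.affineOpens} [QuasiCompact (V : X.Opens).ι]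
  (hV : (I.support : Set X) ⊆ (V : X.Opens)) {e : Γ(N, (V : X.Opens))} (he : IsGen e)
  (hfin : (I.support : Set X).Finite)
  (φ : ClSub.idealMod I ⟶ ClSub.idealMod I') (hφ : φ ≫ ClSub.idealModι I' = ClSub.idealModι I)

include hN hcov hV hfin hφ in
theorem finrank_hom_eq_one :
    Module.finrank k (Coh.structureModule X ⟶ (DCoh.tensorRightMod N).obj (cokernel φ)) = 1 := by
  have h1 := QuotDim.finrank_quotient k hN hcov.le hfin φ hφ
  have h2 := finrank_quot_eq k hcov hV
  rw [finrank_hom]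
  change Module.finrank k (Coh.HH X (CohB1.tensorMod (cokernel φ) N) 0) = 1
  omega

include hφ in
theorem mono_of : Mono φ := by
  have := PerfA.IdealModule.mono_idealModι I
  have h4 : Mono (φ ≫ ClSub.idealModι I') := by rw [hφ]; infer_instance
  exact mono_of_mono φ (ClSub.idealModι I')

/-- The sequence `0 → I → I' → Q → 0`. -/
noncomputable abbrev seqQ : ShortComplex X.Modules :=
  ShortComplex.mk φ (cokernel.π φ) (cokernel.condition φ)

include hφ in
theorem seqQ_shortExact : ((seqQ φ).map (DCoh.tensorRightMod N)).ShortExact := by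
  have hm := mono_of φ hφ
  have hS : (seqQ φ).ShortExact := { exact := ShortComplex.exact_cokernel φ }
  exact hS.map_of_exact _

include k hN hcov hV he hfin hφ in
/-- If the Cayley–Bacharach condition holds at `I'`, the kernel is nonzero. -/
theorem exists_ne_zero
    (hCB : ∀ σ : Coh.structureModule X ⟶ N, PicF2.zeroScheme N σ ≤ I' → PicF2.zeroScheme N σ ≤ I) :
    ∃ s : Ext.{u} (Coh.structureModule X) ((DCoh.tensorRightMod N).obj (ClSub.idealMod I)) 1,
      s ≠ 0 ∧ s.comp (Ext.mk₀ ((DCoh.tensorRightMod N).map φ)) (add_zero 1) = 0 := by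
  rw [cb_iff hN hcov.le hV he φ hφ] at hCB
  have h1 := finrank_hom_eq_one k hN hcov hV hfin φ hφ
  refine ExtKer.exists_ne_zero (seqQ_shortExact (N := N) φ hφ) (Coh.structureModule X) ?_ ?_
  · by_contra hcon
    push Not at hcon
    have : Subsingleton (Coh.structureModule X ⟶ (DCoh.tensorRightMod N).obj (cokernel φ)) :=
      ⟨fun a b => (hcon a).trans (hcon b).symm⟩
    rw [Module.finrank_zero_of_subsingleton] at h1
    omega
  · intro u
    obtain ⟨v, rfl⟩ := hCB u
    have h2 : (DCoh.tensorRightMod N).map φ ≫ (DCoh.tensorRightMod N).map (cokernel.π φ) = 0 := by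
      rw [← Functor.map_comp, cokernel.condition, Functor.map_zero]
    change (v ≫ (DCoh.tensorRightMod N).map φ) ≫ (DCoh.tensorRightMod N).map (cokernel.π φ) = 0
    rw [Category.assoc, h2, comp_zero]

include k hN hcov hV he hfin hφ in
/-- If the Cayley–Bacharach condition fails at `I'`, the kernel is zero. -/
theorem eq_zero
    (hCB : ¬ ∀ σ : Coh.structureModule X ⟶ N, PicF2.zeroScheme N σ ≤ I' → PicF2.zeroScheme N σ ≤ I)
    (s : Ext.{u} (Coh.structureModule X) ((DCoh.tensorRightMod N).obj (ClSub.idealMod I)) 1)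
    (hs : s.comp (Ext.mk₀ ((DCoh.tensorRightMod N).map φ)) (add_zero 1) = 0) : s = 0 := by
  rw [cb_iff hN hcov.le hV he φ hφ] at hCB
  push Not at hCB
  obtain ⟨u, hu⟩ := hCB
  have h1 := finrank_hom_eq_one k hN hcov hV hfin φ hφ
  have hS := seqQ_shortExact (N := N) φ hφ
  refine ExtKer.eq_zero hS (Coh.structureModule X) (k := k) h1 u ?_ s hs
  intro h0
  have hm := hS.mono_f
  obtain ⟨v, hv⟩ : ∃ v, v ≫ ((seqQ φ).map (DCoh.tensorRightMod N)).f = u :=
    ⟨hS.exact.lift u h0, hS.exact.lift_f _ _⟩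
  exact hu v hv

end Kernel

end K802.CoverKernel
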