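import Groth.Agent.Divis.AmpleFin
import Groth.Agent.Smoothlim.LineSec

/-!
# Affine neighbourhoods of finite sets on which invertible modules have generators
-/

set_option autoImplicit false

namespace K802.Nbhd

universe u

open CategoryTheory AlgebraicGeometry TopologicalSpace
open Groth.Agent Groth.Agent.Fdesc.LocGen

variable {X : Scheme.{u}}

/-- On an affine open containing a finite set of points an invertible module has a section generating it on a
smaller open containing the points. -/
theorem exists_gen {L : X.Modules} (hL : PicF.IsInvertible L) {W : X.Opens} (hW : IsAffineOpen W)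
    {E : Set X} (hE : E.Finite) (hEW : E ⊆ W) :
    ∃ (G : X.Opens) (_ : G ≤ W) (e : Γ(L, G)), E ⊆ G ∧ IsGen e := by
  obtain ⟨m, hm⟩ := Smoothlim.LineSec.exists_genAt_finite hL hW E hE hEW
  choose U hU hxU hgen using fun x : E => hm x.1 x.2
  have hle : ∀ x : E, U x ≤ ⨆ y : E, U y := fun x => le_iSup U x
  refine ⟨⨆ x : E, U x, iSup_le hU, res L (iSup_le hU) m, ?_, ?_⟩
  · intro x hx
    exact Opens.mem_iSup.mpr ⟨⟨x, hx⟩, hxU ⟨x, hx⟩⟩
  · refine IsGen.of_cover U hle le_rfl ?_
    intro x
    rw [res_res]
    exact hgen x

/-- A finite set of points on a scheme with an ample module lies in an affine open on which given invertible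
modules have generators. -/
theorem exists_affine {A : X.Modules} (hA : CohB1.IsAmple A) {ι : Type*} [Finite ι] (L : ι → X.Modules)
    (hL : ∀ i, PicF.IsInvertible (L i)) {E : Set X} (hE : E.Finite) :
    ∃ V : X.affineOpens, E ⊆ (V : X.Opens) ∧ ∀ i, ∃ e : Γ(L i, (V : X.Opens)), IsGen e := by
  classical
  have := Fintype.ofFinite ι
  obtain ⟨_, t, ht, -, haff⟩ := Divis.AmpleFin.exists_genLocus_of_finite hA E hE ⊤ (Set.subset_univ _)
  choose G hG e hEG he using fun i => exists_gen (hL i) haff hE ht
  obtain ⟨_, t', ht', hle, haff'⟩ := Divis.AmpleFin.exists_genLocus_of_finite hA E hE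
    (Finset.univ.inf G) (by
      intro x hx
      have : x ∈ ⋂ i ∈ Finset.univ, (G i : Set X) := by
        simp only [Set.mem_iInter]
        exact fun i _ => hEG i hx
      rw [Opens.coe_finset_inf]
      rw [Finset.inf_eq_iInf]
      simpa using this)
  refine ⟨⟨_, haff'⟩, ht', fun i => ⟨res (L i) (hle.trans (Finset.inf_le (Finset.mem_univ i))) (e i),
    (he i).res _⟩⟩

end K802.Nbhd
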