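import Groth.Agent.Fga.PicMon
import Groth.Agent.Sga2.LefPow644
import Groth.Agent.Grpsch.PicGrp
import Groth.Prelude.Def_DDual2

/-!
# Twisting short exact sequences by invertible modules, and class bookkeeping
-/

set_option autoImplicit false

namespace K802.TwistSES

universe u

open CategoryTheory CategoryTheory.Limits AlgebraicGeometry TopologicalSpace
open Groth.Agent Groth.Agent.Fga.PicMon

variable {X : Scheme.{u}}

/-- Replacing the ends of a short exact sequence by isomorphic objects. -/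
theorem transport {S : ShortComplex X.Modules} (h : S.ShortExact) {N₁ N₃ : X.Modules}
    (f₁ : S.X₁ ≅ N₁) (f₃ : S.X₃ ≅ N₃) :
    ∃ (a' : N₁ ⟶ S.X₂) (b' : S.X₂ ⟶ N₃) (w' : a' ≫ b' = 0),
      (ShortComplex.mk a' b' w').ShortExact := by
  refine ⟨f₁.inv ≫ S.f, S.g ≫ f₃.hom, by simp, ?_⟩
  exact ShortComplex.shortExact_of_iso (S₁ := S)
    (ShortComplex.isoMk f₁ (Iso.refl _) f₃ (by simp) (by simp)) h

/-- Twisting a short exact sequence by an invertible module. -/
theorem twist {A : X.Modules} (hA : (DCoh.tensorRightMod A).IsEquivalence)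
    {M₁ M₂ M₃ : X.Modules} {a : M₁ ⟶ M₂} {b : M₂ ⟶ M₃} {w : a ≫ b = 0}
    (h : (ShortComplex.mk a b w).ShortExact) {N₁ N₃ : X.Modules}
    (h₁ : mc M₁ * mc A = mc N₁) (h₃ : mc M₃ * mc A = mc N₃) :
    ∃ (a' : N₁ ⟶ (DCoh.tensorRightMod A).obj M₂) (b' : (DCoh.tensorRightMod A).obj M₂ ⟶ N₃)
      (w' : a' ≫ b' = 0), (ShortComplex.mk a' b' w').ShortExact := by
  obtain ⟨e₁⟩ := (mc_eq_iff _ _).1 ((mc_tensor M₁ A).trans h₁)
  obtain ⟨e₃⟩ := (mc_eq_iff _ _).1 ((mc_tensor M₃ A).trans h₃)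
  exact transport (h.map_of_exact (DCoh.tensorRightMod A)) e₁ e₃

theorem mc_inv {L M : X.Modules} (e : Nonempty (CohB1.tensorMod L M ≅ Coh.structureModule X)) :
    mc L * mc M = 1 := (mc_eq_iff _ _).2 e

theorem isInvertible_of_iso {L M : X.Modules} (e : L ≅ M) (hL : PicF.IsInvertible L) :
    PicF.IsInvertible M := by
  intro x
  obtain ⟨U, hx, ⟨i⟩⟩ := hL x
  exact ⟨U, hx, ⟨(Scheme.Modules.restrictFunctor U.ι).mapIso e.symm ≪≫ i⟩⟩

/-- The inverse of an invertible module is invertible. -/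
theorem isInvertible_of_inv {L M : X.Modules} (hL : PicF.IsInvertible L) (h : mc L * mc M = 1) :
    PicF.IsInvertible M := by
  obtain ⟨M', hM', e⟩ := Grpsch.PicGrp.exists_inverse hL
  have h1 := mc_inv e
  have h2 : mc M = mc M' := by
    calc mc M = mc M * (mc L * mc M') := by rw [h1, mul_one]
      _ = (mc L * mc M) * mc M' := by rw [← mul_assoc, mul_comm (mc M)]
      _ = mc M' := by rw [h, one_mul]
  obtain ⟨e2⟩ := (mc_eq_iff _ _).1 h2
  exact isInvertible_of_iso e2.symm hM'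

theorem isEquivalence {A B : X.Modules} (h : mc A * mc B = 1) :
    (DCoh.tensorRightMod A).IsEquivalence := by
  obtain ⟨e⟩ := (mc_eq_iff _ _).1 ((mc_tensor A B).trans h)
  exact Sga2.LefPow644.isEquivalence_of_inv e

end K802.TwistSES
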