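import Groth.Agent.AdjLin.K802.BogSes
import Groth.Agent.AdjLin.K802.TwistSES
import Groth.Agent.AdjLin.K802.CoverKernel
import Groth.Agent.AdjLin.K802.Nbhd
import Groth.Agent.AdjLin.K801.Amp
import Groth.Agent.Surf.K464.Comp
import Groth.Agent.Surf.K464.Ample
import Groth.Agent.ArSurf.K480.GGCurve
import Groth.Agent.Pi1C.ZeroScheme
import Groth.Agent.Divis.NormAmple

/-!
# Tools for the final step of Bogomolov's inequality

* `exists_twisted`: a non-zero section of `W` gives a non-zero morphism `M ⟶ V` if `W ⊗ M ≅ V`;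
* `exists_section_of_le`: a non-zero section of `N` vanishing on `I` gives a non-zero section of `N ⊗ I`;
* `zeroScheme_le`: the zero scheme of a section in terms of its rational function;
* `dot_nonpos`: degree of an invertible module whose inverse has a non-zero section.
-/

set_option autoImplicit false
universe u
open CategoryTheory CategoryTheory.Limits AlgebraicGeometry TopologicalSpace Opposite
open Groth.Agent
open Groth.Agent.Fdesc.LocGen Groth.Agent.Lefpen.H725.CocDef Groth.Agent.Lefpen.H521.CartierCoc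
open K801.Cousin K801.CousinH1 K802.SesVal
open Groth.Agent.Fga.PicMon Groth.Agent.Grpsch.PicGrp K464.Base K464.Curves K464.Comp K464.Ample
open Groth.Agent.Divis.CartierBasic (stalkIdeal)

noncomputable section

namespace K802.BogFin

section twist

variable {X : Scheme.{u}}

theorem exists_twisted {W V M M' : X.Modules} (s : Coh.structureModule X ⟶ W) (hs : s ≠ 0)
    (hM : mc M * mc M' = 1) (h : mc W * mc M = mc V) : ∃ φ : M ⟶ V, φ ≠ 0 := by
  have hE := K802.TwistSES.isEquivalence hM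
  have h1 : mc (CohB1.tensorMod W M) = mc V := by rw [mc_tensor, h]
  have h2 : mc (CohB1.tensorMod (Coh.structureModule X) M) = mc M := by rw [mc_tensor, mc_one, one_mul]
  obtain ⟨e⟩ := (mc_eq_iff _ _).1 h1
  obtain ⟨r⟩ := (mc_eq_iff _ _).1 h2
  let e' : (DCoh.tensorRightMod M).obj W ≅ V := e
  let r' : (DCoh.tensorRightMod M).obj (Coh.structureModule X) ≅ M := r
  refine ⟨r'.inv ≫ (DCoh.tensorRightMod M).map s ≫ e'.hom, ?_⟩
  intro h0
  apply hs
  have h4 : (DCoh.tensorRightMod M).map s = 0 := by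
    have h5 : r'.hom ≫ (r'.inv ≫ (DCoh.tensorRightMod M).map s ≫ e'.hom) ≫ e'.inv = 0 := by
      rw [h0, zero_comp, comp_zero]
    rwa [Category.assoc, Category.assoc, e'.hom_inv_id, Category.comp_id, r'.hom_inv_id_assoc] at h5
  exact (DCoh.tensorRightMod M).map_injective (h4.trans ((DCoh.tensorRightMod M).map_zero _ _).symm)

theorem exists_section_of_le {H : X.Modules} (hH : CohB1.IsAmple H) {N : X.Modules}
    (hN : PicF.IsInvertible N) {I : X.IdealSheafData} (hfin : (I.support : Set X).Finite)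
    (σ : Coh.structureModule X ⟶ N) (hσ : σ ≠ 0) (hle : PicF2.zeroScheme N σ ≤ I) :
    ∃ τ : Coh.structureModule X ⟶ CohB1.tensorMod N (ClSub.idealMod I), τ ≠ 0 := by
  obtain ⟨V, hV, he⟩ := K802.Nbhd.exists_affine hH (fun _ : Unit => N) (fun _ => hN) hfin
  obtain ⟨e, he⟩ := he ()
  obtain ⟨u, hu⟩ := (K802.CoverKernel.zeroScheme_le_iff_exists hN (le_refl I) hV he σ).1 hle
  have h1 : mc (CohB1.tensorMod (ClSub.idealMod I) N) = mc (CohB1.tensorMod N (ClSub.idealMod I)) := by
    rw [mc_tensor, mc_tensor, mul_comm]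
  obtain ⟨r⟩ := (mc_eq_iff _ _).1 h1
  let r' : (DCoh.tensorRightMod N).obj (ClSub.idealMod I) ≅ CohB1.tensorMod N (ClSub.idealMod I) := r
  refine ⟨u ≫ r'.hom, ?_⟩
  intro h0
  apply hσ
  have h2 : u = 0 := by
    have h5 : (u ≫ r'.hom) ≫ r'.inv = 0 := by rw [h0, zero_comp]
    rwa [Category.assoc, r'.hom_inv_id, Category.comp_id] at h5
  rw [← hu, h2, zero_comp]

end twist

section zero

variable {X : Scheme.{u}} [IsIntegral X] {N : X.Modules} {c : X → X.functionField}

/-- The zero scheme of a section in terms of its rational function. -/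
theorem zeroScheme_le (hN : PicF.IsInvertible N) (D : Dat N c) (s : Coh.structureModule X ⟶ N)
    {I : X.IdealSheafData} (h : ∀ x, K801.Amp.sv D s / c x ∈ Ix I x) : PicF2.zeroScheme N s ≤ I := by
  refine Groth.Agent.Divis.CartierBasic.le_of_stalkIdeal fun x => ?_
  obtain ⟨_, ⟨A, rfl⟩, hxA, hA⟩ :=
    Opens.isBasis_iff_nbhd.mp (Groth.Agent.Sga67.Sec.affineBasis X) (D.hU x)
  have hAU : A.1 ≤ D.U x := hA
  have he := (D.gen x).res hAU
  obtain ⟨a, ha⟩ := he.exists_eq (sec s A.1)
  rw [Groth.Agent.Divis.CartierBasic.stalkIdeal_eq _ A hxA,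
    Groth.Agent.Pi1C.ZeroScheme.ideal_eq_span s hN A he ha, Ideal.map_span, Set.image_singleton,
    Ideal.span_singleton_le_iff_mem]
  have hη : genericPoint X ∈ A.1 := gen_mem hxA
  have h1 : K801.Amp.sv D s = ff A.1 hη a * c x := by
    rw [K801.Amp.sv, D.value_const _ _ (⟨x, trivial⟩ : (⊤ : X.Opens))]
    refine D.value_eq_of (W := ⊤) (sec s ⊤) ⟨x, trivial⟩ (V := A.1) (le_inf le_top hAU) hη ?_
    rw [res_sec]
    exact ha
  obtain ⟨b, hb, hb'⟩ := mem_Ix.1 (h x)
  rw [h1, mul_div_cancel_right₀ _ (D.h0 x), ← algebraMap_germ hxA hη] at hb'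
  have h2 := IsFractionRing.injective (X.presheaf.stalk x) X.functionField hb'
  rw [← h2]
  exact hb

end zero

section deg

variable (k : Type u) [Field k] {X : Scheme.{u}} [X.Over (Spec (CommRingCat.of k))]
  [IsProper (X ↘ Spec (CommRingCat.of k))] [Smooth (X ↘ Spec (CommRingCat.of k))] [IsIntegral X]
  (hdim : topologicalKrullDim X = 2)

include hdim in
/-- The degree of an invertible module whose inverse has a non-zero section. -/
theorem dot_nonpos {N H : X.Modules} (hN : PicF.IsInvertible N) (hHi : PicF.IsInvertible H)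
    (hH : CohB1.IsAmple H) {c : X → X.functionField} (hc : HasCoc N c) {ρ : X.functionField}
    (hρ : ρ ≠ 0) (h : ∀ x, c x * ρ ∈ Ox x) : dot k X (mk N hN) (mk H hHi) ≤ 0 := by
  obtain ⟨N', hN', ⟨e⟩⟩ := exists_inverse hN
  have h1 : mc (CohB1.tensorMod N' N) = mc (Coh.structureModule X) := by
    rw [mc_tensor, mul_comm, ← mc_tensor]
    exact mc_eq e
  obtain ⟨e'⟩ := (mc_eq_iff _ _).1 h1
  obtain ⟨s, hs, hst⟩ := K484.CocIdeal.exists_hasCoc_inverse (M := N') (I := N) ⟨e'⟩ hc
  obtain ⟨D⟩ := nonempty_dat hs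
  obtain ⟨σ, hσ⟩ := K801.Amp.exists_sv D ρ (fun x => by
    rw [regAt_iff]
    have h2 : ρ / s x = (s x * c x)⁻¹ * (c x * ρ) := by
      have := hs.1 x
      have := hc.1 x
      field_simp
    rw [h2]
    exact Subring.mul_mem _ (K802.GcdLoc.unitAt_iff.1 (hst x)).2.2 (h x))
  have hσ0 : σ ≠ 0 := by
    rintro rfl
    apply hρ
    rw [← hσ, K801.Amp.sv]
    exact (vl_zero D (W := ⊤) trivial)
  obtain ⟨hE, hinv⟩ := K480.GGCurve.isInverseOf_zeroScheme hN' σ hσ0
  have h3 := mk_eq_ic_inv hinv hN' hE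
  have h4 : mk N hN = ic _ hE := by
    have h5 : mk N hN * mk N' hN' = 1 := by
      rw [mk_mul_mk, mk_eq_one_iff]
      exact ⟨e⟩
    rw [h3] at h5
    exact mul_inv_eq_one.1 h5
  rw [h4, dot_ic_eq]
  by_cases hne : PicF2.zeroScheme N' σ = ⊤
  · have h6 : degOn k X (PicF2.zeroScheme N' σ) (mk H hHi) = 0 := by rw [hne, degOn_top]
    rw [h6, neg_zero]
  · have h6 := degOn_pos_of_ample_eff k hdim hHi hH hE hne
    linarith

end deg

end K802.BogFin
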