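import Mathlib.Algebra.Polynomial.Homogenize
import Mathlib.FieldTheory.Galois.Basic
import Mathlib.RingTheory.Norm.Transitivity
import Groth.Agent.AdjLin.K802.BogAlg

/-!
# Binary forms of even degree and integrally closed subrings

A binary form `f ≠ 0` of degree `2m` over a field `K` of characteristic zero, and a family of
"frames" `p, q ∈ K²` over integrally closed subrings `R` of `K` in which the coefficients of `f`
are controlled by `δ^m / α`, `δ = det (p, q)`.  Either no root of `f` has multiplicity `> m`, and then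
the product of the differences of suitably paired roots gives a bound for `α`; or there is a unique
such root, it is rational, and it gives a linear form `l` for which the common divisor `γ` of
`l p`, `l q` is bounded by `γ^(2e) α / δ^e`.
-/

set_option autoImplicit false

open Polynomial

namespace K802.BogForm

open K802.BogAlg

theorem exists_pairing {α : Type*} [DecidableEq α] [Nonempty α] (m : ℕ) (S : Multiset α)
    (hS : S.card = 2 * m) (hc : ∀ a, S.count a ≤ m) :
    ∃ a b : ℕ → α, (∀ i < m, a i ≠ b i) ∧
      S = ∑ i ∈ Finset.range m, (a i ::ₘ b i ::ₘ (0 : Multiset α)) := by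
  induction m generalizing S with
  | zero =>
    refine ⟨fun _ => Classical.arbitrary α, fun _ => Classical.arbitrary α, fun i hi => absurd hi (Nat.not_lt_zero _), ?_⟩
    rw [Finset.range_zero, Finset.sum_empty]
    exact Multiset.card_eq_zero.1 (by simpa using hS)
  | succ m ih =>
    have hne : S.toFinset.Nonempty := by
      rw [Multiset.toFinset_nonempty]
      intro h
      rw [h] at hS
      simp at hS
    obtain ⟨a, haS, ha⟩ := Finset.exists_max_image S.toFinset (fun x => S.count x) hne
    have hne2 : (S.toFinset.erase a).Nonempty := by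
      rw [Finset.nonempty_iff_ne_empty]
      intro h
      have h1 : S.toFinset ⊆ {a} := by
        intro x hx
        by_contra hxa
        rw [Finset.mem_singleton] at hxa
        have : x ∈ S.toFinset.erase a := Finset.mem_erase.2 ⟨hxa, hx⟩
        rw [h] at this
        exact absurd this (Finset.notMem_empty _)
      have h2 : S.card = S.count a := by
        rw [← Multiset.toFinset_sum_count_eq]
        have h3 : S.toFinset = {a} := Finset.Subset.antisymm h1 (Finset.singleton_subset_iff.2 haS)
        rw [h3, Finset.sum_singleton]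
      have h3 := hc a
      omega
    obtain ⟨b, hbS, hb⟩ := Finset.exists_max_image (S.toFinset.erase a) (fun x => S.count x) hne2
    have hba : b ≠ a := (Finset.mem_erase.1 hbS).1
    have hbS' : b ∈ S := Multiset.mem_toFinset.1 (Finset.mem_erase.1 hbS).2
    have haS' : a ∈ S := Multiset.mem_toFinset.1 haS
    obtain ⟨T, hT⟩ : ∃ T, S = a ::ₘ b ::ₘ T := by
      obtain ⟨T1, hT1⟩ := Multiset.exists_cons_of_mem haS'
      have : b ∈ T1 := by
        rw [hT1, Multiset.mem_cons] at hbS'
        exact hbS'.resolve_left hba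
      obtain ⟨T, hT⟩ := Multiset.exists_cons_of_mem this
      exact ⟨T, by rw [hT1, hT]⟩
    have hTc : T.card = 2 * m := by
      rw [hT, Multiset.card_cons, Multiset.card_cons] at hS
      omega
    obtain ⟨a', b', hab, hsum⟩ := ih T hTc (by
      intro c
      by_cases hca : c = a
      · subst hca
        have h1 := hc c
        rw [hT, Multiset.count_cons_self] at h1
        have h2 := Multiset.count_le_count_cons c b T
        omega
      · by_cases hcb : c = b
        · subst hcb
          have h1 := hc c
          rw [hT, Multiset.count_cons_of_ne hca, Multiset.count_cons_self] at h1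
          omega
        · by_contra hlt
          push Not at hlt
          have h1 : S.count c = T.count c := by
            rw [hT, Multiset.count_cons_of_ne hca, Multiset.count_cons_of_ne hcb]
          have hcS : c ∈ S.toFinset := by
            rw [Multiset.mem_toFinset, ← Multiset.one_le_count_iff_mem]
            omega
          have h2 := ha c hcS
          have h3 := hb c (Finset.mem_erase.2 ⟨hca, hcS⟩)
          have h4 : S.count a + (S.count b + S.count c) ≤ S.card := by
            rw [← Multiset.toFinset_sum_count_eq]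
            have h5 : ({a, b, c} : Finset α) ⊆ S.toFinset := by
              intro x hx
              simp only [Finset.mem_insert, Finset.mem_singleton] at hx
              rcases hx with rfl | rfl | rfl
              · exact haS
              · exact (Finset.mem_erase.1 hbS).2
              · exact hcS
            refine le_trans (le_of_eq ?_) (Finset.sum_le_sum_of_subset h5)
            rw [Finset.sum_insert, Finset.sum_insert, Finset.sum_singleton]
            · simpa using fun h : b = c => hcb h.symm
            · simp only [Finset.mem_insert, Finset.mem_singleton, not_or]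
              exact ⟨fun h => hba h.symm, fun h => hca h.symm⟩
          omega)
    refine ⟨fun i => if i = m then a else a' i, fun i => if i = m then b else b' i, ?_, ?_⟩
    · intro i hi
      by_cases him : i = m
      · simp only [him, if_true]
        exact fun h => hba h.symm
      · simp only [him, if_false]
        exact hab i (by omega)
    · rw [Finset.sum_range_succ]
      simp only [if_true]
      have h1 : ∑ i ∈ Finset.range m, ((if i = m then a else a' i) ::ₘ (if i = m then b else b' i) ::ₘ
          (0 : Multiset α)) = ∑ i ∈ Finset.range m, (a' i ::ₘ b' i ::ₘ (0 : Multiset α)) := by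
        refine Finset.sum_congr rfl fun i hi => ?_
        have : i ≠ m := (Finset.mem_range.1 hi).ne
        simp only [this, if_false]
      rw [h1, ← hsum, hT, Multiset.add_cons, Multiset.add_cons, add_zero]

variable {K : Type*} [Field K]

/-- The restriction of a binary form to the line `T ↦ T p + q`. -/
noncomputable def line (p q : Fin 2 → K) (f : MvPolynomial (Fin 2) K) : K[X] :=
  MvPolynomial.aeval (fun i => C (p i) * X + C (q i)) f

/-- The determinant. -/
def dt (p q : Fin 2 → K) : K := p 0 * q 1 - p 1 * q 0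

theorem natDegree_aeval_le {n : ℕ} {q : MvPolynomial (Fin 2) K} (hq : q.IsHomogeneous n) :
    (MvPolynomial.aeval ![(X : K[X]), 1] q).natDegree ≤ n := by
  rw [q.as_sum, MvPolynomial.aeval_sum]
  refine natDegree_sum_le_of_forall_le _ _ fun d hd => ?_
  rw [MvPolynomial.aeval_monomial]
  have h1 : d 0 ≤ n := by
    have h2 : d.degree = n := by
      by_contra h
      exact (MvPolynomial.mem_support_iff.1 hd) (hq.coeff_eq_zero h)
    rw [← h2, Finsupp.degree_eq_sum, Fin.sum_univ_two]
    omega
  rw [Finsupp.prod_fintype _ _ (by simp), Fin.prod_univ_two]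
  simp only [Matrix.cons_val_zero, Matrix.cons_val_one, one_pow, mul_one]
  rw [← C_eq_algebraMap]
  exact (natDegree_C_mul_X_pow_le _ _).trans h1

theorem exists_unip [Infinite K] {n : ℕ} {f : MvPolynomial (Fin 2) K} (hf : f.IsHomogeneous n)
    (hf0 : f ≠ 0) : ∃ b : K, MvPolynomial.eval ![b, 1] f ≠ 0 := by
  by_contra hcon
  push Not at hcon
  have h1 : MvPolynomial.aeval ![(X : K[X]), 1] f = 0 := by
    apply Polynomial.funext
    intro r
    rw [eval_zero, ← hcon r]
    have h2 : (evalRingHom r).comp (MvPolynomial.aeval ![(X : K[X]), 1]).toRingHom =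
        (MvPolynomial.eval ![r, 1] : MvPolynomial (Fin 2) K →+* K) := by
      apply MvPolynomial.ringHom_ext
      · intro x
        simp
      · intro i
        fin_cases i <;> simp
    exact congrArg (fun g : MvPolynomial (Fin 2) K →+* K => g f) h2
  have h3 := homogenize_eq_of_isHomogeneous hf h1
  rw [homogenize_zero] at h3
  exact hf0 h3.symm

theorem line_map {K' : Type*} [Field K'] (φ : K →+* K') (p q : Fin 2 → K)
    (f : MvPolynomial (Fin 2) K) :
    (line p q f).map φ = line (fun i => φ (p i)) (fun i => φ (q i)) (MvPolynomial.map φ f) := by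
  have h2 : (mapRingHom φ).comp (MvPolynomial.aeval (fun i => C (p i) * X + C (q i))).toRingHom =
      ((MvPolynomial.aeval (fun i => C (φ (p i)) * X + C (φ (q i))) :
        MvPolynomial (Fin 2) K' →ₐ[K'] K'[X]).toRingHom).comp (MvPolynomial.map φ) := by
    apply MvPolynomial.ringHom_ext
    · intro x
      simp
    · intro i
      simp
  exact congrArg (fun g : MvPolynomial (Fin 2) K →+* K'[X] => g f) h2

/-- First case: all multiplicities are at most `m`. -/
theorem caseA (m : ℕ) {f : MvPolynomial (Fin 2) K} {F : K[X]}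
    (hF : F.homogenize (2 * m) = f) (hdeg : F.natDegree = 2 * m) (hF0 : F ≠ 0)
    (K' : Type*) [Field K'] [Algebra K K'] [FiniteDimensional K K']
    (hsp : (F.map (algebraMap K K')).Splits)
    (hroots : ∀ a : K', (F.map (algebraMap K K')).rootMultiplicity a ≤ m) :
    ∃ d, 1 ≤ d ∧ ∃ ρ : K, ρ ≠ 0 ∧ ∀ (R : Subring K), IC R → ∀ (p q : Fin 2 → K) (α : K), dt p q ≠ 0 →
      Co R (C (α / dt p q ^ m) * line p q f) → α ^ d * ρ ∈ R := by
  classical
  set φ := algebraMap K K' with hφ
  have hφi : Function.Injective φ := φ.injective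
  have hcard : (F.map φ).roots.card = 2 * m := by
    have h1 := hsp.natDegree_eq_card_roots
    rw [← h1, natDegree_map_eq_of_injective hφi, hdeg]
  obtain ⟨a, b, hab, hS⟩ := exists_pairing m (F.map φ).roots hcard (by
    intro x
    rw [count_roots]
    exact hroots x)
  set c : K' := φ F.leadingCoeff with hc
  have hc0 : c ≠ 0 := by
    rw [hc]
    exact (map_ne_zero φ).2 (leadingCoeff_ne_zero.2 hF0)
  -- factorisation
  have hfac : F.map φ = C c * ∏ i ∈ Finset.range m, ((X - C (a i)) * (X - C (b i))) := by
    have h1 := hsp.eq_prod_roots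
    rw [leadingCoeff_map] at h1
    rw [h1, hS, ← hc]
    congr 1
    have h2 : ∀ (s : Finset ℕ) (t : ℕ → Multiset K') (g : K' → K'[X]),
        Multiset.map g (∑ i ∈ s, t i) = ∑ i ∈ s, Multiset.map g (t i) := fun s t g =>
      map_sum (Multiset.mapAddMonoidHom g) t s
    rw [h2, Multiset.prod_sum]
    refine Finset.prod_congr rfl fun i _ => ?_
    simp
  -- the form over `K'`
  let g : MvPolynomial (Fin 2) K' := MvPolynomial.C c * ∏ i ∈ Finset.range m,
    ((MvPolynomial.X 0 - MvPolynomial.C (a i) * MvPolynomial.X 1) *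
      (MvPolynomial.X 0 - MvPolynomial.C (b i) * MvPolynomial.X 1))
  have hgh : g.IsHomogeneous (2 * m) := by
    have h1 : (∏ i ∈ Finset.range m,
        ((MvPolynomial.X 0 - MvPolynomial.C (a i) * MvPolynomial.X 1) *
        (MvPolynomial.X 0 - MvPolynomial.C (b i) * MvPolynomial.X 1) :
          MvPolynomial (Fin 2) K')).IsHomogeneous (∑ i ∈ Finset.range m, 2) := by
      refine MvPolynomial.IsHomogeneous.prod _ _ _ fun i _ => ?_
      refine MvPolynomial.IsHomogeneous.mul (m := 1) (n := 1) ?_ ?_
      · exact (MvPolynomial.isHomogeneous_X _ _).sub (MvPolynomial.isHomogeneous_C_mul_X _ _)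
      · exact (MvPolynomial.isHomogeneous_X _ _).sub (MvPolynomial.isHomogeneous_C_mul_X _ _)
    have h2 : ∑ i ∈ Finset.range m, 2 = 2 * m := by simp [mul_comm]
    rw [h2] at h1
    exact h1.C_mul c
  have hg : MvPolynomial.map φ f = g := by
    rw [← hF, ← homogenize_map]
    apply homogenize_eq_of_isHomogeneous hgh
    rw [hfac]
    simp only [g, map_mul, map_prod, map_sub, MvPolynomial.aeval_X, MvPolynomial.algHom_C,
      Matrix.cons_val_zero, Matrix.cons_val_one, mul_one, ← C_eq_algebraMap]
  set r : K' := c * ∏ i ∈ Finset.range m, (a i - b i) with hr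
  have hr0 : r ≠ 0 := by
    rw [hr]
    refine mul_ne_zero hc0 (Finset.prod_ne_zero_iff.2 fun i hi => ?_)
    exact sub_ne_zero.2 (hab i (Finset.mem_range.1 hi))
  refine ⟨Module.finrank K K', Module.finrank_pos, Algebra.norm K r, ?_, ?_⟩
  · exact (Algebra.norm_ne_zero_iff (R := K)).2 hr0
  intro R hR p q α hδ hCo
  set δ := dt p q with hδd
  -- the integral closure
  have hic : IsIntegral R (φ α * r) := by
    let R' : Subring K' := (integralClosure R K').toSubring
    have hR' : IC R' := by
      intro z hz
      have h1 : IsIntegral (integralClosure R K') z := hz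
      have h2 : IsIntegral R z := isIntegral_trans z h1
      exact h2
    have h1 : Co R' (C (φ (α / δ ^ m)) * (C c * ∏ i ∈ Finset.range m,
        ((C (φ (p 0) - a i * φ (p 1)) * X + C (φ (q 0) - a i * φ (q 1))) *
        (C (φ (p 0) - b i * φ (p 1)) * X + C (φ (q 0) - b i * φ (q 1)))))) := by
      have h2 : C (φ (α / δ ^ m)) * (C c * ∏ i ∈ Finset.range m,
        ((C (φ (p 0) - a i * φ (p 1)) * X + C (φ (q 0) - a i * φ (q 1))) *
        (C (φ (p 0) - b i * φ (p 1)) * X + C (φ (q 0) - b i * φ (q 1))))) =
          (C (α / δ ^ m) * line p q f).map φ := by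
        rw [Polynomial.map_mul, map_C, line_map, hg]
        congr 1
        simp only [g, line, map_mul, map_prod, map_sub, MvPolynomial.aeval_X,
          MvPolynomial.algHom_C, ← C_eq_algebraMap]
        congr 1
        refine Finset.prod_congr rfl fun i _ => ?_
        ring
      rw [h2]
      intro n
      rw [coeff_map]
      have h3 : IsIntegral R (φ ((C (α / δ ^ m) * line p q f).coeff n)) := by
        have h4 := isIntegral_algebraMap (R := R) (A := K')
          (x := ⟨(C (α / δ ^ m) * line p q f).coeff n, hCo n⟩)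
        exact h4
      exact h3
    rw [← mul_assoc, ← C_mul] at h1
    have h3 := bracket_mem hR' _ _ _ _ _ _ h1
    have h4 : φ (α / δ ^ m) * c * ∏ i ∈ Finset.range m,
        ((φ (p 0) - a i * φ (p 1)) * (φ (q 0) - b i * φ (q 1)) -
          (φ (q 0) - a i * φ (q 1)) * (φ (p 0) - b i * φ (p 1))) = φ α * r := by
      have h5 : ∀ i ∈ Finset.range m, ((φ (p 0) - a i * φ (p 1)) * (φ (q 0) - b i * φ (q 1)) -
          (φ (q 0) - a i * φ (q 1)) * (φ (p 0) - b i * φ (p 1))) = φ δ * (a i - b i) := by
        intro i _
        rw [hδd, dt, map_sub, map_mul, map_mul]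
        ring
      rw [Finset.prod_congr rfl h5, Finset.prod_mul_distrib, Finset.prod_const, Finset.card_range, hr,
        map_div₀, map_pow]
      have h6 : φ δ ^ m ≠ 0 := pow_ne_zero _ ((map_ne_zero φ).2 hδ)
      rw [div_mul_eq_mul_div, div_mul_eq_mul_div, div_eq_iff h6]
      ring
    rw [h4] at h3
    exact h3
  have h7 := Algebra.isIntegral_norm K hic
  rw [map_mul, hφ, Algebra.norm_algebraMap] at h7
  exact hR _ h7

theorem dt_ne_zero_smul (a : K) (p q : Fin 2 → K) (u v γ : K)
    (hu : p 0 - a * p 1 = γ * u) (hv : q 0 - a * q 1 = γ * v) (hγ : γ ≠ 0) :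
    p 1 * -v + q 1 * u = dt p q / γ ∧ p 0 * -v + q 0 * u = dt p q / γ * a := by
  have h1 : p 1 * -v + q 1 * u = dt p q / γ := by
    rw [eq_div_iff hγ]
    have h2 : (p 1 * -v + q 1 * u) * γ = -(p 1 * (γ * v)) + q 1 * (γ * u) := by ring
    rw [h2, ← hu, ← hv, dt]
    ring
  refine ⟨h1, ?_⟩
  have h3 : p 0 * -v + q 0 * u = a * (p 1 * -v + q 1 * u) := by
    have h4 : (p 0 - a * p 1) * -v + (q 0 - a * q 1) * u = 0 := by
      rw [hu, hv]; ring
    linear_combination h4
  rw [h3, h1, mul_comm]

/-- Second case: a root of multiplicity `> m`. -/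
theorem caseB (m : ℕ) {f : MvPolynomial (Fin 2) K} {F : K[X]}
    (hF : F.homogenize (2 * m) = f) (hdeg : F.natDegree = 2 * m) (hF0 : F ≠ 0)
    (a : K) (ha : m < F.rootMultiplicity a) :
    ∃ e, 1 ≤ e ∧ ∃ ρ : K, ρ ≠ 0 ∧ ∀ (R : Subring K), IC R → ∀ (p q : Fin 2 → K) (α : K), dt p q ≠ 0 →
      Co R (C (α / dt p q ^ m) * line p q f) → ∀ γ : K, γ ≠ 0 →
      Prim R ((p 0 - a * p 1) / γ) ((q 0 - a * q 1) / γ) →
      γ ^ (2 * e) * α * ρ / dt p q ^ e ∈ R := by
  set P := F.rootMultiplicity a with hP
  obtain ⟨G, hG, hGnd⟩ := exists_eq_pow_rootMultiplicity_mul_and_not_dvd F hF0 a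
  rw [← hP] at hG
  have hG0 : G ≠ 0 := by
    rintro rfl
    rw [mul_zero] at hG
    exact hF0 hG
  have hρ : G.eval a ≠ 0 := by
    intro h
    exact hGnd (dvd_iff_isRoot.2 h)
  have hdG : 2 * m = P + G.natDegree := by
    rw [← hdeg, hG, natDegree_mul (pow_ne_zero _ (X_sub_C_ne_zero a)) hG0, natDegree_pow,
      natDegree_X_sub_C, mul_one]
  set M := G.natDegree with hM
  obtain ⟨e, he⟩ : ∃ e, P = m + e := ⟨P - m, by omega⟩
  have he1 : 1 ≤ e := by omega
  have hMe : m = e + M := by omega
  have hfac : f = (MvPolynomial.X 0 - MvPolynomial.C a * MvPolynomial.X 1) ^ P * G.homogenize M := by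
    rw [← hF, hdG]
    apply homogenize_eq_of_isHomogeneous
    · refine MvPolynomial.IsHomogeneous.mul ?_ (isHomogeneous_homogenize G)
      have h1 := ((MvPolynomial.isHomogeneous_X K (0 : Fin 2)).sub
        (MvPolynomial.isHomogeneous_C_mul_X a (1 : Fin 2))).pow P
      rwa [one_mul] at h1
    · rw [map_mul, map_pow, aeval_homogenize_X_one _ le_rfl, hG]
      simp only [map_sub, map_mul, MvPolynomial.aeval_X, MvPolynomial.algHom_C,
        Matrix.cons_val_zero, Matrix.cons_val_one, mul_one, ← C_eq_algebraMap]
  refine ⟨e, he1, G.eval a, hρ, ?_⟩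
  intro R hR p q α hδ hCo γ hγ hprim
  set u := (p 0 - a * p 1) / γ with hu
  set v := (q 0 - a * q 1) / γ with hv
  have hu' : p 0 - a * p 1 = γ * u := by rw [hu]; field_simp
  have hv' : q 0 - a * q 1 = γ * v := by rw [hv]; field_simp
  obtain ⟨hl1, hl0⟩ := dt_ne_zero_smul a p q u v γ hu' hv' hγ
  set δ := dt p q with hδd
  set W : K[X] := C (α * γ ^ P / δ ^ m) * line p q (G.homogenize M) with hW
  have hCoW : Co R W := by
    refine prim_mem hR hprim P ?_
    convert hCo using 1
    rw [hW, hfac]
    simp only [line, map_mul, map_pow, map_sub, MvPolynomial.aeval_X,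
      MvPolynomial.algHom_C, ← C_eq_algebraMap]
    have h1 : (C (p 0) * X + C (q 0) - C a * (C (p 1) * X + C (q 1)) : K[X]) =
        C γ * (C u * X + C v) := by
      have h0 : (C γ * (C u * X + C v) : K[X]) = C (γ * u) * X + C (γ * v) := by
        rw [C_mul, C_mul]; ring
      rw [h0, ← hu', ← hv']
      simp only [C_sub, C_mul]
      ring
    rw [h1, mul_pow]
    have h2 : (C (α * γ ^ P / δ ^ m) : K[X]) = C (α / δ ^ m) * C γ ^ P := by
      rw [← C_pow, ← C_mul]
      congr 1
      ring
    rw [h2]
    ring
  -- homogeneous evaluation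
  obtain ⟨g, hg⟩ : ∃ g : MvPolynomial (Fin 2) K, g = MvPolynomial.C (α * γ ^ P / δ ^ m) *
      MvPolynomial.aeval (fun i => MvPolynomial.C (p i) * MvPolynomial.X 0 +
        MvPolynomial.C (q i) * MvPolynomial.X 1) (G.homogenize M) := ⟨_, rfl⟩
  have hgh : g.IsHomogeneous M := by
    have h1 : (MvPolynomial.aeval
      (fun i => MvPolynomial.C (p i) * MvPolynomial.X 0 + MvPolynomial.C (q i) * MvPolynomial.X 1 :
        Fin 2 → MvPolynomial (Fin 2) K) (G.homogenize M)).IsHomogeneous (1 * M) := by
      refine (isHomogeneous_homogenize G).aeval _ fun i => ?_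
      exact (MvPolynomial.isHomogeneous_C_mul_X _ _).add (MvPolynomial.isHomogeneous_C_mul_X _ _)
    rw [one_mul] at h1
    rw [hg]
    exact h1.C_mul _
  have hgW : W.homogenize M = g := by
    apply homogenize_eq_of_isHomogeneous hgh
    have h1 : (MvPolynomial.aeval ![(X : K[X]), 1] : MvPolynomial (Fin 2) K →ₐ[K] K[X])
        (MvPolynomial.aeval (fun i => MvPolynomial.C (p i) * MvPolynomial.X 0 +
          MvPolynomial.C (q i) * MvPolynomial.X 1 : Fin 2 → MvPolynomial (Fin 2) K)
          (G.homogenize M)) = line p q (G.homogenize M) := by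
      rw [← AlgHom.comp_apply, MvPolynomial.comp_aeval, line]
      congr 2
      funext i
      simp
    rw [hg, map_mul, h1, hW, MvPolynomial.algHom_C, ← C_eq_algebraMap]
  have hmem : MvPolynomial.eval ![-v, u] (W.homogenize M) ∈ R := by
    rw [homogenize, map_sum]
    refine R.sum_mem fun kl _ => ?_
    rw [MvPolynomial.eval_monomial]
    refine R.mul_mem (hCoW _) ?_
    rw [Finsupp.prod_fintype _ _ (by simp)]
    have h1 : ∀ i : Fin 2, ![-v, u] i ∈ R := by
      rw [Fin.forall_fin_two]
      exact ⟨R.neg_mem hprim.2.1, hprim.1⟩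
    exact R.prod_mem fun i _ => R.pow_mem (h1 i) _
  rw [hgW] at hmem
  have heval : MvPolynomial.eval ![-v, u] g = γ ^ (2 * e) * α * G.eval a / δ ^ e := by
    rw [hg, map_mul, MvPolynomial.eval_C]
    have h1 : MvPolynomial.eval ![-v, u] (MvPolynomial.aeval
      (fun i => MvPolynomial.C (p i) * MvPolynomial.X 0 + MvPolynomial.C (q i) * MvPolynomial.X 1)
      (G.homogenize M)) = MvPolynomial.eval (fun i => p i * -v + q i * u) (G.homogenize M) := by
      have h2 : (MvPolynomial.eval ![-v, u] : MvPolynomial (Fin 2) K →+* K).comp ((MvPolynomial.aeval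
        (fun i => MvPolynomial.C (p i) * MvPolynomial.X 0 + MvPolynomial.C (q i) * MvPolynomial.X 1) :
          MvPolynomial (Fin 2) K →ₐ[K] MvPolynomial (Fin 2) K).toRingHom) =
          MvPolynomial.eval (fun i => p i * -v + q i * u) := by
        apply MvPolynomial.ringHom_ext
        · intro x
          simp
        · intro i
          simp
      exact congrArg (fun g : MvPolynomial (Fin 2) K →+* K => g (G.homogenize M)) h2
    have hl1' : p 1 * -v + q 1 * u ≠ 0 := by
      rw [hl1]; exact div_ne_zero hδ hγ
    rw [h1, eval_homogenize le_rfl _ hl1']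
    rw [hl1, hl0, mul_div_cancel_left₀ _ (div_ne_zero hδ hγ)]
    have h3 : δ ^ m ≠ 0 := pow_ne_zero _ hδ
    have h4 : δ ^ e ≠ 0 := pow_ne_zero _ hδ
    have h5 : γ ^ M ≠ 0 := pow_ne_zero _ hγ
    rw [div_pow, div_mul_eq_mul_div, div_eq_div_iff h3 h4]
    have h6 : γ ^ P = γ ^ M * γ ^ (2 * e) := by
      rw [← pow_add]; congr 1; omega
    have h7 : δ ^ m = δ ^ M * δ ^ e := by
      rw [← pow_add]; congr 1; omega
    rw [h6, h7, ← hM]
    have h8 : (γ ^ M) ≠ 0 := h5
    field_simp
  rw [heval] at hmem
  exact hmem

/-- The alternative for a binary form. -/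
theorem main [CharZero K] (m : ℕ) {f : MvPolynomial (Fin 2) K} (hf : f.IsHomogeneous (2 * m))
    (hf0 : f ≠ 0) :
    (∃ d, 1 ≤ d ∧ ∃ ρ : K, ρ ≠ 0 ∧ ∀ (R : Subring K), IC R → ∀ (p q : Fin 2 → K) (α : K), dt p q ≠ 0 →
      Co R (C (α / dt p q ^ m) * line p q f) → α ^ d * ρ ∈ R) ∨
    (∃ l : Fin 2 → K, l ≠ 0 ∧ ∃ e, 1 ≤ e ∧ ∃ ρ : K, ρ ≠ 0 ∧
      ∀ (R : Subring K), IC R → ∀ (p q : Fin 2 → K) (α : K), dt p q ≠ 0 →
      Co R (C (α / dt p q ^ m) * line p q f) → ∀ γ : K, γ ≠ 0 →
      Prim R ((l 0 * p 0 + l 1 * p 1) / γ) ((l 0 * q 0 + l 1 * q 1) / γ) →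
      γ ^ (2 * e) * α * ρ / dt p q ^ e ∈ R) := by
  have : Infinite K := Infinite.of_injective (Nat.cast : ℕ → K) Nat.cast_injective
  obtain ⟨b, hb⟩ := exists_unip hf hf0
  -- the change of coordinates
  let T : (Fin 2 → K) → Fin 2 → K := fun p => ![p 1, b * p 1 - p 0]
  have hdt : ∀ p q, dt (T p) (T q) = dt p q := by
    intro p q
    simp only [dt, T, Matrix.cons_val_zero, Matrix.cons_val_one]
    ring
  obtain ⟨f', hf'⟩ : ∃ f' : MvPolynomial (Fin 2) K, f' = MvPolynomial.aeval
    (![MvPolynomial.C b * MvPolynomial.X 0 - MvPolynomial.X 1, MvPolynomial.X 0] :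
      Fin 2 → MvPolynomial (Fin 2) K) f := ⟨_, rfl⟩
  have hf'h : f'.IsHomogeneous (2 * m) := by
    have h1 : (MvPolynomial.aeval
      (![MvPolynomial.C b * MvPolynomial.X 0 - MvPolynomial.X 1, MvPolynomial.X 0] :
      Fin 2 → MvPolynomial (Fin 2) K) f).IsHomogeneous (1 * (2 * m)) := by
      refine hf.aeval _ ?_
      rw [Fin.forall_fin_two]
      exact ⟨(MvPolynomial.isHomogeneous_C_mul_X _ _).sub (MvPolynomial.isHomogeneous_X _ _),
        MvPolynomial.isHomogeneous_X _ _⟩
    rw [one_mul] at h1
    rw [hf']
    exact h1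
  have hline : ∀ p q, line (T p) (T q) f' = line p q f := by
    intro p q
    rw [line, hf', ← AlgHom.comp_apply, MvPolynomial.comp_aeval, line]
    congr 2
    funext i
    revert i
    rw [Fin.forall_fin_two]
    simp only [Matrix.cons_val_zero, Matrix.cons_val_one, map_sub, map_mul, MvPolynomial.aeval_X,
      MvPolynomial.algHom_C, ← C_eq_algebraMap, T]
    refine ⟨by ring, ?_⟩
    trivial
  set F : K[X] := MvPolynomial.aeval ![(X : K[X]), 1] f' with hFd
  have hF : F.homogenize (2 * m) = f' := homogenize_eq_of_isHomogeneous hf'h rfl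
  have hdle : F.natDegree ≤ 2 * m := natDegree_aeval_le hf'h
  have hcoeff : F.coeff (2 * m) ≠ 0 := by
    have h1 : MvPolynomial.eval ![1, 0] f' = MvPolynomial.eval ![b, 1] f := by
      have h2 : (MvPolynomial.eval ![1, 0] : MvPolynomial (Fin 2) K →+* K).comp
          ((MvPolynomial.aeval (![MvPolynomial.C b * MvPolynomial.X 0 - MvPolynomial.X 1,
            MvPolynomial.X 0] : Fin 2 → MvPolynomial (Fin 2) K) :
            MvPolynomial (Fin 2) K →ₐ[K] MvPolynomial (Fin 2) K).toRingHom) =
          MvPolynomial.eval ![b, 1] := by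
        apply MvPolynomial.ringHom_ext
        · intro x
          simp
        · rw [Fin.forall_fin_two]
          constructor <;> simp
      rw [hf']
      exact congrArg (fun g : MvPolynomial (Fin 2) K →+* K => g f) h2
    have h3 : MvPolynomial.eval ![1, 0] f' = F.coeff (2 * m) := by
      rw [← hF, homogenize, map_sum, Finset.sum_eq_single (2 * m, 0)]
      · rw [MvPolynomial.eval_monomial, Finsupp.prod_fintype _ _ (by simp), Fin.prod_univ_two]
        simp
      · rintro ⟨i, j⟩ hij hne
        rw [MvPolynomial.eval_monomial, Finsupp.prod_fintype _ _ (by simp), Fin.prod_univ_two]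
        have hj : j ≠ 0 := by
          rintro rfl
          rw [Finset.mem_antidiagonal] at hij
          exact hne (by rw [← hij]; simp)
        simp [hj]
      · intro h
        exact absurd (Finset.mem_antidiagonal.2 (by simp)) h
    rw [← h3, h1]
    exact hb
  have hF0 : F ≠ 0 := by
    intro h
    rw [h, coeff_zero] at hcoeff
    exact hcoeff rfl
  have hdeg : F.natDegree = 2 * m := le_antisymm hdle (le_natDegree_of_ne_zero hcoeff)
  by_cases hroots : ∀ a : F.SplittingField,
      (F.map (algebraMap K F.SplittingField)).rootMultiplicity a ≤ m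
  · left
    obtain ⟨d, hd, ρ, hρ, H⟩ := caseA m hF hdeg hF0 F.SplittingField (SplittingField.splits F) hroots
    refine ⟨d, hd, ρ, hρ, ?_⟩
    intro R hR p q α hδ hCo
    refine H R hR (T p) (T q) α ?_ ?_
    · rw [hdt]; exact hδ
    · rw [hdt, hline]; exact hCo
  · right
    push Not at hroots
    obtain ⟨a, ha⟩ := hroots
    -- the root is rational
    have hgal : IsGalois K F.SplittingField := by
      have : Algebra.IsAlgebraic K F.SplittingField := inferInstance
      exact ⟨⟩
    have hfix : ∀ σ : F.SplittingField ≃ₐ[K] F.SplittingField, σ a = a := by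
      classical
      intro σ
      by_contra hne
      have h1 : (F.map (algebraMap K F.SplittingField)).rootMultiplicity (σ a) =
          (F.map (algebraMap K F.SplittingField)).rootMultiplicity a := by
        have h2 := eq_rootMultiplicity_map (p := F.map (algebraMap K F.SplittingField))
          (f := (σ : F.SplittingField →+* F.SplittingField)) σ.injective a
        rw [h2, Polynomial.map_map]
        congr 2
        ext x
        simp
      have h3 : (F.map (algebraMap K F.SplittingField)).roots.count (σ a) +
          (F.map (algebraMap K F.SplittingField)).roots.count a ≤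
          (F.map (algebraMap K F.SplittingField)).roots.card := by
        rw [← Multiset.toFinset_sum_count_eq]
        rw [← count_roots, ← count_roots] at h1
        rw [← count_roots] at ha
        have h5 : ({σ a, a} : Finset _) ⊆
            (F.map (algebraMap K F.SplittingField)).roots.toFinset := by
          intro x hx
          rw [Multiset.mem_toFinset, ← Multiset.one_le_count_iff_mem]
          simp only [Finset.mem_insert, Finset.mem_singleton] at hx
          rcases hx with rfl | rfl <;> omega
        refine le_trans (le_of_eq ?_) (Finset.sum_le_sum_of_subset h5)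
        rw [Finset.sum_insert, Finset.sum_singleton]
        simpa using hne
      have h4 : (F.map (algebraMap K F.SplittingField)).roots.card ≤ 2 * m := by
        have := card_roots' (F.map (algebraMap K F.SplittingField))
        rw [natDegree_map] at this
        omega
      rw [count_roots, count_roots, h1] at h3
      omega
    obtain ⟨a0, ha0⟩ : ∃ a0 : K, algebraMap K F.SplittingField a0 = a := by
      have h1 := (IsGalois.mem_bot_iff_fixed (F := K) (E := F.SplittingField) a).2 hfix
      exact IntermediateField.mem_bot.1 h1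
    have ha1 : m < F.rootMultiplicity a0 := by
      rw [eq_rootMultiplicity_map (algebraMap K F.SplittingField).injective, ha0]
      exact ha
    obtain ⟨e, he, ρ, hρ, H⟩ := caseB m hF hdeg hF0 a0 ha1
    refine ⟨![a0, 1 - a0 * b], ?_, e, he, ρ, hρ, ?_⟩
    · intro h
      have h0 := congrFun h 0
      have h1 := congrFun h 1
      simp only [Matrix.cons_val_zero, Matrix.cons_val_one, Pi.zero_apply] at h0 h1
      rw [h0] at h1
      simp at h1
    intro R hR p q α hδ hCo γ hγ hprim
    have h := H R hR (T p) (T q) α (by rw [hdt]; exact hδ) (by rw [hdt, hline]; exact hCo) γ hγ ?_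
    · rw [hdt] at h; exact h
    · convert hprim using 2 <;>
      · simp only [T, Matrix.cons_val_zero, Matrix.cons_val_one]
        ring

end K802.BogForm
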