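import Groth.Agent.AdjLin.K802.SesVal

/-!
# The second half of Bogomolov's theorem

An extension `0 → O → E → L ⊗ I → 0` with `E` of rank two on an integral factorial scheme, and a non-zero
morphism `L^n ⊗ A ⟶ E^{⊗ 2n}` with `A` having no negative sections.  Then there is a saturated line in `E`:
a family `γ` (the cocycle of an invertible module `B⁻¹`) with `γ^(2e) a ℓ^e ρ` regular, and either `γ` is
constant up to units or `L ⊗ B⁻¹ ⊗ I` has a non-zero section.
-/

set_option autoImplicit false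
universe u
open CategoryTheory CategoryTheory.Limits AlgebraicGeometry TopologicalSpace Opposite
open scoped TensorProduct
open Groth.Agent.Sga67.Sec Groth.Agent.Sga67.LocBasis Groth.Agent.Sga67.ExtSheaf
open Groth.Agent.Lefpen.H725.CocDef Groth.Agent.Lefpen.H521.CartierCoc K801.Cousin K801.CousinH1
open K802.LocVal K802.Frame K802.SesVal K802.BogForm K802.BogAlg K802.GcdLoc

noncomputable section

namespace K802.BogSes

variable {X : Scheme.{u}} [IsIntegral X]

section ids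

variable {K : Type*} [Field K]

theorem id0 {ω ℓ m : K} (hℓ : ℓ ≠ 0) (a : K) (n : ℕ) :
    ℓ ^ n * a * (ω * m / ℓ) ^ n = a * (ω * m) ^ n := by
  rw [div_pow]
  field_simp

theorem id1 {ω ℓ m : K} (hω : ω ≠ 0) (hℓ : ℓ ≠ 0) (a ρ : K) (n d : ℕ) :
    a ^ d * (ρ * m ^ (n * d)) = (ω ^ (n * d))⁻¹ * ((ℓ ^ n * a * (ω * m / ℓ) ^ n) ^ d * ρ) := by
  rw [id0 hℓ, mul_pow a, ← pow_mul, mul_pow ω m]
  have : ω ^ (n * d) ≠ 0 := pow_ne_zero _ hω
  field_simp

theorem id2 {ω ℓ m : K} (hω : ω ≠ 0) (hℓ : ℓ ≠ 0) (hm : m ≠ 0) (a ρ g : K) (n e : ℕ) :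
    g * a * ℓ ^ e * (ρ * m ^ n / m ^ e) =
      (ω ^ n)⁻¹ * ω ^ e * (g * (ℓ ^ n * a * (ω * m / ℓ) ^ n) * ρ / (ω * m / ℓ) ^ e) := by
  rw [id0 hℓ, mul_pow ω m, div_pow, mul_pow ω m]
  have h1 : ω ^ n ≠ 0 := pow_ne_zero _ hω
  have h2 : ω ^ e ≠ 0 := pow_ne_zero _ hω
  have h3 : ℓ ^ e ≠ 0 := pow_ne_zero _ hℓ
  have h4 : m ^ e ≠ 0 := pow_ne_zero _ hm
  field_simp

end ids

section rho

variable {E L' : X.Modules} (F : Fr E) (π : E ⟶ L') {c : X → X.functionField} (D : Dat L' c)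

/-- The value of the image of the `j`-th element of the frame at `x`. -/
def rho (x : X) (j : Fin 2) : X.functionField := vl D (F.hη x) (appS π (F.U x) (F.e x j))

theorem rho_trans (x : X) (i : Fin 2) : ∑ j, F.p x j i * rho F π D x j = rho F π D (genericPoint X) i := by
  obtain ⟨h, hh⟩ := F.exists_mat (genericPoint X) x
  have hη : genericPoint X ∈ F.U (genericPoint X) ⊓ F.U x := mem_inf (F.hη _) (F.hη x)
  have h1 : ∀ j, ff (F.U (genericPoint X) ⊓ F.U x) hη (h i j) = F.p x j i := by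
    intro j
    exact (cf_eq (F.he x) (F.hη x) (F.hη _) (F.e _ i) inf_le_left inf_le_right
      hη (h i) (hh i).symm j).symm
  have h2 := congrArg (appS π (F.U (genericPoint X) ⊓ F.U x)) (hh i)
  rw [map_sum] at h2
  have h3 := congrArg (vl D hη) h2
  rw [vl_sum, appS_res, vl_res] at h3
  rw [rho, h3]
  refine Finset.sum_congr rfl fun j _ => ?_
  rw [map_smul, vl_smul, appS_res, vl_res, h1]
  rfl

end rho

variable [IsLocallyNoetherian X] [∀ x : X, UniqueFactorizationMonoid (X.presheaf.stalk x)]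

omit [IsIntegral X] [IsLocallyNoetherian X] in
theorem integrallyClosed (x : X) : IsIntegrallyClosed (X.presheaf.stalk x) := by
  let _ : GCDMonoid (X.presheaf.stalk x) := UniqueFactorizationMonoid.toGCDMonoid _
  infer_instance

variable {L : X.Modules} {ℓ : X → X.functionField} (D : Dat L ℓ) (I : X.IdealSheafData)
  (hcod : ∀ z : X, Order.coheight z = 1 → z ∉ (I.support : Set X))
  (hηI : genericPoint X ∉ (I.support : Set X))
  {E : X.Modules} (hE : FlatMod.IsFinLocFreeOfRank 2 E) (i : Coh.structureModule X ⟶ E)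
  (p : E ⟶ CohB1.tensorMod L (ClSub.idealMod I)) (w : i ≫ p = 0)
  (hex : (ShortComplex.mk i p w).ShortExact)

include D hcod hηI hE hex

/-- **The second half of Bogomolov's theorem.** -/
theorem main [CharZero X.functionField] (n : ℕ) {M : X.Modules} {a : X → X.functionField}
    (hM : HasCoc M (fun x => ℓ x ^ n * a x))
    (hA : ∀ d, 1 ≤ d → ∀ ρ : X.functionField, (∀ x, a x ^ d * ρ ∈ Ox x) → ρ = 0)
    (φ : M ⟶ CohB1.tensorPow E (2 * n)) (hφ : φ ≠ 0) :
    ∃ γ : X → X.functionField, (∀ x, γ x ≠ 0) ∧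
      (∀ x, ∃ V : X.Opens, x ∈ V ∧ ∀ y ∈ V, UnitAt y (γ x / γ y)) ∧
      (∃ e, 1 ≤ e ∧ ∃ ρ : X.functionField, ρ ≠ 0 ∧ ∀ x, γ x ^ (2 * e) * a x * ℓ x ^ e * ρ ∈ Ox x) ∧
      ((∃ c : X.functionField, c ≠ 0 ∧ ∀ x, UnitAt x (γ x / c)) ∨
        ∃ t : X.functionField, t ≠ 0 ∧ ∀ x, t / (ℓ x * γ x) ∈ Ix I x) := by
  obtain ⟨F, hF⟩ := exists_good D I hE i p w hex
  obtain ⟨DM⟩ := nonempty_dat hM
  set π := p ≫ tmap L (ClSub.idealModι I) with hπ
  set η := genericPoint X with hη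
  have hℓ0 : ∀ x, ℓ x ≠ 0 := D.h0
  let r := rho F π (datTO D)
  have hr0 : ∀ x, x ∉ (I.support : Set X) → r x 0 = 0 := by
    intro x hx
    change vl _ _ (appS π (F.U x) (F.e x 0)) = 0
    rw [(hF x hx).1, ← appS_comp, hπ, ← Category.assoc, w, Limits.zero_comp, appS_zero, vl_zero]
  have hr1 : ∀ x, x ∉ (I.support : Set X) → r x 1 = ℓ x := by
    intro x hx
    obtain ⟨h, hh⟩ := (hF x hx).2
    change vl _ _ (appS π (F.U x) (F.e x 1)) = ℓ x
    rw [hh]
    exact vl_gTO D x h _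
  have hrI : ∀ x j, r x j / ℓ x ∈ Ix I x := by
    intro x j
    have h1 := vl_tmap_mem D I (F.hη x) (appS p (F.U x) (F.e x j)) (F.hU x)
    rw [← appS_comp] at h1
    exact h1
  have hrt : ∀ x k, F.p x 0 k * r x 0 + F.p x 1 k * r x 1 = r η k := by
    intro x k
    have h1 := rho_trans F π (datTO D) x k
    rw [Fin.sum_univ_two] at h1
    exact h1
  -- the values of `p` outside of the support
  have hp10 : ∀ x, x ∉ (I.support : Set X) → F.p x 1 0 = 0 := by
    intro x hx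
    have h1 := hrt x 0
    rw [hr0 x hx, hr1 x hx, hr0 η hηI, mul_zero, zero_add] at h1
    exact (mul_eq_zero.1 h1).resolve_right (hℓ0 x)
  have hp11 : ∀ x, x ∉ (I.support : Set X) → F.p x 1 1 = ℓ η / ℓ x := by
    intro x hx
    have h1 := hrt x 1
    rw [hr0 x hx, hr1 x hx, hr1 η hηI, mul_zero, zero_add] at h1
    rw [eq_div_iff (hℓ0 x), h1]
  have hp00 : ∀ x, x ∉ (I.support : Set X) → F.p x 0 0 = 1 := by
    intro x hx
    have hV : genericPoint X ∈ F.U η ⊓ F.U x := mem_inf (F.hη _) (F.hη x)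
    have h1 := cf_eq (F.he x) (F.hη x) (F.hη _) (F.e η 0) (V := F.U η ⊓ F.U x) inf_le_left
      inf_le_right hV (Pi.single 0 1) (by
        rw [comb_apply, Finset.sum_eq_single 0]
        · rw [Pi.single_eq_same, one_smul, (hF x hx).1, (hF η hηI).1, ← appS_res, ← appS_res,
            res_one, res_one]
        · intro j _ hj
          rw [Pi.single_eq_of_ne hj, zero_smul]
        · simp) 0
    rw [Pi.single_eq_same, map_one] at h1
    exact h1
  let δ : X → X.functionField := fun x => dt (F.p x 0) (F.p x 1)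
  have hδ0 : ∀ x, δ x ≠ 0 := F.dt_ne_zero
  have hδ : ∀ x, x ∉ (I.support : Set X) → δ x = ℓ η / ℓ x := by
    intro x hx
    change F.p x 0 0 * F.p x 1 1 - F.p x 0 1 * F.p x 1 0 = _
    rw [hp00 x hx, hp10 x hx, hp11 x hx, one_mul, mul_zero, sub_zero]
  let U : X.Opens := ⟨(I.support : Set X)ᶜ, I.support.isClosed.isOpen_compl⟩
  have hcodU : ∀ z : X, Order.coheight z = 1 → z ∈ U := hcod
  have hℓloc : ∀ x, ∃ V : X.Opens, x ∈ V ∧ ∀ y ∈ V, UnitAt y (ℓ x / ℓ y) := D.hloc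
  have hδu : ∀ x, UnitAt x (δ x * ℓ x / ℓ η) := by
    refine unitAt_of_family integrallyClosed hcodU (fun x => ?_) (fun x => ?_) (fun x hx => ?_)
    · exact div_ne_zero (mul_ne_zero (hδ0 x) (hℓ0 x)) (hℓ0 η)
    · obtain ⟨V, hxV, hV⟩ := hℓloc x
      refine ⟨V ⊓ F.U x, ⟨hxV, F.hU x⟩, fun y hy => ?_⟩
      have h1 := unitAt_mul (F.unitAt_dt (x := x) (y := y) hy.2 (F.hU y)) (hV y hy.1)
      have h2 : δ x * ℓ x / ℓ η / (δ y * ℓ y / ℓ η) =
          dt (F.p x 0) (F.p x 1) / dt (F.p y 0) (F.p y 1) * (ℓ x / ℓ y) := by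
        change δ x * ℓ x / ℓ η / (δ y * ℓ y / ℓ η) = δ x / δ y * (ℓ x / ℓ y)
        have := hδ0 y
        have := hℓ0 y
        have := hℓ0 η
        field_simp
      rw [h2]
      exact h1
    · have h1 : δ x * ℓ x / ℓ η = 1 := by
        rw [hδ x hx]
        have := hℓ0 x
        have := hℓ0 η
        field_simp
      rw [h1]
      exact K484.CocTwist.unitAt_one x
  -- the tensor
  obtain ⟨c, hc0, hc⟩ := F.exists_tensor DM φ hφ
  let α : X → X.functionField := fun x => ℓ x ^ n * a x * δ x ^ n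
  have hyp : ∀ x, BogTens.Hyp n c (Ox x) (F.p x 0) (F.p x 1) (α x) := by
    intro x ξs hlen hξ
    have h1 := hc x ξs hlen hξ
    have h2 : α x / dt (F.p x 0) (F.p x 1) ^ n = ℓ x ^ n * a x := by
      change ℓ x ^ n * a x * δ x ^ n / δ x ^ n = _
      exact mul_div_cancel_right₀ _ (pow_ne_zero _ (hδ0 x))
    rw [h2]
    exact h1
  let ω : X → X.functionField := fun x => δ x * ℓ x / ℓ η
  have hω0 : ∀ x, ω x ≠ 0 := fun x => unitAt_ne_zero (hδu x)
  have hωδ : ∀ x, δ x = ω x * ℓ η / ℓ x := by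
    intro x
    change δ x = δ x * ℓ x / ℓ η * ℓ η / ℓ x
    have := hℓ0 x
    have := hℓ0 η
    field_simp
  have hωinv : ∀ x k, (ω x ^ k)⁻¹ ∈ Ox x := by
    intro x k
    rw [← inv_pow]
    exact Subring.pow_mem _ ((unitAt_iff.1 (hδu x)).2.2) k
  have hωm : ∀ x k, ω x ^ k ∈ Ox x := fun x k => Subring.pow_mem _ ((unitAt_iff.1 (hδu x)).2.1) k
  rcases BogTens.main n c hc0 with H | H
  · exfalso
    obtain ⟨d, hd, ρ, hρ, H⟩ := H
    have h1 := hA d hd (ρ * ℓ η ^ (n * d)) (by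
      intro x
      have h2 := H (Ox x) (ic_Ox x) (F.p x 0) (F.p x 1) (α x) (hδ0 x) (hyp x)
      have h3 : a x ^ d * (ρ * ℓ η ^ (n * d)) = (ω x ^ (n * d))⁻¹ * (α x ^ d * ρ) := by
        change _ = _ * ((ℓ x ^ n * a x * δ x ^ n) ^ d * ρ)
        rw [hωδ x]
        exact id1 (hω0 x) (hℓ0 x) (a x) ρ n d
      rw [h3]
      exact Subring.mul_mem _ (hωinv x _) h2)
    exact (mul_ne_zero hρ (pow_ne_zero _ (hℓ0 η))) h1
  · obtain ⟨l, hl, e, he, ρ, hρ, H⟩ := H
    let u : X → X.functionField := fun x => l 0 * F.p x 0 0 + l 1 * F.p x 0 1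
    let v : X → X.functionField := fun x => l 0 * F.p x 1 0 + l 1 * F.p x 1 1
    have huv : ∀ x, u x ≠ 0 ∨ v x ≠ 0 := by
      intro x
      by_contra hcon
      push Not at hcon
      obtain ⟨h1, h2⟩ := hcon
      apply hl
      have h3 : l 0 * F.p x 0 0 + l 1 * F.p x 0 1 = 0 := h1
      have h4 : l 0 * F.p x 1 0 + l 1 * F.p x 1 1 = 0 := h2
      have h5 : F.p x 0 0 * F.p x 1 1 - F.p x 0 1 * F.p x 1 0 ≠ 0 := hδ0 x
      have h6 : l 0 * (F.p x 0 0 * F.p x 1 1 - F.p x 0 1 * F.p x 1 0) = 0 := by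
        linear_combination F.p x 1 1 * h3 - F.p x 0 1 * h4
      have h7 : l 1 * (F.p x 0 0 * F.p x 1 1 - F.p x 0 1 * F.p x 1 0) = 0 := by
        linear_combination F.p x 0 0 * h4 - F.p x 1 0 * h3
      funext j
      revert j
      rw [Fin.forall_fin_two]
      exact ⟨(mul_eq_zero.1 h6).resolve_right h5, (mul_eq_zero.1 h7).resolve_right h5⟩
    obtain ⟨γ, hγ0, hγ, hγloc⟩ := exists_gcd u v huv (fun x =>
      ⟨F.U x, F.hU x, fun y hy => ⟨F.sp hy (F.hU y) l, F.sp (F.hU y) hy l⟩⟩)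
    refine ⟨γ, hγ0, hγloc, ⟨e, he, ρ * ℓ η ^ n / ℓ η ^ e, ?_, ?_⟩, ?_⟩
    · exact div_ne_zero (mul_ne_zero hρ (pow_ne_zero _ (hℓ0 η))) (pow_ne_zero _ (hℓ0 η))
    · intro x
      have h2 := H (Ox x) (ic_Ox x) (F.p x 0) (F.p x 1) (α x) (hδ0 x) (hyp x) (γ x) (hγ0 x) (hγ x)
      have h3 : γ x ^ (2 * e) * a x * ℓ x ^ e * (ρ * ℓ η ^ n / ℓ η ^ e) =
          (ω x ^ n)⁻¹ * ω x ^ e * (γ x ^ (2 * e) * α x * ρ / δ x ^ e) := by
        change _ = _ * (γ x ^ (2 * e) * (ℓ x ^ n * a x * δ x ^ n) * ρ / δ x ^ e)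
        rw [hωδ x]
        exact id2 (hω0 x) (hℓ0 x) (hℓ0 η) (a x) ρ _ n e
      rw [h3]
      exact Subring.mul_mem _ (Subring.mul_mem _ (hωinv x _) (hωm x _)) h2
    · by_cases hl1 : l 1 = 0
      · left
        have hl0 : l 0 ≠ 0 := by
          intro h0
          apply hl
          funext j
          revert j
          rw [Fin.forall_fin_two]
          exact ⟨h0, hl1⟩
        refine ⟨l 0, hl0, unitAt_of_family integrallyClosed hcodU (fun x => div_ne_zero (hγ0 x) hl0)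
          (fun x => ?_) (fun x hx => ?_)⟩
        · obtain ⟨V, hxV, hV⟩ := hγloc x
          refine ⟨V, hxV, fun y hy => ?_⟩
          rw [div_div_div_cancel_right₀ hl0]
          exact hV y hy
        · have hux : u x = l 0 := by
            change l 0 * F.p x 0 0 + l 1 * F.p x 0 1 = l 0
            rw [hp00 x hx, hl1, mul_one, zero_mul, add_zero]
          have hvx : v x = 0 := by
            change l 0 * F.p x 1 0 + l 1 * F.p x 1 1 = 0
            rw [hp10 x hx, hl1, mul_zero, zero_mul, add_zero]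
          have h1 := hγ x
          rw [hux, hvx] at h1
          refine unitAt_of_prim (hγ0 x) hl0 h1 ⟨?_, ?_, ?_⟩
          · rw [div_self hl0]; exact Subring.one_mem _
          · rw [zero_div]; exact Subring.zero_mem _
          · intro b hb1 _
            rwa [div_self hl0, mul_one] at hb1
      · right
        refine ⟨l 1 * ℓ η, mul_ne_zero hl1 (hℓ0 η), fun x => ?_⟩
        have h1 : l 1 * ℓ η / (ℓ x * γ x) = u x / γ x * (r x 0 / ℓ x) + v x / γ x * (r x 1 / ℓ x) := by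
          have h2 : u x * r x 0 + v x * r x 1 = l 1 * ℓ η := by
            change (l 0 * F.p x 0 0 + l 1 * F.p x 0 1) * r x 0 +
              (l 0 * F.p x 1 0 + l 1 * F.p x 1 1) * r x 1 = _
            have h3 := hrt x 0
            have h4 := hrt x 1
            rw [hr0 η hηI] at h3
            rw [hr1 η hηI] at h4
            linear_combination l 0 * h3 + l 1 * h4
          rw [← h2]
          have := hγ0 x
          have := hℓ0 x
          field_simp
        rw [h1]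
        exact AddSubgroup.add_mem _ (mul_mem_Ix (hγ x).1 (hrI x 0)) (mul_mem_Ix (hγ x).2.1 (hrI x 1))

end K802.BogSes
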