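import Mathlib.Algebra.MvPolynomial.PDeriv
import Groth.Agent.AdjLin.K802.BogForm

/-!
# Tensors of even degree in two variables and integrally closed subrings

The alternative of `BogForm` for a tensor of degree `2n` (a function on the words of length `2n` in
`0, 1`) over a field `K` of characteristic zero: contractions reduce it to the symmetric case, that is
to a binary form.
-/

set_option autoImplicit false

open Polynomial

namespace K802.BogTens

open K802.BogAlg K802.BogForm

variable {K : Type*} [Field K]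

/-- Contraction of the first index with a vector. -/
def ctr (ξ : Fin 2 → K) (c : List (Fin 2) → K) : List (Fin 2) → K :=
  fun w => ξ 0 * c (0 :: w) + ξ 1 * c (1 :: w)

/-- Evaluation of a tensor on a list of vectors. -/
def Ev (c : List (Fin 2) → K) : List (Fin 2 → K) → K
  | [] => c []
  | ξ :: ξs => Ev (ctr ξ c) ξs

theorem ctr_add (ξ : Fin 2 → K) (c d : List (Fin 2) → K) : ctr ξ (c + d) = ctr ξ c + ctr ξ d := by
  funext w
  simp only [ctr, Pi.add_apply]
  ring

theorem ctr_smul (ξ : Fin 2 → K) (a : K) (c : List (Fin 2) → K) : ctr ξ (a • c) = a • ctr ξ c := by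
  funext w
  simp only [ctr, Pi.smul_apply, smul_eq_mul]
  ring

theorem Ev_add (ξs : List (Fin 2 → K)) (c d : List (Fin 2) → K) : Ev (c + d) ξs = Ev c ξs + Ev d ξs := by
  induction ξs generalizing c d with
  | nil => rfl
  | cons ξ ξs ih => rw [Ev, Ev, Ev, ctr_add, ih]

theorem Ev_smul (ξs : List (Fin 2 → K)) (a : K) (c : List (Fin 2) → K) :
    Ev (a • c) ξs = a * Ev c ξs := by
  induction ξs generalizing c with
  | nil => rfl
  | cons ξ ξs ih => rw [Ev, Ev, ctr_smul, ih]

/-- Contraction of the places `k`, `k + 1` with the determinant. -/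
def cont (k : ℕ) (c : List (Fin 2) → K) : List (Fin 2) → K :=
  fun w => c (w.take k ++ 0 :: 1 :: w.drop k) - c (w.take k ++ 1 :: 0 :: w.drop k)

theorem ctr_cont (k : ℕ) (ξ : Fin 2 → K) (c : List (Fin 2) → K) :
    ctr ξ (cont (k + 1) c) = cont k (ctr ξ c) := by
  funext w
  simp only [ctr, cont, List.take_succ_cons, List.drop_succ_cons, List.cons_append]
  ring

theorem ctr_ctr_sub (ξ η : Fin 2 → K) (c : List (Fin 2) → K) :
    ctr η (ctr ξ c) = ctr ξ (ctr η c) + dt ξ η • cont 0 c := by
  funext w
  simp only [ctr, cont, dt, Pi.add_apply, Pi.smul_apply, smul_eq_mul, List.take_zero, List.drop_zero,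
    List.nil_append]
  ring

theorem Ev_swap (us vs : List (Fin 2 → K)) (ξ η : Fin 2 → K) (c : List (Fin 2) → K) :
    Ev c (us ++ ξ :: η :: vs) - Ev c (us ++ η :: ξ :: vs) =
      dt ξ η * Ev (cont us.length c) (us ++ vs) := by
  induction us generalizing c with
  | nil =>
    simp only [List.nil_append, List.length_nil]
    rw [Ev, Ev, Ev, Ev, ctr_ctr_sub ξ η, Ev_add, Ev_smul]
    ring
  | cons u us ih =>
    simp only [List.cons_append, List.length_cons]
    rw [Ev, Ev, Ev, ih, ctr_cont]

/-- The binary form of a tensor. -/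
noncomputable def Phi : ℕ → (List (Fin 2) → K) → MvPolynomial (Fin 2) K
  | 0, c => MvPolynomial.C (c [])
  | N + 1, c => MvPolynomial.X 0 * Phi N (fun w => c (0 :: w)) + MvPolynomial.X 1 * Phi N (fun w => c (1 :: w))

theorem Phi_isHomogeneous (N : ℕ) (c : List (Fin 2) → K) : (Phi N c).IsHomogeneous N := by
  induction N generalizing c with
  | zero => exact MvPolynomial.isHomogeneous_C _ _
  | succ N ih =>
    rw [Phi, add_comm N 1]
    exact ((MvPolynomial.isHomogeneous_X _ _).mul (ih _)).add
      ((MvPolynomial.isHomogeneous_X _ _).mul (ih _))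

theorem Phi_ctr (N : ℕ) (ξ : Fin 2 → K) (c : List (Fin 2) → K) :
    Phi N (ctr ξ c) = MvPolynomial.C (ξ 0) * Phi N (fun w => c (0 :: w)) +
      MvPolynomial.C (ξ 1) * Phi N (fun w => c (1 :: w)) := by
  have hadd : ∀ (N : ℕ) (c d : List (Fin 2) → K), Phi N (fun w => c w + d w) = Phi N c + Phi N d := by
    intro N
    induction N with
    | zero => intro c d; simp [Phi]
    | succ N ih =>
      intro c d
      rw [Phi, Phi, Phi, ih, ih]
      ring
  have hsmul : ∀ (N : ℕ) (a : K) (c : List (Fin 2) → K),
      Phi N (fun w => a * c w) = MvPolynomial.C a * Phi N c := by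
    intro N
    induction N with
    | zero => intro a c; simp [Phi]
    | succ N ih =>
      intro a c
      rw [Phi, Phi, ih, ih]
      ring
  have h1 : Phi N (ctr ξ c) = Phi N (fun w => ξ 0 * c (0 :: w) + ξ 1 * c (1 :: w)) := rfl
  rw [h1, hadd, hsmul, hsmul]

theorem Co_X_mul {R : Subring K} {P : K[X]} (h : Co R P) : Co R (X * P) := by
  intro n
  cases n with
  | zero =>
    rw [mul_comm, coeff_mul_X_zero]
    exact R.zero_mem
  | succ n =>
    rw [coeff_X_mul]
    exact h n

theorem Co_line {R : Subring K} (p q : Fin 2 → K) (β : K) (N : ℕ) (c : List (Fin 2) → K)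
    (h : ∀ ξs : List (Fin 2 → K), ξs.length = N → (∀ ξ ∈ ξs, ξ = p ∨ ξ = q) → β * Ev c ξs ∈ R) :
    Co R (C β * line p q (Phi N c)) := by
  induction N generalizing c with
  | zero =>
    have h1 := h [] rfl (by simp)
    rw [Ev] at h1
    rw [Phi, line, MvPolynomial.algHom_C, ← C_eq_algebraMap, ← C_mul]
    intro n
    rw [coeff_C]
    split_ifs
    · exact h1
    · exact R.zero_mem
  | succ N ih =>
    have h1 : line p q (Phi (N + 1) c) = X * line p q (Phi N (ctr p c)) + line p q (Phi N (ctr q c)) := by
      rw [Phi_ctr, Phi_ctr, Phi]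
      simp only [line, map_add, map_mul, MvPolynomial.aeval_X, MvPolynomial.algHom_C,
        ← C_eq_algebraMap]
      ring
    rw [h1, mul_add]
    refine Co.add ?_ (ih _ fun ξs hlen hξ => ?_)
    · have h2 : C β * (X * line p q (Phi N (ctr p c))) = X * (C β * line p q (Phi N (ctr p c))) := by
        ring
      rw [h2]
      refine Co_X_mul (ih _ fun ξs hlen hξ => ?_)
      have := h (p :: ξs) (by simp [hlen]) (by
        intro ξ hm
        rcases List.mem_cons.1 hm with rfl | hm
        · exact Or.inl rfl
        · exact hξ ξ hm)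
      rwa [Ev] at this
    · have := h (q :: ξs) (by simp [hlen]) (by
        intro ξ hm
        rcases List.mem_cons.1 hm with rfl | hm
        · exact Or.inr rfl
        · exact hξ ξ hm)
      rwa [Ev] at this

/-- Invariance under the swaps of two neighbours. -/
def Sym (N : ℕ) (c : List (Fin 2) → K) : Prop :=
  ∀ (u v : List (Fin 2)) (i j : Fin 2), u.length + v.length + 2 = N →
    c (u ++ i :: j :: v) = c (u ++ j :: i :: v)

omit [Field K] in
theorem Sym.cons {N : ℕ} {c : List (Fin 2) → K} (h : Sym (N + 1) c) (i : Fin 2) :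
    Sym N (fun w => c (i :: w)) := by
  intro u v j k hl
  have := h (i :: u) v j k (by simp only [List.length_cons]; omega)
  simpa using this

theorem Phi_congr (N : ℕ) (c d : List (Fin 2) → K) (h : ∀ w, w.length = N → c w = d w) :
    Phi N c = Phi N d := by
  induction N generalizing c d with
  | zero => rw [Phi, Phi, h [] rfl]
  | succ N ih =>
    rw [Phi, Phi]
    rw [ih _ (fun w => d (0 :: w)) fun w hw => h (0 :: w) (by simp [hw])]
    rw [ih _ (fun w => d (1 :: w)) fun w hw => h (1 :: w) (by simp [hw])]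

theorem pderiv_Phi (N : ℕ) (c : List (Fin 2) → K) (h : Sym (N + 1) c) (i : Fin 2) :
    MvPolynomial.pderiv i (Phi (N + 1) c) = (N + 1 : ℕ) • Phi N (fun w => c (i :: w)) := by
  induction N generalizing c with
  | zero =>
    simp only [Phi]
    revert i
    rw [Fin.forall_fin_two]
    constructor
    · simp [MvPolynomial.pderiv_X]
    · simp [MvPolynomial.pderiv_X]
  | succ N ih =>
    have h0 : ∀ j : Fin 2, MvPolynomial.pderiv i (Phi (N + 1) (fun w => c (j :: w))) =
        (N + 1 : ℕ) • Phi N (fun w => c (i :: j :: w)) := by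
      intro j
      rw [ih _ (h.cons j)]
      congr 1
      apply Phi_congr
      intro w hw
      have := h [] w j i (by simp [hw])
      simpa using this
    have h1 : Phi (N + 1) (fun w => c (i :: w)) =
        MvPolynomial.X 0 * Phi N (fun w => c (i :: 0 :: w)) +
          MvPolynomial.X 1 * Phi N (fun w => c (i :: 1 :: w)) := rfl
    rw [Phi, map_add, Derivation.leibniz, Derivation.leibniz, h0, h0]
    have h2 : (MvPolynomial.pderiv i (MvPolynomial.X 0 : MvPolynomial (Fin 2) K)) •
          Phi (N + 1) (fun w => c (0 :: w)) +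
        (MvPolynomial.pderiv i (MvPolynomial.X 1 : MvPolynomial (Fin 2) K)) •
          Phi (N + 1) (fun w => c (1 :: w)) = Phi (N + 1) (fun w => c (i :: w)) := by
      revert i
      rw [Fin.forall_fin_two]
      constructor
      · simp [MvPolynomial.pderiv_X]
      · simp [MvPolynomial.pderiv_X]
    have h3 : (N + 1 + 1 : ℕ) • Phi (N + 1) (fun w => c (i :: w)) =
        (N + 1 : ℕ) • Phi (N + 1) (fun w => c (i :: w)) + Phi (N + 1) (fun w => c (i :: w)) := by
      rw [succ_nsmul]
    rw [h3]
    simp only [smul_eq_mul, nsmul_eq_mul] at h2 ⊢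
    linear_combination h2 - ((N + 1 : ℕ) : MvPolynomial (Fin 2) K) * h1

theorem eq_zero_of_Phi [CharZero K] (N : ℕ) (c : List (Fin 2) → K) (h : Sym N c) (h0 : Phi N c = 0)
    (w : List (Fin 2)) (hw : w.length = N) : c w = 0 := by
  induction N generalizing c w with
  | zero =>
    rw [List.length_eq_zero_iff] at hw
    subst hw
    rw [Phi] at h0
    exact MvPolynomial.C_eq_zero.1 h0
  | succ N ih =>
    cases w with
    | nil => simp at hw
    | cons i w =>
      refine ih (fun w => c (i :: w)) (h.cons i) ?_ w (by simpa using hw)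
      have h1 := pderiv_Phi N c h i
      rw [h0, map_zero, nsmul_eq_mul] at h1
      have h2 := mul_eq_zero.1 h1.symm
      refine h2.resolve_left ?_
      exact Nat.cast_ne_zero.2 (Nat.succ_ne_zero N)

/-- The hypothesis at a subring `R` with frame `p, q`. -/
def Hyp (n : ℕ) (c : List (Fin 2) → K) (R : Subring K) (p q : Fin 2 → K) (α : K) : Prop :=
  ∀ ξs : List (Fin 2 → K), ξs.length = 2 * n → (∀ ξ ∈ ξs, ξ = p ∨ ξ = q) →
    α / dt p q ^ n * Ev c ξs ∈ R

/-- The alternative for tensors. -/
theorem main [CharZero K] (n : ℕ) (c : List (Fin 2) → K) (hc : ∃ w, w.length = 2 * n ∧ c w ≠ 0) :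
    (∃ d, 1 ≤ d ∧ ∃ ρ : K, ρ ≠ 0 ∧ ∀ (R : Subring K), IC R → ∀ (p q : Fin 2 → K) (α : K), dt p q ≠ 0 →
      Hyp n c R p q α → α ^ d * ρ ∈ R) ∨
    (∃ l : Fin 2 → K, l ≠ 0 ∧ ∃ e, 1 ≤ e ∧ ∃ ρ : K, ρ ≠ 0 ∧
      ∀ (R : Subring K), IC R → ∀ (p q : Fin 2 → K) (α : K), dt p q ≠ 0 →
      Hyp n c R p q α → ∀ γ : K, γ ≠ 0 →
      Prim R ((l 0 * p 0 + l 1 * p 1) / γ) ((l 0 * q 0 + l 1 * q 1) / γ) →
      γ ^ (2 * e) * α * ρ / dt p q ^ e ∈ R) := by
  induction n generalizing c with
  | zero =>
    obtain ⟨w, hw, hcw⟩ := hc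
    have hw0 : w = [] := List.length_eq_zero_iff.1 (by simpa using hw)
    subst hw0
    left
    refine ⟨1, le_rfl, c [], hcw, ?_⟩
    intro R hR p q α hδ h
    have := h [] rfl (by simp)
    rw [pow_zero, div_one, Ev] at this
    rwa [pow_one]
  | succ n ih =>
    by_cases hsym : Sym (2 * (n + 1)) c
    · have hΦ : Phi (2 * (n + 1)) c ≠ 0 := by
        intro h0
        obtain ⟨w, hw, hcw⟩ := hc
        exact hcw (eq_zero_of_Phi _ c hsym h0 w hw)
      rcases BogForm.main (n + 1) (Phi_isHomogeneous _ c) hΦ with H | H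
      · left
        obtain ⟨d, hd, ρ, hρ, H⟩ := H
        exact ⟨d, hd, ρ, hρ, fun R hR p q α hδ h => H R hR p q α hδ (Co_line p q _ _ c h)⟩
      · right
        obtain ⟨l, hl, e, he, ρ, hρ, H⟩ := H
        exact ⟨l, hl, e, he, ρ, hρ, fun R hR p q α hδ h γ hγ hprim =>
          H R hR p q α hδ (Co_line p q _ _ c h) γ hγ hprim⟩
    · -- a contraction is nonzero
      have hex : ∃ (u v : List (Fin 2)), u.length + v.length + 2 = 2 * (n + 1) ∧
          c (u ++ 0 :: 1 :: v) ≠ c (u ++ 1 :: 0 :: v) := by
        simp only [Sym, not_forall] at hsym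
        obtain ⟨u, v, i, j, hl, hne⟩ := hsym
        refine ⟨u, v, hl, ?_⟩
        revert i j
        rw [Fin.forall_fin_two]
        simp only [Fin.forall_fin_two]
        refine ⟨⟨fun h => absurd trivial h, fun h => h⟩, ⟨fun h => fun h' => h h'.symm,
          fun h => absurd trivial h⟩⟩
      obtain ⟨u, v, hl, hne⟩ := hex
      have hc' : ∃ w, w.length = 2 * n ∧ cont u.length c w ≠ 0 := by
        refine ⟨u ++ v, by rw [List.length_append]; omega, ?_⟩
        simp only [cont, List.take_left', List.drop_left']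
        exact sub_ne_zero.2 hne
      have hhyp : ∀ (R : Subring K) (p q : Fin 2 → K) (α : K), dt p q ≠ 0 →
          Hyp (n + 1) c R p q α → Hyp n (cont u.length c) R p q α := by
        intro R p q α hδ h ξs hlen hξ
        have hul : u.length ≤ ξs.length := by omega
        have h1 := Ev_swap (ξs.take u.length) (ξs.drop u.length) p q c
        rw [List.take_append_drop, List.length_take, min_eq_left hul] at h1
        have hmem : ∀ ξ ∈ ξs.take u.length ++ p :: q :: ξs.drop u.length, ξ = p ∨ ξ = q := by
          intro ξ hm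
          rcases List.mem_append.1 hm with hm | hm
          · exact hξ ξ (List.mem_of_mem_take hm)
          · rcases List.mem_cons.1 hm with rfl | hm
            · exact Or.inl rfl
            · rcases List.mem_cons.1 hm with rfl | hm
              · exact Or.inr rfl
              · exact hξ ξ (List.mem_of_mem_drop hm)
        have hmem' : ∀ ξ ∈ ξs.take u.length ++ q :: p :: ξs.drop u.length, ξ = p ∨ ξ = q := by
          intro ξ hm
          rcases List.mem_append.1 hm with hm | hm
          · exact hξ ξ (List.mem_of_mem_take hm)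
          · rcases List.mem_cons.1 hm with rfl | hm
            · exact Or.inr rfl
            · rcases List.mem_cons.1 hm with rfl | hm
              · exact Or.inl rfl
              · exact hξ ξ (List.mem_of_mem_drop hm)
        have hlen' : ∀ x y : Fin 2 → K,
            (ξs.take u.length ++ x :: y :: ξs.drop u.length).length = 2 * (n + 1) := by
          intro x y
          simp only [List.length_append, List.length_cons, List.length_take, List.length_drop]
          omega
        have h2 := R.sub_mem (h _ (hlen' p q) hmem) (h _ (hlen' q p) hmem')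
        rw [← mul_sub, h1] at h2
        convert h2 using 1
        rw [pow_succ]
        field_simp
      rcases ih (cont u.length c) hc' with H | H
      · left
        obtain ⟨d, hd, ρ, hρ, H⟩ := H
        exact ⟨d, hd, ρ, hρ, fun R hR p q α hδ h => H R hR p q α hδ (hhyp R p q α hδ h)⟩
      · right
        obtain ⟨l, hl, e, he, ρ, hρ, H⟩ := H
        exact ⟨l, hl, e, he, ρ, hρ, fun R hR p q α hδ h γ hγ hprim =>
          H R hR p q α hδ (hhyp R p q α hδ h) γ hγ hprim⟩

end K802.BogTens
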