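import Mathlib.Algebra.Homology.DerivedCategory.Ext.ExactSequences
import Mathlib.GroupTheory.CosetCover

/-!
# Pull-backs of extensions and divisibility
-/

set_option autoImplicit false

namespace K802.ExtPull

open CategoryTheory CategoryTheory.Limits CategoryTheory.Abelian
open scoped Pointwise

universe w v u

variable {C : Type u} [Category.{v} C] [Abelian C] [HasExt.{w} C]

/-- If the class of an extension is the pull-back of the class of another extension, there is a morphism of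
extensions which is the identity on the left. -/
theorem exists_hom {M F F' P P' : C} {a : M ⟶ F} {b : F ⟶ P} {w : a ≫ b = 0}
    (h : (ShortComplex.mk a b w).ShortExact) {a' : M ⟶ F'} {b' : F' ⟶ P'} {w' : a' ≫ b' = 0}
    (h' : (ShortComplex.mk a' b' w').ShortExact) (φ : P ⟶ P')
    (e : (Ext.mk₀ φ).comp h'.extClass (zero_add 1) = (h.extClass : Ext.{w} _ _ 1)) :
    ∃ g : F ⟶ F', a ≫ g = a' ∧ g ≫ b' = b ≫ φ := by
  have hm' : Mono a' := h'.mono_f
  -- lift `b ≫ φ`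
  have h1 : (Ext.mk₀ (b ≫ φ)).comp h'.extClass (zero_add 1) = 0 := by
    rw [← Ext.mk₀_comp_mk₀, Ext.comp_assoc_of_second_deg_zero, e]
    exact h.comp_extClass
  obtain ⟨x, hx⟩ := Ext.covariant_sequence_exact₃ F h' (Ext.mk₀ (b ≫ φ)) (zero_add 1) h1
  obtain ⟨g₀, rfl⟩ := (Ext.mk₀_bijective _ _).2 x
  have hg₀ : g₀ ≫ b' = b ≫ φ := by
    apply (Ext.mk₀_bijective _ _).1
    rw [← hx, ← Ext.mk₀_comp_mk₀]
  -- the induced map on the left
  have h2 : (a ≫ g₀) ≫ b' = 0 := by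
    rw [Category.assoc, hg₀, ← Category.assoc, w, zero_comp]
  obtain ⟨u, hu⟩ : ∃ u : M ⟶ M, u ≫ a' = a ≫ g₀ := ⟨h'.exact.lift (a ≫ g₀) h2, h'.exact.lift_f _ _⟩
  have h3 := ShortComplex.ShortExact.extClass_naturality h h'
    { τ₁ := u
      τ₂ := g₀
      τ₃ := φ
      comm₁₂ := hu
      comm₂₃ := hg₀ }
  have h4 : h.extClass.comp (Ext.mk₀ (u - 𝟙 M)) (add_zero 1) = 0 := by
    have h5 : Ext.mk₀ (u - 𝟙 M) = Ext.mk₀ u - Ext.mk₀ (𝟙 M) :=
      map_sub (Ext.addEquiv₀ (X := M) (Y := M)).symm u (𝟙 M)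
    have h6 : h.extClass.comp (Ext.mk₀ u - Ext.mk₀ (𝟙 M)) (add_zero 1) =
        h.extClass.comp (Ext.mk₀ u) (add_zero 1) - h.extClass.comp (Ext.mk₀ (𝟙 M)) (add_zero 1) :=
      map_sub ((Ext.bilinearComp P M M 1 0 1 (add_zero 1)) h.extClass) _ _
    rw [h5, h6]
    refine sub_eq_zero.2 ((h3.trans e).trans ?_)
    exact (Ext.comp_mk₀_id _).symm
  obtain ⟨y, hy⟩ := Ext.contravariant_sequence_exact₁ h M (Ext.mk₀ (u - 𝟙 M)) (add_zero 1) h4
  obtain ⟨v, rfl⟩ := (Ext.mk₀_bijective _ _).2 y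
  have hv : a ≫ v = u - 𝟙 M := by
    apply (Ext.mk₀_bijective _ _).1
    rw [← hy, ← Ext.mk₀_comp_mk₀]
  refine ⟨g₀ - v ≫ a', ?_, ?_⟩
  · rw [Preadditive.comp_sub, ← hu, ← Category.assoc, hv, Preadditive.sub_comp, Category.id_comp]
    abel
  · rw [Preadditive.sub_comp, Category.assoc, w', comp_zero, sub_zero, hg₀]

/-- A finite union of proper subgroups does not fill a divisible group. -/
theorem exists_eq_top {G : Type*} [AddCommGroup G] (hdiv : ∀ n : ℕ, n ≠ 0 → ∀ x : G, ∃ y, n • y = x)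
    {ι : Type*} (s : Finset ι) (H : ι → AddSubgroup G) (h : ⋃ i ∈ s, (H i : Set G) = Set.univ) :
    ∃ i ∈ s, H i = ⊤ := by
  obtain ⟨i, hi, hfin⟩ := AddSubgroup.exists_finiteIndex_of_leftCoset_cover (H := H) (g := fun _ => (0 : G))
    (s := s) (by
      have h0 : ∀ i, (0 : G) +ᵥ (H i : Set G) = (H i : Set G) := fun i => zero_vadd _ _
      simp only [h0]
      exact h)
  refine ⟨i, hi, ?_⟩
  rw [eq_top_iff]
  intro x _
  obtain ⟨y, rfl⟩ := hdiv (H i).index hfin.index_ne_zero x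
  exact AddSubgroup.nsmul_index_mem _ y

/-- If multiplication by `n` is invertible on `M` then it is surjective on the Ext groups with values in `M`. -/
theorem nsmul_surjective {M P : C} (n : ℕ) (r : M ⟶ M) (hr : r ≫ (n • 𝟙 M) = 𝟙 M) {m : ℕ} (x : Ext.{w} P M m) :
    ∃ y : Ext.{w} P M m, n • y = x := by
  refine ⟨x.comp (Ext.mk₀ r) (add_zero m), ?_⟩
  have h1 : n • (x.comp (Ext.mk₀ r) (add_zero m)) = x.comp (n • Ext.mk₀ r) (add_zero m) :=
    (map_nsmul ((Ext.bilinearComp P M M m 0 m (add_zero m)) x) n (Ext.mk₀ r)).symm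
  have h2 : n • Ext.mk₀ r = Ext.mk₀ (n • r) :=
    (map_nsmul (Ext.addEquiv₀ (X := M) (Y := M)).symm n r).symm
  have h3 : n • r = 𝟙 M := by
    rw [Preadditive.comp_nsmul, Category.comp_id] at hr
    exact hr
  rw [h1, h2, h3, Ext.comp_mk₀_id]

end K802.ExtPull
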