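import Groth.Agent.Krr.H478.ImIdeal

/-!
# The inclusion of the modules of two ideals
-/

set_option autoImplicit false

namespace K802.Incl

universe u

open CategoryTheory CategoryTheory.Limits AlgebraicGeometry TopologicalSpace
open Groth.Agent.Sga67.Sec Groth.Agent.Sga67.LocBasis
open Groth.Agent.Krr.H487.LocBasisPull Groth.Agent.Sga67.TensorOps
open Groth.Agent.Krr.H478.Cosection

variable {X : Scheme.{u}}

/-- The inclusion of ideal modules. -/
theorem exists_incl {I J : X.IdealSheafData} (h : I ≤ J) :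
    ∃ φ : ClSub.idealMod I ⟶ ClSub.idealMod J, φ ≫ ClSub.idealModι J = ClSub.idealModι I := by
  have h0 : ClSub.idealModι I ≫ ClSub.toSubscheme J = 0 := by
    apply hom_ext_of_locally
    intro x U hx
    obtain ⟨_, ⟨V, hV, rfl⟩, hxV, hVU⟩ := X.isBasis_affineOpens.exists_subset_of_mem_open hx U.2
    refine ⟨V, hVU, hxV, fun s => ?_⟩
    have h1 : Groth.Agent.PerfA.IdealModule.val I s ∈ J.ideal ⟨V, hV⟩ :=
      h ⟨V, hV⟩ (Groth.Agent.PerfA.IdealModule.val_mem I ⟨V, hV⟩ s)
    rw [← J.ker_subschemeι_app, RingHom.mem_ker] at h1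
    exact h1
  exact ⟨kernel.lift (ClSub.toSubscheme J) (ClSub.idealModι I) h0, kernel.lift_ι _ _ _⟩

end K802.Incl
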