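import Groth.Agent.AdjLin.K802.ExtDual
import Mathlib.Algebra.Homology.DerivedCategory.Ext.MapBijective

/-!
# Serre duality for `Ext¹(F, M)` after a twist
-/

set_option autoImplicit false

universe u

open CategoryTheory CategoryTheory.Limits CategoryTheory.Abelian AlgebraicGeometry

attribute [local instance] HasDerivedCategory.standard

namespace K802.TwistDual

open Groth.Agent Groth.Agent.CurvesC Groth.Agent.CurvesC.RepX Groth.Agent.CurvesC.DualLin
open K802.ExtDual

variable (k : Type u) [Field k] {X : Scheme.{u}} [X.Over (Spec (CommRingCat.of k))] [HasExt.{u} X.Modules]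

attribute [local instance] LinMod.linearModules

variable (T : X.Modules ⥤ X.Modules) [T.Additive] [PreservesFiniteLimits T] [PreservesFiniteColimits T]
  {M W : X.Modules} (κ : T.obj M ≅ W) (τ : Ext.{u} (Coh.structureModule X) W 2 →ₗ[k] k)

/-- The functional on `H¹(T F)` attached to a class in `Ext¹(F, M)`. -/
noncomputable def lam {F : X.Modules} (x : Ext.{u} F M 1) :
    Module.Dual k (Ext.{u} (Coh.structureModule X) (T.obj F) 1) :=
  fun' k τ (show 1 + 1 = 2 from rfl) ((x.mapExactFunctor T).comp (Ext.mk₀ κ.hom) (add_zero 1))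

theorem lam_comp {F F' : X.Modules} (φ : F ⟶ F') (x : Ext.{u} F' M 1)
    (s : Ext.{u} (Coh.structureModule X) (T.obj F) 1) :
    lam k T κ τ ((Ext.mk₀ φ).comp x (zero_add 1)) s =
      lam k T κ τ x (s.comp (Ext.mk₀ (T.map φ)) (add_zero 1)) := by
  rw [lam, lam, fun'_apply, fun'_apply, Ext.mapExactFunctor_comp, Ext.mapExactFunctor_mk₀,
    Ext.comp_assoc_of_third_deg_zero, Ext.comp_assoc_of_second_deg_zero]

variable {τ}

theorem lam_bijective [T.IsEquivalence] (hτ : IsPerfect k τ) {F : X.Modules} (hF : Coh.IsQCoh (T.obj F)) :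
    Function.Bijective (fun x : Ext.{u} F M 1 => lam k T κ τ x) := by
  have h1 := hτ (T.obj F) hF 1 1 rfl
  have h2 : Function.Bijective (fun x : Ext.{u} F M 1 => x.mapExactFunctor T) := by
    have hinj : T.PreservesInjectiveObjects :=
      Functor.preservesInjectiveObjects_of_adjunction_of_preservesMonomorphisms
        T.asEquivalence.symm.toAdjunction
    exact T.mapExt_bijective_of_preservesInjectiveObjects F M 1
  have h3 : Function.Bijective (fun x : Ext.{u} (T.obj F) (T.obj M) 1 =>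
      x.comp (Ext.mk₀ κ.hom) (add_zero 1)) := by
    refine Function.bijective_iff_has_inverse.2 ⟨fun y => y.comp (Ext.mk₀ κ.inv) (add_zero 1), ?_, ?_⟩
    · intro x
      dsimp only
      rw [Ext.comp_assoc_of_third_deg_zero, Ext.mk₀_comp_mk₀, κ.hom_inv_id, Ext.comp_mk₀_id]
    · intro x
      dsimp only
      rw [Ext.comp_assoc_of_third_deg_zero, Ext.mk₀_comp_mk₀, κ.inv_hom_id, Ext.comp_mk₀_id]
  exact h1.comp (h3.comp h2)

/-- Pulled back classes vanish on the kernel. -/
theorem lam_eq_zero {F F' : X.Modules} (φ : F ⟶ F') (x : Ext.{u} F' M 1)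
    (s : Ext.{u} (Coh.structureModule X) (T.obj F) 1)
    (hs : s.comp (Ext.mk₀ (T.map φ)) (add_zero 1) = 0) :
    lam k T κ τ ((Ext.mk₀ φ).comp x (zero_add 1)) s = 0 := by
  rw [lam_comp, hs, map_zero]

include κ in
/-- If the kernel is zero all classes are pulled back. -/
theorem exists_of_injective [T.IsEquivalence] (hτ : IsPerfect k τ) {F F' : X.Modules}
    (hF : Coh.IsQCoh (T.obj F)) (hF' : Coh.IsQCoh (T.obj F')) (φ : F ⟶ F')
    (hinj : ∀ s : Ext.{u} (Coh.structureModule X) (T.obj F) 1,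
      s.comp (Ext.mk₀ (T.map φ)) (add_zero 1) = 0 → s = 0) (x : Ext.{u} F M 1) :
    ∃ x' : Ext.{u} F' M 1, (Ext.mk₀ φ).comp x' (zero_add 1) = x := by
  let f : Ext.{u} (Coh.structureModule X) (T.obj F) 1 →ₗ[k] Ext.{u} (Coh.structureModule X) (T.obj F') 1 :=
    (Ext.mk₀ (T.map φ)).postcompOfLinear k (Coh.structureModule X) (add_zero 1)
  have hf : Function.Injective f := (injective_iff_map_eq_zero f).2 hinj
  obtain ⟨g, hg⟩ := LinearMap.exists_leftInverse_of_injective f (LinearMap.ker_eq_bot.2 hf)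
  obtain ⟨x', hx'⟩ := (lam_bijective k T κ hτ hF').2 (lam k T κ τ x ∘ₗ g)
  refine ⟨x', (lam_bijective k T κ hτ hF).1 ?_⟩
  ext s
  change lam k T κ τ ((Ext.mk₀ φ).comp x' (zero_add 1)) s = lam k T κ τ x s
  rw [lam_comp]
  change lam k T κ τ x' (f s) = _
  have h1 : lam k T κ τ x' = lam k T κ τ x ∘ₗ g := hx'
  rw [h1, LinearMap.comp_apply]
  congr 1
  exact LinearMap.congr_fun hg s

end K802.TwistDual
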