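import Groth.Agent.AdjLin.K802.CoverKernel
import Groth.Agent.AdjLin.K802.TwistDual
import Groth.Agent.AdjLin.K802.ExtPull
import Groth.Agent.AdjLin.K802.Incl
import Groth.Agent.Sga7.H745.ExtReal

/-!
# The Cayley–Bacharach criterion for extensions of `I_Z` by an invertible module
-/

set_option autoImplicit false

universe u

open CategoryTheory CategoryTheory.Limits CategoryTheory.Abelian AlgebraicGeometry

attribute [local instance] HasDerivedCategory.standard

namespace K802.CBMain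

open Groth.Agent Groth.Agent.Fdesc.LocGen Groth.Agent.CurvesC
open K802.EvalMap K802.EvalDim

variable (k : Type u) [Field k] [IsAlgClosed k] {X : Scheme.{u}} [X.Over (Spec (CommRingCat.of k))]
  [IsProper (X ↘ (Spec (CommRingCat.of k)))] [Smooth (X ↘ (Spec (CommRingCat.of k)))] [IrreducibleSpace X]
  (hdim : topologicalKrullDim X = 2) [HasExt.{u} X.Modules]

attribute [local instance] LinMod.linearModules

include k hdim in
/-- The bundle criterion on a smooth surface. -/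
theorem crit {M : X.Modules} (hM : PicF.IsInvertible M) {I : X.IdealSheafData}
    (hfin : (I.support : Set X).Finite) {F : X.Modules} {a : M ⟶ F} {b : F ⟶ ClSub.idealMod I}
    {w : a ≫ b = 0} (hex : (ShortComplex.mk a b w).ShortExact) :
    ¬ FlatMod.IsFinLocFree F ↔
      ∃ (I' : X.IdealSheafData) (φ : ClSub.idealMod I ⟶ ClSub.idealMod I')
        (ξ' : Ext.{u} (ClSub.idealMod I') M 1), I < I' ∧
          φ ≫ ClSub.idealModι I' = ClSub.idealModι I ∧
            (Ext.mk₀ φ).comp ξ' (zero_add 1) = (hex.extClass : Ext.{u} _ _ 1) := by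
  have := SurfBase.isNoetherian (X ↘ (Spec (CommRingCat.of k)))
  have := GoodPoint.isIntegral_of_smooth (X ↘ (Spec (CommRingCat.of k)))
  let U : X.Opens := ⟨(I.support : Set X)ᶜ, I.support.isClosed.isOpen_compl⟩
  have h := BundleCrit.criterion I hex U (SurfBase.regular (X ↘ (Spec (CommRingCat.of k)))) hdim.le
    (fun x hx => SurfBase.two_le (X ↘ (Spec (CommRingCat.of k))) hdim I.support.isClosed hfin x
      (not_not.1 hx)) (fun x hx => hx) hM
  rw [h]
  constructor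
  · rintro ⟨I', F', a', b', w', φ, g, hlt, hex', hφ, hg1, hg2⟩
    refine ⟨I', φ, hex'.extClass, hlt, hφ, ?_⟩
    have h3 := ShortComplex.ShortExact.extClass_naturality hex hex'
      { τ₁ := 𝟙 M
        τ₂ := g
        τ₃ := φ
        comm₁₂ := by
          change 𝟙 M ≫ a' = a ≫ g
          rw [Category.id_comp, hg1]
        comm₂₃ := hg2 }
    exact h3.symm.trans (Ext.comp_mk₀_id _)
  · rintro ⟨I', φ, ξ', hlt, hφ, hξ⟩
    obtain ⟨F', a', b', w', hex', rfl⟩ := Sga7.H745.ExtReal.exists_extClass ξ'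
    obtain ⟨g, hg1, hg2⟩ := ExtPull.exists_hom hex hex' φ hξ
    exact ⟨I', F', a', b', w', φ, g, hlt, hex', hφ, hg1, hg2⟩

variable {ω : X.Modules} {M N : X.Modules} (hM : PicF.IsInvertible M) (hN : PicF.IsInvertible N)
  [(DCoh.tensorRightMod N).IsEquivalence] (κ : (DCoh.tensorRightMod N).obj M ≅ ω)
  (τ : Ext.{u} (Coh.structureModule X) ω 2 →ₗ[k] k) (hτ : ExtDual.IsPerfect k τ)
  {A : X.Modules} (hA : CohB1.IsAmple A)
  {I : X.IdealSheafData} (hfin : (I.support : Set X).Finite)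

omit [IrreducibleSpace X] [HasExt.{u} X.Modules] [(DCoh.tensorRightMod N).IsEquivalence] in
theorem isQCoh_T (hN : PicF.IsInvertible N) (I : X.IdealSheafData) :
    Coh.IsQCoh ((DCoh.tensorRightMod N).obj (ClSub.idealMod I)) :=
  Ega2.TensGen.isQCoh_tensor (PerfA.IdealModule.isQCoh_idealMod I) hN

include hdim hM hN κ hτ hA hfin in
/-- A locally free extension gives the Cayley–Bacharach property. -/
theorem cb_of_extension {F : X.Modules} {a : M ⟶ F} {b : F ⟶ ClSub.idealMod I}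
    {w : a ≫ b = 0} (hex : (ShortComplex.mk a b w).ShortExact) (hl : FlatMod.IsFinLocFree F)
    (I' : X.IdealSheafData) (hcov : I ⋖ I') (σ : Coh.structureModule X ⟶ N)
    (hσ : PicF2.zeroScheme N σ ≤ I') : PicF2.zeroScheme N σ ≤ I := by
  have := SurfBase.isNoetherian (X ↘ (Spec (CommRingCat.of k)))
  obtain ⟨V, hV, hgen⟩ := Nbhd.exists_affine hA (fun _ : Unit => N) (fun _ => hN) hfin
  obtain ⟨e, he⟩ := hgen ()
  obtain ⟨φ, hφ⟩ := Incl.exists_incl hcov.le
  by_contra hcon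
  refine (crit k hdim hM hfin hex).2 ?_ hl
  obtain ⟨ξ', hξ'⟩ := TwistDual.exists_of_injective k (DCoh.tensorRightMod N) κ hτ
    (isQCoh_T hN I) (isQCoh_T hN I') φ
    (fun s hs => CoverKernel.eq_zero k hN hcov hV he hfin φ hφ (fun h => hcon (h σ hσ)) s hs)
    hex.extClass
  exact ⟨I', φ, ξ', hcov.lt, hφ, hξ'⟩

include hdim hM hN κ hτ hA hfin in
/-- The Cayley–Bacharach property gives a locally free extension. -/
theorem extension_of_cb
    (hlci : ∀ x : X, ∃ V : X.affineOpens, x ∈ (V : X.Opens) ∧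
      ∃ a b : Γ(X, V), I.ideal V = Ideal.span {a, b})
    (hCB : ∀ I' : X.IdealSheafData, I ⋖ I' → ∀ σ : Coh.structureModule X ⟶ N,
      PicF2.zeroScheme N σ ≤ I' → PicF2.zeroScheme N σ ≤ I) :
    ∃ (F : X.Modules) (a : M ⟶ F) (b : F ⟶ ClSub.idealMod I) (w : a ≫ b = 0),
      (ShortComplex.mk a b w).ShortExact ∧ FlatMod.IsFinLocFree F := by
  classical
  have hX := SurfBase.isNoetherian (X ↘ (Spec (CommRingCat.of k)))
  obtain ⟨V, hV, hgen⟩ := Nbhd.exists_affine hA (fun _ : Unit => N) (fun _ => hN) hfin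
  obtain ⟨e, he⟩ := hgen ()
  -- the socle elements
  let _ := alg k I V
  have hfinQ : Module.Finite k (Coh.HH X (ClSub.quotMod I) 0) :=
    S0002.result k X _ (VarietyB.DegCartier.isCoh_quotMod I) 0
  have hfinR := (finrank_quot k I hV).2 hfinQ
  have hArt : IsArtinianRing (Γ(X, V) ⧸ I.ideal V) := IsArtinianRing.of_finite k _
  obtain ⟨S, hS1, hS2⟩ := SocleFinite.exists_finset (I := I.ideal V)
    (fun m hm _ => GoodPoint.good (X ↘ (Spec (CommRingCat.of k))) hdim I hlci V m hm)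
  -- the minimal overideals and vectors in the kernels
  have hch : ∀ s : S, ∃ (I' : X.IdealSheafData) (φ : ClSub.idealMod I ⟶ ClSub.idealMod I')
      (v : Ext.{u} (Coh.structureModule X) ((DCoh.tensorRightMod N).obj (ClSub.idealMod I)) 1),
      (∀ J : X.IdealSheafData, I ≤ J →
        (∃ a ∈ J.ideal V, Ideal.Quotient.mk (I.ideal V) a = s.1) → I' ≤ J) ∧
      φ ≫ ClSub.idealModι I' = ClSub.idealModι I ∧ v ≠ 0 ∧
      v.comp (Ext.mk₀ ((DCoh.tensorRightMod N).map φ)) (add_zero 1) = 0 := by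
    intro s
    obtain ⟨hs0, m, hm, -, hms⟩ := hS1 s.1 s.2
    obtain ⟨a, ha⟩ := Ideal.Quotient.mk_surjective s.1
    have haI : a ∉ I.ideal V := fun h => hs0 (by rw [← ha]; exact Ideal.Quotient.eq_zero_iff_mem.2 h)
    have hcov := RankSum.covBy_sup_span hm haI fun z hz => by
      rw [← Ideal.Quotient.eq_zero_iff_mem, map_mul, ha]
      exact hms z hz
    obtain ⟨I', hI', hI'V⟩ := SubIdeal.exists_ideal V (I.ideal V ⊔ Ideal.span {a}) le_sup_left
    have hcov' : I ⋖ I' := SubIdeal.covBy_of_covBy_ideal hV hI' (by rw [hI'V]; exact hcov)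
    obtain ⟨φ, hφ⟩ := Incl.exists_incl hI'
    obtain ⟨v, hv0, hv⟩ := CoverKernel.exists_ne_zero k hN hcov' hV he hfin φ hφ (hCB I' hcov')
    refine ⟨I', φ, v, fun J hJ hJa => ?_, hφ, hv0, hv⟩
    obtain ⟨a', ha', hs⟩ := hJa
    rw [SubIdeal.le_iff hV hJ, hI'V]
    refine sup_le (hJ V) ((Ideal.span_singleton_le_iff_mem _).2 ?_)
    have h1 : a' - a ∈ I.ideal V := by
      rw [← Ideal.Quotient.eq, hs, ha]
    have h2 := (J.ideal V).sub_mem ha' (hJ V h1)
    rwa [sub_sub_cancel] at h2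
  choose I' φ v hle hφ hv0 hv using hch
  have hinf : Infinite k := IsAlgClosed.instInfinite
  obtain ⟨ψ, -, hψ⟩ := GorensteinPairing.exists_dual (k := k) ⊥ (Finset.univ.image v) (by
    intro x hx
    obtain ⟨s, -, rfl⟩ := Finset.mem_image.1 hx
    rw [Submodule.mem_bot]
    exact hv0 s)
  obtain ⟨ξ, hξ⟩ := (TwistDual.lam_bijective k (DCoh.tensorRightMod N) κ hτ (isQCoh_T hN I)).2 ψ
  obtain ⟨F, a, b, w, hex, hext⟩ := Sga7.H745.ExtReal.exists_extClass ξ
  refine ⟨F, a, b, w, hex, ?_⟩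
  by_contra hl
  obtain ⟨J, φJ, ξ', hlt, hφJ, hξ'⟩ := (crit k hdim hM hfin hex).1 hl
  have hltV : I.ideal V < J.ideal V :=
    lt_of_le_of_ne (hlt.le V) fun h => hlt.ne ((SubIdeal.eq_iff hV le_rfl hlt.le).2 h)
  obtain ⟨c, hcJ, hcI⟩ := SetLike.exists_of_lt hltV
  obtain ⟨s, hs, hsJ⟩ := hS2 ((J.ideal V).map (Ideal.Quotient.mk (I.ideal V))) (by
    intro h
    have h1 := Ideal.mem_map_of_mem (Ideal.Quotient.mk (I.ideal V)) hcJ
    rw [h, Submodule.mem_bot, Ideal.Quotient.eq_zero_iff_mem] at h1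
    exact hcI h1)
  rw [Ideal.mem_map_iff_of_surjective _ Ideal.Quotient.mk_surjective] at hsJ
  have hIJ := hle ⟨s, hs⟩ J hlt.le hsJ
  obtain ⟨ι, hι⟩ := Incl.exists_incl hIJ
  have hcomp : φJ = φ ⟨s, hs⟩ ≫ ι := by
    have := PerfA.IdealModule.mono_idealModι J
    rw [← cancel_mono (ClSub.idealModι J), Category.assoc, hι, hφ, hφJ]
  apply hψ (v ⟨s, hs⟩) (Finset.mem_image_of_mem _ (Finset.mem_univ _))
  have h1 : TwistDual.lam k (DCoh.tensorRightMod N) κ τ ξ = ψ := hξ
  rw [← h1, ← hext, ← hξ']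
  refine TwistDual.lam_eq_zero k (DCoh.tensorRightMod N) κ φJ ξ' (v ⟨s, hs⟩) ?_
  rw [hcomp, Functor.map_comp, ← Ext.mk₀_comp_mk₀, ← Ext.comp_assoc_of_third_deg_zero, hv,
    Ext.zero_comp]

end K802.CBMain
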