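import Mathlib.GroupTheory.CosetCover
import Mathlib.LinearAlgebra.Dual.Lemmas
import Mathlib.LinearAlgebra.FiniteDimensional.Lemmas
import Mathlib.RingTheory.Ideal.Span

/-!
# A duality pairing on a finite dimensional algebra with finitely many minimal ideals

`R` is a finite-dimensional commutative algebra over an infinite field, `S` a finite set of
elements such that each nonzero ideal contains one of them.  A subspace `U` which contains no
element of `S` is killed by a linear form `ψ` nonzero on `S`; the form `(a, b) ↦ ψ (a * b)` is then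
nondegenerate and two subspaces with product in `U` have dimensions adding up to at most
`dim R`.
-/

set_option autoImplicit false

namespace K802.GorensteinPairing

universe u v

open Module

/-- Over an infinite field, a subspace avoiding finitely many vectors is killed by a linear form
which is nonzero on all of them. -/
theorem exists_dual {k : Type u} [Field k] [Infinite k] {E : Type v} [AddCommGroup E] [Module k E]
    (U : Submodule k E) (S : Finset E) (hS : ∀ s ∈ S, s ∉ U) :
    ∃ ψ : E →ₗ[k] k, (∀ x ∈ U, ψ x = 0) ∧ ∀ s ∈ S, ψ s ≠ 0 := by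
  classical
  -- the subspaces of the dual annihilator of `U` of the forms killing `s`
  let A : Submodule k (Dual k E) := U.dualAnnihilator
  let K : E → Submodule k A := fun s => LinearMap.ker ((Dual.eval k E s).comp A.subtype)
  have hK : ∀ s ∈ S, K s ≠ ⊤ := by
    intro s hs htop
    obtain ⟨f, hf, hfU⟩ := Submodule.exists_dual_map_eq_bot_of_notMem (hS s hs) inferInstance
    have hfA : f ∈ A := by
      rw [Submodule.mem_dualAnnihilator]
      intro w hw
      have : f w ∈ U.map f := ⟨w, hw, rfl⟩
      rw [hfU] at this
      simpa using this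
    have h1 : (⟨f, hfA⟩ : A) ∈ K s := by rw [htop]; trivial
    exact hf (by simpa [K] using h1)
  have htop : (⊤ : Submodule k A) ∉ S.image K := by
    intro h
    obtain ⟨s, hs, h⟩ := Finset.mem_image.1 h
    exact hK s hs h
  have hcov := Subspace.biUnion_ne_univ_of_top_notMem (k := k) (E := A) (s := S.image K) htop
  obtain ⟨ψ, hψ⟩ := (Set.ne_univ_iff_exists_notMem _).1 hcov
  refine ⟨ψ.1, fun x hx => (Submodule.mem_dualAnnihilator _).1 ψ.2 x hx, fun s hs h => hψ ?_⟩
  refine Set.mem_iUnion₂.2 ⟨K s, Finset.mem_image_of_mem _ hs, ?_⟩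
  simpa [K] using h

/-- If `ψ` is a linear form on the finite-dimensional algebra `R` which does not vanish on any
nonzero ideal, subspaces orthogonal for `(a, b) ↦ ψ (a * b)` have dimensions adding up to at most
`dim R`. -/
theorem finrank_add_le {k : Type u} [Field k] {R : Type v} [CommRing R] [Algebra k R]
    [FiniteDimensional k R] (ψ : R →ₗ[k] k) (hψ : ∀ a : R, (∀ b : R, ψ (a * b) = 0) → a = 0)
    (V W : Submodule k R) (hVW : ∀ v ∈ V, ∀ w ∈ W, ψ (v * w) = 0) :
    finrank k V + finrank k W ≤ finrank k R := by
  -- the map `a ↦ ψ (a * ·)`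
  let T : R →ₗ[k] Dual k R := (LinearMap.mul k R).compr₂ ψ
  have hT : ∀ a b, T a b = ψ (a * b) := fun a b => rfl
  have hTi : Function.Injective T := by
    rw [injective_iff_map_eq_zero]
    intro a ha
    exact hψ a fun b => by rw [← hT, ha]; rfl
  have h1 : V.map T ≤ W.dualAnnihilator := by
    rintro _ ⟨v, hv, rfl⟩
    rw [Submodule.mem_dualAnnihilator]
    intro w hw
    exact hVW v hv w hw
  have h2 : finrank k (V.map T) = finrank k V :=
    (LinearEquiv.finrank_eq (Submodule.equivMapOfInjective T hTi V)).symm
  have h3 := Submodule.finrank_mono h1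
  have h4 := Subspace.finrank_add_finrank_dualAnnihilator_eq W
  omega

/-- The combination of the two previous lemmas. -/
theorem finrank_add_le_of_notMem {k : Type u} [Field k] [Infinite k] {R : Type v} [CommRing R]
    [Algebra k R] [FiniteDimensional k R] (S : Finset R)
    (hS : ∀ I : Ideal R, I ≠ ⊥ → ∃ s ∈ S, s ∈ I)
    (U : Submodule k R) (hU : ∀ s ∈ S, s ∉ U) (V W : Submodule k R)
    (hVW : ∀ v ∈ V, ∀ w ∈ W, v * w ∈ U) :
    finrank k V + finrank k W ≤ finrank k R := by
  obtain ⟨ψ, hψU, hψS⟩ := exists_dual U S hU
  refine finrank_add_le ψ (fun a ha => ?_) V W fun v hv w hw => hψU _ (hVW v hv w hw)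
  by_contra hne
  obtain ⟨s, hs, hsI⟩ := hS (Ideal.span {a}) (by simpa using hne)
  obtain ⟨b, rfl⟩ := Ideal.mem_span_singleton'.1 hsI
  exact hψS _ hs (by rw [mul_comm]; exact ha b)

end K802.GorensteinPairing
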