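import Mathlib.LinearAlgebra.Projectivization.Basic
import Mathlib.RingTheory.MvPolynomial.Homogeneous
import Mathlib.LinearAlgebra.Dimension.Finrank
import Groth.Agent.AdjLin.K802.GorensteinPairing

/-!
# The Cayley–Bacharach property for finite sets of points of projective space

Elementary consequences of the Cayley–Bacharach property for a finite set of points of the
projectivization of `k⁴`: residual sets, the lower bound `n + 2`, collinearity when there are at
most `2n + 1` points, and the plane configuration theorem when there are at most `3n + 1` points.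
-/

set_option autoImplicit false

namespace K802.CBPoints

universe u

open Module MvPolynomial

variable {k : Type u} [Field k]

/-- The points of `P³`. -/
local notation "PP" => Projectivization k (Fin 4 → k)

/-- The Cayley–Bacharach property in degree `n`. -/
def CB (Z : Finset (Projectivization k (Fin 4 → k))) (n : ℕ) : Prop :=
  ∀ z ∈ Z, ∀ p : MvPolynomial (Fin 4) k, p.IsHomogeneous n →
    (∀ z' ∈ Z, z' ≠ z → MvPolynomial.eval z'.rep p = 0) → MvPolynomial.eval z.rep p = 0

/-- The linear form attached to a functional. -/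
noncomputable def lin (φ : (Fin 4 → k) →ₗ[k] k) : MvPolynomial (Fin 4) k :=
  ∑ i, C (φ (Pi.single i 1)) * X i

lemma lin_isHomogeneous (φ : (Fin 4 → k) →ₗ[k] k) : (lin φ).IsHomogeneous 1 := by
  unfold lin
  refine IsHomogeneous.sum _ _ _ fun i _ => ?_
  simpa using (isHomogeneous_C (Fin 4) (φ (Pi.single i 1))).mul (isHomogeneous_X k i)

lemma eval_lin (φ : (Fin 4 → k) →ₗ[k] k) (v : Fin 4 → k) : eval v (lin φ) = φ v := by
  unfold lin
  rw [map_sum, ← LinearMap.sum_single_apply (φ := fun _ : Fin 4 => k) v, map_sum]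
  refine Finset.sum_congr rfl fun i _ => ?_
  rw [LinearMap.sum_single_apply]
  have : (Pi.single i (v i) : Fin 4 → k) = v i • Pi.single i 1 := by
    rw [← Pi.single_smul, smul_eq_mul, mul_one]
  rw [this, map_smul]
  simp [mul_comm]

lemma rep_mem_iff (z : PP) (W : Submodule k (Fin 4 → k)) : z.rep ∈ W ↔ z.submodule ≤ W := by
  rw [Projectivization.submodule_eq, Submodule.span_singleton_le_iff_mem]

/-- Two points agree when one lies on the line spanned by the other. -/
lemma eq_of_rep_mem {z w : PP} (h : z.rep ∈ w.submodule) : z = w := by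
  rw [Projectivization.submodule_eq, Submodule.mem_span_singleton] at h
  obtain ⟨a, ha⟩ := h
  have ha0 : a ≠ 0 := by
    rintro rfl
    exact z.rep_nonzero (by rw [← ha, zero_smul])
  rw [← z.mk_rep, ← w.mk_rep, Projectivization.mk_eq_mk_iff]
  exact ⟨Units.mk0 a ha0, ha⟩

/-- A functional zero on `W` and nonzero at the finitely many points of `Z` outside `W`. -/
lemma exists_functional [Infinite k] (Z : Finset PP) (W : Submodule k (Fin 4 → k)) :
    ∃ φ : (Fin 4 → k) →ₗ[k] k, (∀ x ∈ W, φ x = 0) ∧ ∀ z ∈ Z, z.rep ∉ W → φ z.rep ≠ 0 := by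
  classical
  obtain ⟨φ, h1, h2⟩ := GorensteinPairing.exists_dual W
    ((Z.filter fun z => z.rep ∉ W).image fun z => z.rep) (by
      intro s hs
      obtain ⟨z, hz, rfl⟩ := Finset.mem_image.1 hs
      exact (Finset.mem_filter.1 hz).2)
  exact ⟨φ, h1, fun z hz hW => h2 _ (Finset.mem_image_of_mem _ (Finset.mem_filter.2 ⟨hz, hW⟩))⟩

/-- Removing the points on a hyperplane lowers the degree by one. -/
lemma CB.filter_ne {Z : Finset PP} {n : ℕ} (h : CB Z (n + 1)) (φ : (Fin 4 → k) →ₗ[k] k)
    [DecidablePred fun z : PP => φ z.rep ≠ 0] : CB (Z.filter fun z => φ z.rep ≠ 0) n := by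
  intro z hz p hp hv
  obtain ⟨hz, hφ⟩ := Finset.mem_filter.1 hz
  have h1 := h z hz (p * lin φ) (hp.mul (lin_isHomogeneous φ)) (fun z' hz' hne => by
    rw [map_mul, eval_lin]
    by_cases h0 : φ z'.rep = 0
    · rw [h0, mul_zero]
    · rw [hv z' (Finset.mem_filter.2 ⟨hz', h0⟩) hne, zero_mul])
  rw [map_mul, eval_lin] at h1
  exact (mul_eq_zero.1 h1).resolve_right hφ

open scoped Classical in
/-- Removing the points on a linear subspace lowers the degree by one. -/
lemma CB.filter_notMem [Infinite k] {Z : Finset PP} {n : ℕ} (h : CB Z (n + 1))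
    (W : Submodule k (Fin 4 → k)) : CB (Z.filter fun z => z.rep ∉ W) n := by
  obtain ⟨φ, h1, h2⟩ := exists_functional Z W
  have : (Z.filter fun z => z.rep ∉ W) = Z.filter fun z => φ z.rep ≠ 0 := by
    ext z
    simp only [Finset.mem_filter, and_congr_right_iff]
    exact fun hz => ⟨h2 z hz, fun h hW => h (h1 _ hW)⟩
  rw [this]
  exact h.filter_ne φ

/-- A nonempty set with the property in degree `n` has at least `n + 2` points. -/
theorem CB.le_card [Infinite k] {n : ℕ} : ∀ {Z : Finset PP}, CB Z n → Z.Nonempty → n + 2 ≤ Z.card := by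
  classical
  -- a nonempty set has at least two points
  have two : ∀ {n : ℕ} {Z : Finset PP}, CB Z n → Z.Nonempty → 2 ≤ Z.card := by
    intro n Z h hZ
    by_contra hlt
    obtain ⟨z, rfl⟩ : ∃ z, Z = {z} := by
      have := hZ.card_pos
      exact Finset.card_eq_one.1 (by omega)
    obtain ⟨φ, -, h2⟩ := exists_functional {z} ⊥
    have h0 := h z (by simp) (lin φ ^ n) (by simpa using (lin_isHomogeneous φ).pow n)
      (fun z' hz' hne => absurd (Finset.mem_singleton.1 hz') hne)
    rw [map_pow, eval_lin] at h0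
    exact h2 z (by simp) (by simpa using z.rep_nonzero)
      ((pow_eq_zero_iff (by rintro rfl; simp at h0)).1 h0)
  induction n with
  | zero => exact fun h hZ => two h hZ
  | succ n ih =>
    intro Z h hZ
    have h2 := two h hZ
    obtain ⟨z₀, hz₀, z₁, hz₁, hne⟩ := Finset.one_lt_card.1 h2
    have h' := h.filter_notMem z₀.submodule
    have hz₁' : z₁ ∈ Z.filter fun z => z.rep ∉ z₀.submodule :=
      Finset.mem_filter.2 ⟨hz₁, fun hm => hne (eq_of_rep_mem hm).symm⟩
    have h3 := ih h' ⟨z₁, hz₁'⟩
    have h4 : (Z.filter fun z => z.rep ∉ z₀.submodule).card < Z.card := by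
      refine Finset.card_lt_card (Finset.filter_ssubset.2 ⟨z₀, hz₀, ?_⟩)
      rw [not_not, Projectivization.submodule_eq]
      exact Submodule.mem_span_singleton_self _
    omega

/-- Adding a vector to a subspace. -/
lemma finrank_sup_span_le (W : Submodule k (Fin 4 → k)) (v : Fin 4 → k) :
    finrank k (W ⊔ Submodule.span k {v} : Submodule k (Fin 4 → k)) ≤ finrank k W + 1 := by
  have h := Submodule.finrank_add_le_finrank_add_finrank W (Submodule.span k {v})
  have h2 : finrank k (Submodule.span k {v}) ≤ 1 := by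
    by_cases hv : v = 0
    · rw [hv, Submodule.span_zero_singleton, finrank_bot]
      exact zero_le_one
    · rw [finrank_span_singleton hv]
  omega

lemma finrank_sup_span {W : Submodule k (Fin 4 → k)} {v : Fin 4 → k} (hv : v ∉ W) :
    finrank k (W ⊔ Submodule.span k {v} : Submodule k (Fin 4 → k)) = finrank k W + 1 := by
  refine le_antisymm (finrank_sup_span_le W v) ?_
  refine Submodule.finrank_lt_finrank_of_lt (lt_of_le_of_ne le_sup_left fun h => hv ?_)
  rw [h]
  exact Submodule.mem_sup_right (Submodule.mem_span_singleton_self v)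

/-- A subspace is contained in a subspace of any larger dimension. -/
lemma exists_ge_finrank {d : ℕ} (hd : d ≤ 4) (j : ℕ) : ∀ (W : Submodule k (Fin 4 → k)),
    finrank k W + j = d → ∃ W', W ≤ W' ∧ finrank k W' = d := by
  induction j with
  | zero => exact fun W h => ⟨W, le_rfl, by simpa using h⟩
  | succ j ih =>
    intro W h
    have hlt : finrank k W < finrank k (Fin 4 → k) := by simp; omega
    have hne : W ≠ ⊤ := by
      rintro rfl
      simp at hlt
    obtain ⟨v, -, hv⟩ := SetLike.exists_of_lt (lt_top_iff_ne_top.2 hne)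
    obtain ⟨W', h1, h2⟩ := ih (W ⊔ Submodule.span k {v}) (by rw [finrank_sup_span hv]; omega)
    exact ⟨W', le_sup_left.trans h1, h2⟩

lemma exists_ge_finrank' {d : ℕ} (hd : d ≤ 4) (W : Submodule k (Fin 4 → k))
    (h : finrank k W ≤ d) : ∃ W', W ≤ W' ∧ finrank k W' = d :=
  exists_ge_finrank hd (d - finrank k W) W (by omega)

/-- Finitely many points, few in number, lie on a subspace of dimension their number. -/
lemma exists_finrank_of_card_le {d : ℕ} (hd : d ≤ 4) (Z : Finset PP) (h : Z.card ≤ d) :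
    ∃ W : Submodule k (Fin 4 → k), finrank k W = d ∧ ∀ z ∈ Z, z.rep ∈ W := by
  classical
  have h1 : finrank k (Submodule.span k (Z.image fun z => z.rep : Set (Fin 4 → k))) ≤ d := by
    have := finrank_span_finset_le_card (R := k) (Z.image fun z => z.rep)
    rw [Set.finrank] at this
    exact this.trans (Finset.card_image_le.trans h)
  obtain ⟨W, hW, h2⟩ := exists_ge_finrank' hd _ h1
  exact ⟨W, h2, fun z hz => hW (Submodule.subset_span (by simpa using ⟨z, hz, rfl⟩))⟩

/-- Two distinct points on a line determine it. -/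
lemma le_of_two_mem {W W' : Submodule k (Fin 4 → k)} (hW : finrank k W = 2) {z w : PP}
    (hne : z ≠ w) (hz : z.rep ∈ W) (hw : w.rep ∈ W) (hz' : z.rep ∈ W') (hw' : w.rep ∈ W') :
    W ≤ W' := by
  have hwz : w.rep ∉ z.submodule := fun h => hne (eq_of_rep_mem h).symm
  have h1 : finrank k (z.submodule ⊔ Submodule.span k {w.rep} : Submodule k (Fin 4 → k)) = 2 := by
    rw [finrank_sup_span hwz, Projectivization.submodule_eq, finrank_span_singleton z.rep_nonzero]
  have h2 : (z.submodule ⊔ Submodule.span k {w.rep} : Submodule k (Fin 4 → k)) ≤ W :=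
    sup_le ((rep_mem_iff z W).1 hz) ((Submodule.span_singleton_le_iff_mem _ _).2 hw)
  have h3 := Submodule.eq_of_le_of_finrank_le h2 (by rw [h1, hW])
  rw [← h3]
  exact sup_le ((rep_mem_iff z W').1 hz') ((Submodule.span_singleton_le_iff_mem _ _).2 hw')

open scoped Classical in
lemma card_filter_add (Z : Finset PP) (W : Submodule k (Fin 4 → k)) :
    (Z.filter fun z => z.rep ∈ W).card + (Z.filter fun z => z.rep ∉ W).card = Z.card :=
  Finset.card_filter_add_card_filter_not _

/-- At most `2n + 1` points with the property in degree `n` are collinear. -/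
theorem CB.collinear [Infinite k] {n : ℕ} : ∀ {Z : Finset PP}, CB Z n → Z.card ≤ 2 * n + 1 →
    ∃ W : Submodule k (Fin 4 → k), finrank k W = 2 ∧ ∀ z ∈ Z, z.rep ∈ W := by
  classical
  induction n with
  | zero =>
    intro Z h hc
    exact exists_finrank_of_card_le (by norm_num) Z (by omega)
  | succ n ih =>
    intro Z h hc
    by_cases h2 : Z.card ≤ 2
    · exact exists_finrank_of_card_le (by norm_num) Z h2
    obtain ⟨z₀, hz₀, z₁, hz₁, hne⟩ := Finset.one_lt_card.1 (by omega : 1 < Z.card)
    obtain ⟨W, hW, hm⟩ := exists_finrank_of_card_le (d := 2) (by norm_num) {z₀, z₁}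
      Finset.card_le_two
    have hz₀W : z₀.rep ∈ W := hm _ (by simp)
    have hz₁W : z₁.rep ∈ W := hm _ (by simp)
    have h3 := card_filter_add Z W
    have h4 : 1 < (Z.filter fun z => z.rep ∈ W).card :=
      Finset.one_lt_card.2 ⟨z₀, by simp [hz₀, hz₀W], z₁, by simp [hz₁, hz₁W], hne⟩
    have h' := h.filter_notMem W
    rcases (Z.filter fun z => z.rep ∉ W).eq_empty_or_nonempty with h0 | h0
    · refine ⟨W, hW, fun z hz => ?_⟩
      by_contra hzW
      have : z ∈ Z.filter fun z => z.rep ∉ W := Finset.mem_filter.2 ⟨hz, hzW⟩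
      rw [h0] at this
      simp at this
    · obtain ⟨W', hW', hm'⟩ := ih h' (by omega)
      have h5 := h'.le_card h0
      have h6 := card_filter_add Z W'
      have h7 : (Z.filter fun z => z.rep ∉ W).card ≤ (Z.filter fun z => z.rep ∈ W').card := by
        refine Finset.card_le_card fun z hz => Finset.mem_filter.2 ⟨(Finset.mem_filter.1 hz).1,
          hm' z hz⟩
      have h8 := h.filter_notMem W'
      rcases (Z.filter fun z => z.rep ∉ W').eq_empty_or_nonempty with h9 | h9
      · refine ⟨W', hW', fun z hz => ?_⟩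
        by_contra hzW
        have : z ∈ Z.filter fun z => z.rep ∉ W' := Finset.mem_filter.2 ⟨hz, hzW⟩
        rw [h9] at this
        simp at this
      · have := h8.le_card h9
        omega

open scoped Classical in
/-- For a set on two skew lines, the part on one of the lines has the Cayley–Bacharach property. -/
theorem CB.filter_mem_of_isCompl {n : ℕ} (hn : n ≠ 0) {Z : Finset PP} (h : CB Z n)
    {W₁ W₂ : Submodule k (Fin 4 → k)} (hc : IsCompl W₁ W₂)
    (hZ : ∀ z ∈ Z, z.rep ∈ W₁ ∨ z.rep ∈ W₂) : CB (Z.filter fun z => z.rep ∈ W₁) n := by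
  intro z hz p hp hv
  obtain ⟨hz, hzW⟩ := Finset.mem_filter.1 hz
  let π : (Fin 4 → k) →ₗ[k] (Fin 4 → k) := Submodule.projection W₁ W₂ hc
  have hπ₁ : ∀ v ∈ W₁, π v = v := fun v hv => Submodule.projection_apply_of_mem_left hc hv
  have hπ₂ : ∀ v ∈ W₂, π v = 0 := fun v hv => Submodule.projection_apply_of_mem_right hc hv
  let q : MvPolynomial (Fin 4) k := MvPolynomial.aeval (fun i => lin ((LinearMap.proj i).comp π)) p
  have hq : q.IsHomogeneous n := by
    simpa using hp.aeval (fun i => lin ((LinearMap.proj i).comp π)) (n := 1)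
      fun i => lin_isHomogeneous _
  have heval : ∀ v, eval v q = eval (π v) p := by
    intro v
    have : eval v q = (MvPolynomial.aeval (R := k) v) q := by rw [MvPolynomial.aeval_eq_eval]
    rw [this]
    change ((MvPolynomial.aeval (R := k) v).comp (MvPolynomial.aeval
      (fun i => lin ((LinearMap.proj i).comp π)))) p = _
    rw [MvPolynomial.comp_aeval]
    have h2 : eval (π v) p = (MvPolynomial.aeval (R := k) (π v)) p := by
      rw [MvPolynomial.aeval_eq_eval]
    rw [h2]
    congr 2
    funext i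
    rw [MvPolynomial.aeval_eq_eval]
    exact eval_lin _ _
  have h0 := h z hz q hq (fun z' hz' hne => by
    rw [heval]
    rcases hZ z' hz' with h1 | h2
    · rw [hπ₁ _ h1]
      exact hv z' (Finset.mem_filter.2 ⟨hz', h1⟩) hne
    · rw [hπ₂ _ h2]
      rw [MvPolynomial.eval_zero, MvPolynomial.constantCoeff_eq]
      exact hp.coeff_eq_zero (by simpa using hn.symm))
  rwa [heval, hπ₁ _ hzW] at h0

open scoped Classical in
/-- There is a plane containing the largest number of points of `Z`. -/
lemma exists_max_plane (Z : Finset PP) :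
    ∃ H : Submodule k (Fin 4 → k), finrank k H = 3 ∧ ∀ H' : Submodule k (Fin 4 → k),
      finrank k H' = 3 → (Z.filter fun z => z.rep ∈ H').card ≤ (Z.filter fun z => z.rep ∈ H).card := by
  let S : Set ℕ := {c | ∃ H : Submodule k (Fin 4 → k), finrank k H = 3 ∧
    (Z.filter fun z => z.rep ∈ H).card = c}
  have hS : BddAbove S := ⟨Z.card, by rintro _ ⟨H, -, rfl⟩; exact Finset.card_filter_le _ _⟩
  have hne : S.Nonempty := by
    obtain ⟨H, hH, -⟩ := exists_finrank_of_card_le (k := k) (d := 3) (by norm_num) ∅ (by simp)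
    exact ⟨_, H, hH, rfl⟩
  obtain ⟨c, ⟨H, hH, rfl⟩, hc⟩ := hS.exists_isGreatest_of_nonempty hne
  exact ⟨H, hH, fun H' hH' => hc ⟨H', hH', rfl⟩⟩

open scoped Classical in
/-- The last step: a set on two lines is coplanar or the lines are skew. -/
lemma CB.of_two_lines [Infinite k] {n : ℕ} (hn : n ≠ 0) {Z : Finset PP} (h : CB Z n)
    {W₁ W₂ : Submodule k (Fin 4 → k)} (hW₁ : finrank k W₁ = 2) (hW₂ : finrank k W₂ = 2)
    (hZ : ∀ z ∈ Z, z.rep ∈ W₁ ∨ z.rep ∈ W₂) :
    (∃ W : Submodule k (Fin 4 → k), finrank k W = 3 ∧ ∀ z ∈ Z, z.rep ∈ W) ∨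
      (∃ W₁ W₂ : Submodule k (Fin 4 → k), finrank k W₁ = 2 ∧ finrank k W₂ = 2 ∧ W₁ ⊓ W₂ = ⊥ ∧
        (∀ z ∈ Z, z.rep ∈ W₁ ∨ z.rep ∈ W₂) ∧
        n + 2 ≤ (Z.filter fun z => z.rep ∈ W₁).card ∧
        n + 2 ≤ (Z.filter fun z => z.rep ∈ W₂).card) := by
  by_cases hd : W₁ ⊓ W₂ = ⊥
  · have hc : IsCompl W₁ W₂ := by
      rw [Submodule.isCompl_iff_disjoint _ _ (by rw [hW₁, hW₂]; simp)]
      exact disjoint_iff.2 hd
    have h1 := h.filter_mem_of_isCompl hn hc hZ
    have h2 := h.filter_mem_of_isCompl hn hc.symm fun z hz => (hZ z hz).symm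
    rcases (Z.filter fun z => z.rep ∈ W₁).eq_empty_or_nonempty with h3 | h3
    · left
      obtain ⟨W, hW, hW'⟩ := exists_ge_finrank' (d := 3) (by norm_num) W₂ (by omega)
      refine ⟨W, hW', fun z hz => hW ((hZ z hz).resolve_left fun hz' => ?_)⟩
      have : z ∈ Z.filter fun z => z.rep ∈ W₁ := Finset.mem_filter.2 ⟨hz, hz'⟩
      rw [h3] at this
      simp at this
    rcases (Z.filter fun z => z.rep ∈ W₂).eq_empty_or_nonempty with h4 | h4
    · left
      obtain ⟨W, hW, hW'⟩ := exists_ge_finrank' (d := 3) (by norm_num) W₁ (by omega)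
      refine ⟨W, hW', fun z hz => hW ((hZ z hz).resolve_right fun hz' => ?_)⟩
      have : z ∈ Z.filter fun z => z.rep ∈ W₂ := Finset.mem_filter.2 ⟨hz, hz'⟩
      rw [h4] at this
      simp at this
    exact Or.inr ⟨W₁, W₂, hW₁, hW₂, hd, hZ, h1.le_card h3, h2.le_card h4⟩
  · left
    have h1 := Submodule.finrank_sup_add_finrank_inf_eq W₁ W₂
    have h2 : finrank k (W₁ ⊓ W₂ : Submodule k (Fin 4 → k)) ≠ 0 := fun h0 =>
      hd (Submodule.finrank_eq_zero.1 h0)
    obtain ⟨W, hW, hW'⟩ := exists_ge_finrank' (d := 3) (by norm_num) (W₁ ⊔ W₂) (by omega)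
    exact ⟨W, hW', fun z hz => hW ((hZ z hz).elim (fun h => Submodule.mem_sup_left h)
      fun h => Submodule.mem_sup_right h)⟩

lemma forall_mem_of_filter_empty {Z : Finset PP} {W : Submodule k (Fin 4 → k)}
    [DecidablePred fun z : PP => z.rep ∉ W]
    (h : (Z.filter fun z => z.rep ∉ W) = ∅) : ∀ z ∈ Z, z.rep ∈ W := by
  intro z hz
  by_contra hzW
  have : z ∈ Z.filter fun z => z.rep ∉ W := Finset.mem_filter.2 ⟨hz, hzW⟩
  rw [h] at this
  simp at this

open scoped Classical in
/-- At most `3n + 1` points with the property in degree `n` are coplanar or on two skew lines. -/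
theorem CB.plane_or_two_lines [Infinite k] {n : ℕ} : ∀ {Z : Finset PP}, CB Z n →
    Z.card ≤ 3 * n + 1 →
    (∃ W : Submodule k (Fin 4 → k), finrank k W = 3 ∧ ∀ z ∈ Z, z.rep ∈ W) ∨
      (∃ W₁ W₂ : Submodule k (Fin 4 → k), finrank k W₁ = 2 ∧ finrank k W₂ = 2 ∧ W₁ ⊓ W₂ = ⊥ ∧
        (∀ z ∈ Z, z.rep ∈ W₁ ∨ z.rep ∈ W₂) ∧
        n + 2 ≤ (Z.filter fun z => z.rep ∈ W₁).card ∧
        n + 2 ≤ (Z.filter fun z => z.rep ∈ W₂).card) := by
  induction n with
  | zero =>
    intro Z h hc
    exact Or.inl (exists_finrank_of_card_le (by norm_num) Z (by omega))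
  | succ n ih =>
    intro Z h hc
    by_cases h3 : Z.card ≤ 3
    · exact Or.inl (exists_finrank_of_card_le (by norm_num) Z h3)
    obtain ⟨H, hH, hmax⟩ := exists_max_plane Z
    have hH3 : 3 ≤ (Z.filter fun z => z.rep ∈ H).card := by
      obtain ⟨T, hTZ, hT⟩ := Finset.exists_subset_card_eq (by omega : 3 ≤ Z.card)
      obtain ⟨H', hH', hT'⟩ := exists_finrank_of_card_le (d := 3) (by norm_num) T (by omega)
      have h1 : T.card ≤ (Z.filter fun z => z.rep ∈ H').card :=
        Finset.card_le_card fun z hz => Finset.mem_filter.2 ⟨hTZ hz, hT' z hz⟩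
      have h2 := hmax H' hH'
      omega
    have hcH := card_filter_add Z H
    have h' := h.filter_notMem H
    rcases (Z.filter fun z => z.rep ∉ H).eq_empty_or_nonempty with h0 | h0
    · exact Or.inl ⟨H, hH, forall_mem_of_filter_empty h0⟩
    have hle' := h'.le_card h0
    rcases ih h' (by omega) with ⟨H', hH', hm'⟩ | ⟨W₁, W₂, hW₁, hW₂, hd, hm, hc₁, hc₂⟩
    · -- the points outside `H` are coplanar
      have h1 : (Z.filter fun z => z.rep ∉ H).card ≤ (Z.filter fun z => z.rep ∈ H').card :=
        Finset.card_le_card fun z hz =>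
          Finset.mem_filter.2 ⟨(Finset.mem_filter.1 hz).1, hm' z hz⟩
      have h2 := hmax H' hH'
      obtain ⟨L, hL, hmL⟩ := h'.collinear (by omega)
      have hcL := card_filter_add Z L
      have hsub : (Z.filter fun z => z.rep ∉ H) ⊆ Z.filter fun z => z.rep ∈ L := fun z hz =>
        Finset.mem_filter.2 ⟨(Finset.mem_filter.1 hz).1, hmL z hz⟩
      have hcL' := Finset.card_le_card hsub
      have hL' := h.filter_notMem L
      by_cases h4 : (Z.filter fun z => z.rep ∉ L).card ≤ 2 * n + 1
      · obtain ⟨M, hM, hmM⟩ := hL'.collinear h4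
        refine h.of_two_lines (Nat.succ_ne_zero _) hL hM fun z hz => ?_
        by_cases hzL : z.rep ∈ L
        · exact Or.inl hzL
        · exact Or.inr (hmM z (Finset.mem_filter.2 ⟨hz, hzL⟩))
      -- the extremal case
      have e1 : (Z.filter fun z => z.rep ∉ H) = Z.filter fun z => z.rep ∈ L :=
        Finset.eq_of_subset_of_card_le hsub (by omega)
      have e2 : ∀ z ∈ Z, z.rep ∉ L → z.rep ∈ H := by
        intro z hz hzL
        by_contra hzH
        exact hzL (Finset.mem_filter.1 (e1 ▸ Finset.mem_filter.2 ⟨hz, hzH⟩ :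
          z ∈ Z.filter fun z => z.rep ∈ L)).2
      have e3 : ∀ z ∈ Z, z.rep ∈ L → z.rep ∉ H := by
        intro z hz hzL
        exact (Finset.mem_filter.1 (e1.symm ▸ Finset.mem_filter.2 ⟨hz, hzL⟩ :
          z ∈ Z.filter fun z => z.rep ∉ H)).2
      obtain ⟨p, hp⟩ : (Z.filter fun z => z.rep ∈ H).Nonempty := Finset.card_pos.1 (by omega)
      obtain ⟨hpZ, hpH⟩ := Finset.mem_filter.1 hp
      have hpL : p.rep ∉ L := fun hpL => e3 p hpZ hpL hpH
      -- the plane spanned by `L` and `p`
      have hH₁ : finrank k (L ⊔ Submodule.span k {p.rep} : Submodule k (Fin 4 → k)) = 3 := by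
        rw [finrank_sup_span hpL, hL]
      have hpH₁ : p.rep ∈ (L ⊔ Submodule.span k {p.rep} : Submodule k (Fin 4 → k)) :=
        Submodule.mem_sup_right (Submodule.mem_span_singleton_self _)
      have hLH₁ : L ≤ (L ⊔ Submodule.span k {p.rep} : Submodule k (Fin 4 → k)) := le_sup_left
      generalize (L ⊔ Submodule.span k {p.rep} : Submodule k (Fin 4 → k)) = H₁ at hH₁ hpH₁ hLH₁
      have hcH₁ := card_filter_add Z H₁
      have h5 : (Z.filter fun z => z.rep ∈ L).card < (Z.filter fun z => z.rep ∈ H₁).card := by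
        refine Finset.card_lt_card (Finset.ssubset_iff_subset_ne.2
          ⟨fun z hz => Finset.mem_filter.2 ⟨(Finset.mem_filter.1 hz).1,
            hLH₁ (Finset.mem_filter.1 hz).2⟩, fun h => hpL ?_⟩)
        exact (Finset.mem_filter.1 (h.symm ▸ Finset.mem_filter.2 ⟨hpZ, hpH₁⟩ :
          p ∈ Z.filter fun z => z.rep ∈ L)).2
      have hH₁' := h.filter_notMem H₁
      rcases (Z.filter fun z => z.rep ∉ H₁).eq_empty_or_nonempty with h6 | h6
      · exact Or.inl ⟨H₁, hH₁, forall_mem_of_filter_empty h6⟩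
      obtain ⟨M, hM, hmM⟩ := hH₁'.collinear (by omega)
      have h7 := hH₁'.le_card h6
      -- `M` lies in `H`
      obtain ⟨a, ha, b, hb, hab⟩ := Finset.one_lt_card.1
        (by omega : 1 < (Z.filter fun z => z.rep ∉ H₁).card)
      have hinH : ∀ z ∈ Z.filter fun z => z.rep ∉ H₁, z.rep ∈ H := fun z hz =>
        e2 z (Finset.mem_filter.1 hz).1 fun hzL => (Finset.mem_filter.1 hz).2 (hLH₁ hzL)
      have hMH : M ≤ H := le_of_two_mem hM hab (hmM a ha) (hmM b hb) (hinH a ha) (hinH b hb)
      -- a point of `L`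
      obtain ⟨q, hq⟩ : (Z.filter fun z => z.rep ∈ L).Nonempty := Finset.card_pos.1 (by omega)
      obtain ⟨hqZ, hqL⟩ := Finset.mem_filter.1 hq
      have hqH : q.rep ∉ H := e3 q hqZ hqL
      have hqM : q.rep ∉ M := fun h => hqH (hMH h)
      have hH₂ : finrank k (M ⊔ Submodule.span k {q.rep} : Submodule k (Fin 4 → k)) = 3 := by
        rw [finrank_sup_span hqM, hM]
      have hqH₂ : q.rep ∈ (M ⊔ Submodule.span k {q.rep} : Submodule k (Fin 4 → k)) :=
        Submodule.mem_sup_right (Submodule.mem_span_singleton_self _)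
      have hMH₂ : M ≤ (M ⊔ Submodule.span k {q.rep} : Submodule k (Fin 4 → k)) := le_sup_left
      generalize (M ⊔ Submodule.span k {q.rep} : Submodule k (Fin 4 → k)) = H₂ at hH₂ hqH₂ hMH₂
      have hcH₂ := card_filter_add Z H₂
      have h8 : insert q (Z.filter fun z => z.rep ∉ H₁) ⊆ Z.filter fun z => z.rep ∈ H₂ := by
        intro z hz
        rcases Finset.mem_insert.1 hz with rfl | hz
        · exact Finset.mem_filter.2 ⟨hqZ, hqH₂⟩
        · exact Finset.mem_filter.2 ⟨(Finset.mem_filter.1 hz).1, hMH₂ (hmM z hz)⟩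
      have h9 := Finset.card_le_card h8
      rw [Finset.card_insert_of_notMem fun hq' => hqH (hinH q hq')] at h9
      have hH₂' := h.filter_notMem H₂
      rcases (Z.filter fun z => z.rep ∉ H₂).eq_empty_or_nonempty with h10 | h10
      · exact Or.inl ⟨H₂, hH₂, forall_mem_of_filter_empty h10⟩
      obtain ⟨R, hR, hmR⟩ := hH₂'.collinear (by omega)
      -- `L` is not contained in `H₂`
      have hLH₂ : ¬ L ≤ H₂ := by
        intro hle
        have h11 : (Z.filter fun z => z.rep ∈ L) ∪ (Z.filter fun z => z.rep ∉ H₁) ⊆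
            Z.filter fun z => z.rep ∈ H₂ := by
          refine Finset.union_subset (fun z hz => Finset.mem_filter.2
            ⟨(Finset.mem_filter.1 hz).1, hle (Finset.mem_filter.1 hz).2⟩)
            ((Finset.subset_insert _ _).trans h8)
        have h12 := Finset.card_le_card h11
        rw [Finset.card_union_of_disjoint] at h12
        · have := hmax H₂ hH₂
          omega
        · rw [Finset.disjoint_left]
          intro z hz hz'
          exact (Finset.mem_filter.1 hz').2 (hLH₁ (Finset.mem_filter.1 hz).2)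
      -- the points of `L` outside `H₂`
      have h13 : ∀ z ∈ Z, z.rep ∈ L → z ≠ q → z.rep ∉ H₂ := fun z hz hzL hne hzH₂ =>
        hLH₂ (le_of_two_mem hL hne hzL hqL hzH₂ hqH₂)
      have h14 : 1 < ((Z.filter fun z => z.rep ∈ L).erase q).card := by
        rw [Finset.card_erase_of_mem hq]
        omega
      obtain ⟨a', ha', b', hb', hab'⟩ := Finset.one_lt_card.1 h14
      have hmem : ∀ z ∈ (Z.filter fun z => z.rep ∈ L).erase q, z.rep ∈ L ∧ z.rep ∈ R := by
        intro z hz
        obtain ⟨hne, hz⟩ := Finset.mem_erase.1 hz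
        obtain ⟨hz, hzL⟩ := Finset.mem_filter.1 hz
        exact ⟨hzL, hmR z (Finset.mem_filter.2 ⟨hz, h13 z hz hzL hne⟩)⟩
      have hRL : R ≤ L := le_of_two_mem hR hab' (hmem a' ha').2 (hmem b' hb').2 (hmem a' ha').1
        (hmem b' hb').1
      -- `H ∩ H₂ = M`
      have hHM : H ⊓ H₂ = M := by
        symm
        refine Submodule.eq_of_le_of_finrank_le (le_inf hMH hMH₂) ?_
        have h15 : finrank k (H ⊓ H₂ : Submodule k (Fin 4 → k)) < finrank k H₂ := by
          refine Submodule.finrank_lt_finrank_of_lt (lt_of_le_of_ne inf_le_right fun he => ?_)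
          have : q.rep ∈ H ⊓ H₂ := by rw [he]; exact hqH₂
          exact hqH this.1
        omega
      refine h.of_two_lines (Nat.succ_ne_zero _) hL hM fun z hz => ?_
      by_cases hzL : z.rep ∈ L
      · exact Or.inl hzL
      right
      rw [← hHM]
      refine ⟨e2 z hz hzL, ?_⟩
      by_contra hzH₂
      exact hzL (hRL (hmR z (Finset.mem_filter.2 ⟨hz, hzH₂⟩)))
    · -- the points outside `H` lie on two skew lines
      exfalso
      have h1 : (Z.filter fun z => z.rep ∉ H).filter (fun z => z.rep ∈ W₁) ∪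
          (Z.filter fun z => z.rep ∉ H).filter (fun z => z.rep ∈ W₂) ⊆
            Z.filter fun z => z.rep ∉ H :=
        Finset.union_subset (Finset.filter_subset _ _) (Finset.filter_subset _ _)
      have h2 := Finset.card_le_card h1
      rw [Finset.card_union_of_disjoint] at h2
      · obtain ⟨H', hle, hH'⟩ := exists_ge_finrank' (d := 3) (by norm_num) W₁ (by omega)
        have h4 := hmax H' hH'
        have h5 : ((Z.filter fun z => z.rep ∉ H).filter (fun z => z.rep ∈ W₁)).card ≤
            (Z.filter fun z => z.rep ∈ H').card := by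
          refine Finset.card_le_card fun z hz => ?_
          obtain ⟨hz, hzW⟩ := Finset.mem_filter.1 hz
          exact Finset.mem_filter.2 ⟨(Finset.mem_filter.1 hz).1, hle hzW⟩
        omega
      · rw [Finset.disjoint_left]
        intro z hz hz'
        have : z.rep ∈ W₁ ⊓ W₂ := ⟨(Finset.mem_filter.1 hz).2, (Finset.mem_filter.1 hz').2⟩
        rw [hd] at this
        exact z.rep_nonzero (by simpa using this)

end K802.CBPoints
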