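import Groth.Agent.AdjLin.K802.BundleCrit
import Groth.Agent.Krr.H487.KerRank

/-!
# The rank of a locally free extension of `I_Z` by an invertible module
-/

set_option autoImplicit false

namespace K802.RankTwo

universe u

open CategoryTheory CategoryTheory.Limits AlgebraicGeometry TopologicalSpace
open Groth.Agent Groth.Agent.Sga67.Sec Groth.Agent.Sga67.LocBasis Groth.Agent.Krr.H487.KerRank

variable {X : Scheme.{u}}

/-- A generator is a local basis with one element. -/
theorem isLocBasis_of_isGen {M : X.Modules} {U : X.Opens} {e : Sec M U}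
    (he : Fdesc.LocGen.IsGen (M := M) (U := U) e) : IsLocBasis (fun _ : Fin 1 => e) := by
  intro V h
  have h1 : (comb (fun _ : Fin 1 => e) h : (Fin 1 → Γ(X, V)) → Sec M V) =
      (fun a : Γ(X, V) => a • res M h e) ∘ (Equiv.funUnique (Fin 1) Γ(X, V)) := by
    funext a
    rw [comb_apply, Fin.sum_univ_one]
    rfl
  rw [h1]
  exact (he V h).comp (Equiv.bijective _)

/-- Outside the support the ideal has a generator. -/
theorem exists_isGen_idealMod (I : X.IdealSheafData) (V : X.Opens) (hV : ∀ x ∈ V, x ∉ I.support) :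
    ∃ t : Γ(ClSub.idealMod I, V), Fdesc.LocGen.IsGen t := by
  have h1 : ∀ (W : X.Opens) (_ : W ≤ V) (c : Γ(X, W)), ∃ t : Γ(ClSub.idealMod I, W),
      PerfA.IdealModule.val I t = c := by
    intro W hW c
    refine (PerfA.IdealModule.exact_app I W c).1 ?_
    have h2 : I.subschemeι ⁻¹ᵁ W = ⊥ := by
      rw [eq_bot_iff]
      intro z hz
      have h3 : I.subschemeι z ∈ (I.support : Set X) := by
        rw [← Scheme.IdealSheafData.range_subschemeι]
        exact ⟨z, rfl⟩
      exact absurd h3 (hV _ (hW hz))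
    have h5 : Subsingleton Γ(I.subscheme, I.subschemeι ⁻¹ᵁ W) := by
      rw [h2]
      infer_instance
    exact Subsingleton.elim (α := Γ(I.subscheme, I.subschemeι ⁻¹ᵁ W)) _ _
  obtain ⟨t, ht⟩ := h1 V le_rfl 1
  refine ⟨t, fun W hW => ?_⟩
  have h2 : ∀ c : Γ(X, W), PerfA.IdealModule.val I (c • Fdesc.LocGen.res _ hW t) = c := by
    intro c
    rw [PerfA.IdealModule.val_smul]
    have h3 : PerfA.IdealModule.val I (Fdesc.LocGen.res _ hW t) = 1 := by
      refine (PerfA.IdealModule.val_res I hW t).trans ?_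
      rw [ht]
      exact map_one _
    rw [h3, mul_one]
  constructor
  · intro c c' h
    have h3 : c • Fdesc.LocGen.res _ hW t = c' • Fdesc.LocGen.res _ hW t := h
    rw [← h2 c, ← h2 c', h3]
  · intro s
    refine ⟨PerfA.IdealModule.val I s, PerfA.IdealModule.val_injective I W ?_⟩
    exact h2 _

/-- The middle term has rank two. -/
theorem isFinLocFreeOfRank_two [IrreducibleSpace X] {M : X.Modules} (hM : PicF.IsInvertible M)
    {I : X.IdealSheafData} (hI : ((I.support : Set X)ᶜ).Nonempty) {F : X.Modules} {a : M ⟶ F}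
    {b : F ⟶ ClSub.idealMod I} {w : a ≫ b = 0} (hex : (ShortComplex.mk a b w).ShortExact)
    (hl : FlatMod.IsFinLocFree F) : FlatMod.IsFinLocFreeOfRank 2 F := by
  refine isFinLocFreeOfRank_of_forall hl fun x U m c hx hc => ?_
  let V : X.Opens := ⟨(I.support : Set X)ᶜ, I.support.isClosed.isOpen_compl⟩
  obtain ⟨y, hyU, hyV⟩ := nonempty_preirreducible_inter U.2 V.2 ⟨x, hx⟩ hI
  obtain ⟨t, ht⟩ := exists_isGen_idealMod I V (fun z hz => hz)
  obtain ⟨W, e, hyW, he⟩ := (Fdesc.LocGen.isInvertible_iff M).1 hM y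
  obtain ⟨W', d, hyW', hd⟩ := exists_basis_mid hex (isLocBasis_of_isGen he) hyW
    (isLocBasis_of_isGen ht) hyV
  have h1 := card_eq hc hd y hyU hyW'
  simpa using h1

end K802.RankTwo
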