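import Groth.Agent.AdjLin.K802.CBMain
import Groth.Agent.AdjLin.K802.RankTwo
import Groth.Agent.AdjLin.K802.TwistSES
import Groth.Agent.Picfga.CurveRelDim
import Groth.Agent.Dual.H328.WUniv
import Groth.Agent.Dual.H339.OmegaRank

/-!
# The Cayley–Bacharach criterion, twisted form
-/

set_option autoImplicit false

namespace K802.CBTwist

universe u

open CategoryTheory CategoryTheory.Limits CategoryTheory.Abelian AlgebraicGeometry TopologicalSpace
open Groth.Agent Groth.Agent.CurvesC Groth.Agent.Fga.PicMon K802.TwistSES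

attribute [local instance] HasDerivedCategory.standard
attribute [local instance] LinMod.linearModules

/-- The complement of a finite closed subset of a smooth surface is nonempty. -/
theorem nonempty_compl {k : Type u} [Field k] [PerfectField k] {X : Scheme.{u}}
    (f : X ⟶ Spec (CommRingCat.of k)) [Smooth f] [IsProper f] [IsIntegral X]
    (hdim : topologicalKrullDim X = 2) {Z : Set X} (hZ : IsClosed Z) (hfin : Z.Finite) :
    (Zᶜ).Nonempty := by
  by_contra hcon
  have h1 : genericPoint X ∈ Z := by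
    by_contra h
    exact hcon ⟨_, h⟩
  have h2 := SurfBase.two_le f hdim hZ hfin _ h1
  have h3 : ringKrullDim (X.presheaf.stalk (genericPoint X)) = 0 :=
    ringKrullDim_eq_zero_of_field (X.functionField)
  rw [h3] at h2
  exact absurd h2 (by decide)

theorem rank_one {X : Scheme.{u}} {L : X.Modules} (hL : PicF.IsInvertible L) :
    FlatMod.IsFinLocFreeOfRank 1 L :=
  Ega2.QCohLocal.isFinLocFreeOfRank_one_iff.2 hL

variable (k : Type u) [Field k] [IsAlgClosed k] (X : Scheme.{u})
    [X.Over (Spec (CommRingCat.of k))] [IsProper (X ↘ (Spec (CommRingCat.of k)))]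
    [Smooth (X ↘ (Spec (CommRingCat.of k)))] [IrreducibleSpace X] (hdim : topologicalKrullDim X = 2)
    (H : X.Modules) (hH : CohB1.IsAmple H)
    (ω : X.Modules) (hω : ExtPow.IsExtPow 2 (Omega.sheaf (X ↘ (Spec (CommRingCat.of k)))) ω)
    (U Uinv L : X.Modules) (hU : PicF.IsInvertible U) (hUinv : ClSub.IsInverseOf Uinv U)
    (hL : PicF.IsInvertible L)
    (IP : X.IdealSheafData) (hfin : (IP.support : Set X).Finite)

omit [IsProper (X ↘ (Spec (CommRingCat.of k)))] in
include k hdim in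
theorem smooth_two : SmoothOfRelativeDimension 2 (X ↘ (Spec (CommRingCat.of k))) := by
  have := GoodPoint.isIntegral_of_smooth (X ↘ (Spec (CommRingCat.of k)))
  exact Picfga.CurveRelDim.smoothOfRelativeDimension_of_topologicalKrullDim_eq k X _ 2 hdim

include k hdim hω in
theorem isInvertible_omega : PicF.IsInvertible ω := by
  have := smooth_two k X hdim
  exact Dual.H328.WUniv.isInvertible_extPow
    (Dual.H339.OmegaRank.isFinLocFreeOfRank_omega 2 (X ↘ (Spec (CommRingCat.of k)))) hω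

include k hdim hH hω hU hUinv hL hfin in
/-- A rank two extension gives the Cayley–Bacharach property. -/
theorem forward (h : ∃ (E : X.Modules) (i : U ⟶ E)
      (p : E ⟶ CohB1.tensorMod L (ClSub.idealMod IP)) (w : i ≫ p = 0),
        FlatMod.IsFinLocFreeOfRank 2 E ∧ (ShortComplex.mk i p w).ShortExact)
    (I' : X.IdealSheafData) (hI' : IP ⋖ I')
    (σ : Coh.structureModule X ⟶ CohB1.tensorMod (CohB1.tensorMod L Uinv) ω)
    (hσ : PicF2.zeroScheme (CohB1.tensorMod (CohB1.tensorMod L Uinv) ω) σ ≤ I') :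
    PicF2.zeroScheme (CohB1.tensorMod (CohB1.tensorMod L Uinv) ω) σ ≤ IP := by
  have hE : HasExt.{u} X.Modules := hasExt_of_enoughInjectives _
  have := smooth_two k X hdim
  have hωi := isInvertible_omega k X hdim ω hω
  obtain ⟨τ, hτ⟩ := ExtDual.exists_isPerfect k 2 ω hω
  obtain ⟨Li, hLi, eL⟩ := Grpsch.PicGrp.exists_inverse hL
  obtain ⟨ωi, hωi', eω⟩ := Grpsch.PicGrp.exists_inverse hωi
  have hL1 := mc_inv eL
  have hω1 := mc_inv eω
  have hU1 : mc Uinv * mc U = 1 := mc_inv hUinv
  have hUi : PicF.IsInvertible Uinv := isInvertible_of_inv hU (by rw [mul_comm]; exact hU1)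
  have hN : PicF.IsInvertible (CohB1.tensorMod (CohB1.tensorMod L Uinv) ω) :=
    Fdesc.LocGen.isInvertible_tensorMod (Fdesc.LocGen.isInvertible_tensorMod hL hUi) hωi
  have hMi : PicF.IsInvertible (CohB1.tensorMod U Li) := Fdesc.LocGen.isInvertible_tensorMod hU hLi
  have hNe : (DCoh.tensorRightMod (CohB1.tensorMod (CohB1.tensorMod L Uinv) ω)).IsEquivalence := by
    refine isEquivalence (B := CohB1.tensorMod (CohB1.tensorMod Li U) ωi) ?_
    rw [mc_tensor, mc_tensor, mc_tensor, mc_tensor]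
    calc _ = (mc L * mc Li) * (mc Uinv * mc U) * (mc ω * mc ωi) := by ac_rfl
      _ = 1 := by rw [hL1, hω1, hU1, one_mul, one_mul]
  have hκ : mc (CohB1.tensorMod (CohB1.tensorMod U Li) (CohB1.tensorMod (CohB1.tensorMod L Uinv) ω)) =
      mc ω := by
    rw [mc_tensor, mc_tensor, mc_tensor, mc_tensor]
    calc _ = (mc L * mc Li) * (mc Uinv * mc U) * mc ω := by ac_rfl
      _ = mc ω := by rw [hL1, hU1, one_mul, one_mul]
  obtain ⟨κ⟩ := (mc_eq_iff _ _).1 hκ
  obtain ⟨E, i, p, w, hrk, hex⟩ := h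
  have hLe : (DCoh.tensorRightMod Li).IsEquivalence :=
    isEquivalence (B := L) (by rw [mul_comm]; exact hL1)
  obtain ⟨a, b, w', hex'⟩ := twist hLe hex (N₁ := CohB1.tensorMod U Li)
    (N₃ := ClSub.idealMod IP) (mc_tensor _ _).symm (by
      rw [mc_tensor]
      calc _ = (mc L * mc Li) * mc (ClSub.idealMod IP) := by ac_rfl
        _ = _ := by rw [hL1, one_mul])
  have hlf : FlatMod.IsFinLocFree (CohB1.tensorMod E Li) :=
    Sga67.LocBasis.isFinLocFree_tensorMod (Krr.H495.Rank.isFinLocFree_of_rank hrk)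
      (Krr.H495.Rank.isFinLocFree_of_rank (rank_one hLi))
  exact CBMain.cb_of_extension k hdim hMi hN κ τ hτ hH hfin hex' hlf I' hI' σ hσ

include k hdim hH hω hU hUinv hL hfin in
/-- The Cayley–Bacharach property gives a rank two extension. -/
theorem backward (hlci : ∀ x : X, ∃ V : X.affineOpens, x ∈ (V : X.Opens) ∧
      ∃ a b : Γ(X, V), IP.ideal V = Ideal.span {a, b})
    (h : ∀ I' : X.IdealSheafData, IP ⋖ I' →
        ∀ σ : Coh.structureModule X ⟶ CohB1.tensorMod (CohB1.tensorMod L Uinv) ω,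
          PicF2.zeroScheme (CohB1.tensorMod (CohB1.tensorMod L Uinv) ω) σ ≤ I' →
            PicF2.zeroScheme (CohB1.tensorMod (CohB1.tensorMod L Uinv) ω) σ ≤ IP) :
    ∃ (E : X.Modules) (i : U ⟶ E)
      (p : E ⟶ CohB1.tensorMod L (ClSub.idealMod IP)) (w : i ≫ p = 0),
        FlatMod.IsFinLocFreeOfRank 2 E ∧ (ShortComplex.mk i p w).ShortExact := by
  have hE : HasExt.{u} X.Modules := hasExt_of_enoughInjectives _
  have := smooth_two k X hdim
  have hint := GoodPoint.isIntegral_of_smooth (X ↘ (Spec (CommRingCat.of k)))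
  have hωi := isInvertible_omega k X hdim ω hω
  obtain ⟨τ, hτ⟩ := ExtDual.exists_isPerfect k 2 ω hω
  obtain ⟨Li, hLi, eL⟩ := Grpsch.PicGrp.exists_inverse hL
  obtain ⟨ωi, hωi', eω⟩ := Grpsch.PicGrp.exists_inverse hωi
  have hL1 := mc_inv eL
  have hω1 := mc_inv eω
  have hU1 : mc Uinv * mc U = 1 := mc_inv hUinv
  have hUi : PicF.IsInvertible Uinv := isInvertible_of_inv hU (by rw [mul_comm]; exact hU1)
  have hN : PicF.IsInvertible (CohB1.tensorMod (CohB1.tensorMod L Uinv) ω) :=
    Fdesc.LocGen.isInvertible_tensorMod (Fdesc.LocGen.isInvertible_tensorMod hL hUi) hωi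
  have hMi : PicF.IsInvertible (CohB1.tensorMod U Li) := Fdesc.LocGen.isInvertible_tensorMod hU hLi
  have hNe : (DCoh.tensorRightMod (CohB1.tensorMod (CohB1.tensorMod L Uinv) ω)).IsEquivalence := by
    refine isEquivalence (B := CohB1.tensorMod (CohB1.tensorMod Li U) ωi) ?_
    rw [mc_tensor, mc_tensor, mc_tensor, mc_tensor]
    calc _ = (mc L * mc Li) * (mc Uinv * mc U) * (mc ω * mc ωi) := by ac_rfl
      _ = 1 := by rw [hL1, hω1, hU1, one_mul, one_mul]
  have hκ : mc (CohB1.tensorMod (CohB1.tensorMod U Li) (CohB1.tensorMod (CohB1.tensorMod L Uinv) ω)) =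
      mc ω := by
    rw [mc_tensor, mc_tensor, mc_tensor, mc_tensor]
    calc _ = (mc L * mc Li) * (mc Uinv * mc U) * mc ω := by ac_rfl
      _ = mc ω := by rw [hL1, hU1, one_mul, one_mul]
  obtain ⟨κ⟩ := (mc_eq_iff _ _).1 hκ
  obtain ⟨F, a, b, w, hex, hl⟩ :=
    CBMain.extension_of_cb k hdim hMi hN κ τ hτ hH hfin hlci h
  have hrk := RankTwo.isFinLocFreeOfRank_two hMi
    (nonempty_compl (X ↘ (Spec (CommRingCat.of k))) hdim IP.support.isClosed hfin) hex hl
  have hLe : (DCoh.tensorRightMod L).IsEquivalence := isEquivalence (B := Li) hL1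
  obtain ⟨a', b', w', hex'⟩ := twist hLe hex (N₁ := U)
    (N₃ := CohB1.tensorMod L (ClSub.idealMod IP)) (by
      rw [mc_tensor]
      calc _ = mc U * (mc L * mc Li) := by ac_rfl
        _ = _ := by rw [hL1, mul_one]) (by rw [mc_tensor, mul_comm])
  have hrk' : FlatMod.IsFinLocFreeOfRank 2 (CohB1.tensorMod F L) :=
    Krr.H487.KerRank.isFinLocFreeOfRank_tensor hrk (rank_one hL)
  exact ⟨_, a', b', w', hrk', hex'⟩

end K802.CBTwist
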