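import Groth.Agent.AdjLin.K802.LineSub
import Groth.Agent.AdjLin.K802.BogFin
import Groth.Agent.AdjLin.K427.BogMain
import Groth.Agent.Variety.K427.GenSmoothZero
import Groth.Agent.AdjLin.K801.SmDim
import Groth.Agent.AdjLin.K802.SurfBase
import Groth.Agent.AdjLin.K802.BundleCrit
import Groth.Agent.Surf.K462.SubFree
import Groth.Agent.PerfA.CohSerre

/-!
# Bogomolov's theorem with the destabilising submodule
-/

set_option autoImplicit false
universe u
open CategoryTheory CategoryTheory.Limits AlgebraicGeometry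

namespace K802.Destab

open Groth.Agent Groth.Agent.Lefpen.H725.CocDef Groth.Agent.Lefpen.H521.CartierCoc K801.CousinH1
open Groth.Agent.Fga.PicMon Groth.Agent.Grpsch.PicGrp K464.Base K464.Curves K464.Comp K464.Ample

/-- **Bogomolov's theorem** for extensions `0 → O → E → L ⊗ J → 0` with `L² > 4 χ(O/J)`. -/
theorem exists_line
    (k : Type u) [Field k] [IsAlgClosed k] [CharZero k]
    (X : Scheme.{u}) [X.Over (Spec (CommRingCat.of k))] [IsProper (X ↘ (Spec (CommRingCat.of k)))]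
    [Smooth (X ↘ (Spec (CommRingCat.of k)))] [IsIntegral X] (hdim : topologicalKrullDim X = 2)
    (H : X.Modules) (hH : CohB1.IsAmple H) (hHi : PicF.IsInvertible H)
    (L : X.Modules) (hL : PicF.IsInvertible L) (J : X.IdealSheafData) (hfin : (J.support : Set X).Finite)
    (hnum : 4 * FGA.eulerCharLE k X (ClSub.quotMod J) 2 < dot k X (mk L hL) (mk L hL))
    {E : X.Modules} (hrk : FlatMod.IsFinLocFreeOfRank 2 E) {i : Coh.structureModule X ⟶ E}
    {p : E ⟶ CohB1.tensorMod L (ClSub.idealMod J)} {w : i ≫ p = 0}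
    (hex : (ShortComplex.mk i p w).ShortExact) :
    ∃ (M : X.Modules) (hM : PicF.IsInvertible M) (ψ : M ⟶ E), ψ ≠ 0 ∧ Mono ψ ∧
      dot k X (mk L hL) (mk H hHi) < 2 * dot k X (mk M hM) (mk H hHi) := by
  have hnoeth : IsNoetherian X := K802.SurfBase.isNoetherian (X ↘ (Spec (CommRingCat.of k)))
  have hdim' : topologicalKrullDim X ≤ (2 : ℕ) := hdim.le
  obtain ⟨Hinv, hHinvI, hHinv0⟩ := exists_inverse hHi
  obtain ⟨Linv, hLinvI, hLinv0⟩ := exists_inverse hL
  have hl1 : mc Linv * mc L = 1 := by rw [mul_comm]; exact K802.TwistSES.mc_inv hLinv0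
  have ha1 : mc Hinv * mc H = 1 := by rw [mul_comm]; exact K802.TwistSES.mc_inv hHinv0
  have hLinv : ClSub.IsInverseOf Linv L := (mc_eq_iff _ _).1 ((mc_tensor Linv L).trans hl1)
  have hHinv : ClSub.IsInverseOf Hinv H := (mc_eq_iff _ _).1 ((mc_tensor Hinv H).trans ha1)
  have hmL : mk Linv hLinvI = (mk L hL)⁻¹ := by
    rw [eq_inv_iff_mul_eq_one, mk_mul_mk, mk_eq_one_iff]
    exact hLinv
  have hmH : mk Hinv hHinvI = (mk H hHi)⁻¹ := by
    rw [eq_inv_iff_mul_eq_one, mk_mul_mk, mk_eq_one_iff]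
    exact hHinv
  have hcon : 4 * FGA.eulerCharLE k X (ClSub.quotMod J) 2 <
      FGA.intNum k X 2 ![Linv, Linv] (Coh.structureModule X) := by
    rw [intNum_eq_dot k X hdim' hLinvI hLinvI, hmL, dot_inv_inv k X hdim']
    exact hnum
  -- first half of Bogomolov
  obtain ⟨n, -, s, hs⟩ := K427.BogMain.main k X hdim H Hinv hH hHinv L Linv hL hLinv E hrk J hfin
    i p w hex hcon
  obtain ⟨φ, hφ⟩ := K802.BogFin.exists_twisted (M := CohB1.tensorMod (CohB1.tensorPow L n) H)
    (M' := CohB1.tensorMod (CohB1.tensorPow Linv n) Hinv) (V := CohB1.tensorPow E (2 * n)) s hs (by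
      rw [mc_tensor, mc_tensor, mc_tensorPow, mc_tensorPow]
      calc _ = (mc Linv * mc L) ^ n * (mc Hinv * mc H) := by rw [mul_pow]; ac_rfl
        _ = 1 := by rw [hl1, ha1, one_pow, one_mul]) (by
      rw [mc_tensor, mc_tensor, mc_tensor, mc_tensorPow Linv, mc_tensorPow L]
      calc _ = mc (CohB1.tensorPow E (2 * n)) * ((mc Linv * mc L) ^ n * (mc Hinv * mc H)) := by
            rw [mul_pow]; ac_rfl
        _ = _ := by rw [hl1, ha1, one_pow, one_mul, mul_one])
  -- second half of Bogomolov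
  obtain ⟨ℓ, hℓ⟩ := exists_hasCoc hL
  obtain ⟨a, ha⟩ := exists_hasCoc hHi
  obtain ⟨D⟩ := nonempty_dat hℓ
  have hjac : JacobsonSpace X := LocallyOfFiniteType.jacobsonSpace (X ↘ (Spec (CommRingCat.of k)))
  have hufd : ∀ x : X, UniqueFactorizationMonoid (X.presheaf.stalk x) := fun x => by
    have := K802.SurfBase.regular (X ↘ (Spec (CommRingCat.of k))) x
    exact (S2821.result (X.presheaf.stalk x)).2
  have hcod : ∀ z : X, Order.coheight z = 1 → z ∉ (J.support : Set X) := by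
    intro z hz hzP
    have h1 := (K802.GoodPoint.stalk_closedPoint (X ↘ (Spec (CommRingCat.of k))) hdim
      (K802.GoodPoint.isClosed_of_finite J.support.isClosed hfin hzP)).2
    rw [ringKrullDim_stalk_eq_coheight, hz] at h1
    exact absurd h1 (by decide)
  have hηP : genericPoint X ∉ (J.support : Set X) := by
    intro hη
    have h1 := (K802.GoodPoint.stalk_closedPoint (X ↘ (Spec (CommRingCat.of k))) hdim
      (K802.GoodPoint.isClosed_of_finite J.support.isClosed hfin hη)).2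
    have h2 : ringKrullDim (X.presheaf.stalk (genericPoint X)) = 0 :=
      ringKrullDim_eq_zero_of_field X.functionField
    rw [h2] at h1
    exact absurd h1 (by decide)
  have hchar : CharZero X.functionField := K427.GenSmooth.charZero_functionField k
    (X ↘ (Spec (CommRingCat.of k)))
  have hnaff : ¬ IsAffineOpen (⊤ : X.Opens) := K801.SmDim.not_isAffineOpen_top
    (X ↘ (Spec (CommRingCat.of k))) (n := 2) (by norm_num) hdim
  obtain ⟨F, l, γ, hl, hγ0, hγ, hγloc, e, he, ρ, hρ, hρm⟩ := K802.BogLine.main D J hcod hηP hrk i p w hex n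
    (hasCoc_tensor (hasCoc_pow hℓ n) ha) (fun d hd ρ h => by
      refine K801.Amp.eq_zero_of_ample (X ↘ (Spec (CommRingCat.of k))) hnaff
        (Divis.NormAmple.isAmple_tensorPow hH hd) (hasCoc_pow ha d) ρ fun x => ?_
      rw [K801.Cousin.regAt_iff, mul_comm]
      exact h x) φ hφ
  obtain ⟨C, hC, hCγ⟩ := exists_of_loc γ hγ0 hγloc
  obtain ⟨M, hM, hMγ⟩ := exists_of_loc (fun x => (γ x)⁻¹) (fun x => inv_ne_zero (hγ0 x)) (fun x => by
    obtain ⟨V, hxV, hV⟩ := hγloc x
    refine ⟨V, hxV, fun y hy => ?_⟩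
    have h1 := hV y hy
    rw [inv_div_inv]
    rw [K802.GcdLoc.unitAt_iff] at h1 ⊢
    rw [inv_div] at h1
    refine ⟨div_ne_zero (hγ0 y) (hγ0 x), h1.2.2, ?_⟩
    rw [inv_div]
    exact h1.2.1)
  have hMC : mk M hM = (mk C hC)⁻¹ := by
    rw [eq_inv_iff_mul_eq_one, mk_mul_mk, mk_eq_one_iff]
    refine hasCoc_iso (hasCoc_tensor hMγ hCγ) K484.CocIdeal.hasCoc_structure 1 one_ne_zero (fun x => ?_)
    rw [inv_mul_cancel₀ (hγ0 x)]
    have h1 : (1 : X.functionField) * 1 / 1 = 1 := by norm_num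
    rw [h1]
    exact K484.CocTwist.unitAt_one x
  have hkey : 2 * dot k X (mk C hC) (mk H hHi) < - dot k X (mk L hL) (mk H hHi) := by
    have h1 := K802.BogFin.dot_nonpos k hdim
      (N := CohB1.tensorMod (CohB1.tensorMod (CohB1.tensorPow C (2 * e)) H) (CohB1.tensorPow L e))
      (Fdesc.LocGen.isInvertible_tensorMod (Fdesc.LocGen.isInvertible_tensorMod
        (Fdesc.LocGen.isInvertible_tensorPow hC _) hHi) (Fdesc.LocGen.isInvertible_tensorPow hL _))
      hHi hH (hasCoc_tensor (hasCoc_tensor (hasCoc_pow hCγ (2 * e)) ha) (hasCoc_pow hℓ e)) hρ hρm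
    have h2 : mk (CohB1.tensorMod (CohB1.tensorMod (CohB1.tensorPow C (2 * e)) H) (CohB1.tensorPow L e))
        (Fdesc.LocGen.isInvertible_tensorMod (Fdesc.LocGen.isInvertible_tensorMod
        (Fdesc.LocGen.isInvertible_tensorPow hC _) hHi) (Fdesc.LocGen.isInvertible_tensorPow hL _)) =
        mk C hC ^ (2 * e) * mk H hHi * mk L hL ^ e := by
      rw [← mk_tensorPow hC, ← mk_tensorPow hL, mk_mul_mk, mk_mul_mk]
    have h3 := dot_pos_of_ample k hdim hHi hHi hH hH
    rw [h2, dot_mul_left k X hdim', dot_mul_left k X hdim', dot_pow_left k X hdim',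
      dot_pow_left k X hdim'] at h1
    have h4 : (1 : ℤ) ≤ e := by exact_mod_cast he
    push_cast at h1
    nlinarith
  obtain ⟨DM⟩ := nonempty_dat hMγ
  have hEl : FlatMod.IsFinLocFree E := fun x => by
    obtain ⟨U, hx, e⟩ := hrk x
    exact ⟨U, 2, hx, e⟩
  have hMl : FlatMod.IsFinLocFree M := K802.BundleCrit.isFinLocFree_of_isInvertible hM
  obtain ⟨ψ, hψ, hmono⟩ := K802.LineSub.exists_hom F l (PerfA.CohSerre.isCoh_of_isFinLocFree hEl).1
    (K462.SubFree.isTorsionFree_of_isFinLocFree (PerfA.CohSerre.isCoh_of_isFinLocFree hEl).1 hEl) hγ0 hγ hl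
    (PerfA.CohSerre.isCoh_of_isFinLocFree hMl).1
    (K462.SubFree.isTorsionFree_of_isFinLocFree (PerfA.CohSerre.isCoh_of_isFinLocFree hMl).1 hMl) DM
  refine ⟨M, hM, ψ, hψ, hmono, ?_⟩
  rw [hMC, dot_inv_left k X hdim']
  linarith

end K802.Destab
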