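import Groth.Agent.AdjLin.K802.EvalMap
import Groth.Agent.CurvesB.TwistIdeal
import Groth.Agent.S0002
import Groth.Prelude.Def_FGA

/-!
# Dimensions of spaces of sections modulo a zero-dimensional ideal
-/

set_option autoImplicit false

namespace K802.EvalDim

universe u

open CategoryTheory AlgebraicGeometry TopologicalSpace
open Groth.Agent Groth.Agent.Fdesc.LocGen Groth.Agent.VarietyA.EulerLES
open K802.EvalMap

variable (k : Type u) [Field k] {X : Scheme.{u}} [X.Over (Spec (CommRingCat.of k))]

/-- The algebra structure on `Γ(X, V) / I(V)`. -/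
noncomputable abbrev alg (I : X.IdealSheafData) (V : X.affineOpens) : Algebra k (Γ(X, V) ⧸ I.ideal V) :=
  (((Ideal.Quotient.mk (I.ideal V)).comp (ores (le_top : (V : X.Opens) ≤ ⊤))).comp
    (CurvesB.HZero.gl k X)).toAlgebra

section

variable {V : X.affineOpens} (I : X.IdealSheafData)

attribute [local instance] alg

theorem smul_def (t : k) (r : Γ(X, V) ⧸ I.ideal V) :
    t • r = Ideal.Quotient.mk (I.ideal V) (ores le_top (CurvesB.HZero.gl k X t)) * r := rfl

variable {L : X.Modules}

/-- The evaluation map on `H^0`. -/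
noncomputable def rhoLin {e : Γ(L, (V : X.Opens))} (he : IsGen e) :
    Coh.HH X L 0 →ₗ[k] (Γ(X, V) ⧸ I.ideal V) where
  toFun x := rho I he (CurvesB.HZero.equivAdd L x)
  map_add' x y := by rw [map_add, map_add]
  map_smul' t x := by
    rw [CurvesB.HZero.equivAdd_smul_over, rho_gsmul]
    rfl

theorem rhoLin_apply {e : Γ(L, (V : X.Opens))} (he : IsGen e) (x : Coh.HH X L 0) :
    rhoLin k I he x = rho I he (CurvesB.HZero.equivAdd L x) := rfl

/-- The rank of the evaluation map. -/
theorem finrank_range (hL : PicF.IsInvertible L) [Module.Finite k (Coh.HH X L 0)]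
    (hV : (I.support : Set X) ⊆ (V : X.Opens)) {e : Γ(L, (V : X.Opens))} (he : IsGen e) :
    Module.finrank k (LinearMap.range (rhoLin k I he)) +
      Module.finrank k (Coh.HH X (CohB1.tensorMod L (ClSub.idealMod I)) 0) =
        Module.finrank k (Coh.HH X L 0) := by
  have h1 := LinearMap.finrank_range_add_finrank_ker (rhoLin k I he)
  have h2 : LinearMap.ker (rhoLin k I he) =
      LinearMap.range (mapA k (CurvesB.SepLift.mu I L) 0) := by
    ext x
    rw [LinearMap.mem_ker, rhoLin_apply, rho_eq_zero_iff hL hV he]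
    constructor
    · rintro ⟨t, ht⟩
      refine ⟨(CurvesB.HZero.equivAdd _).symm t, ?_⟩
      apply (CurvesB.HZero.equivAdd L).injective
      have h3 := CurvesB.HZero.equivAdd_map (CurvesB.SepLift.mu I L)
        ((CurvesB.HZero.equivAdd _).symm t)
      rw [AddEquiv.apply_symm_apply, ht] at h3
      exact h3
    · rintro ⟨y, rfl⟩
      exact ⟨_, (CurvesB.HZero.equivAdd_map (CurvesB.SepLift.mu I L) y).symm⟩
  have h4 : Function.Injective (mapA k (CurvesB.SepLift.mu I L) 0) :=
    injectiveA₀ k (CurvesB.SepLift.sc I L) (CurvesB.SepLift.sc_shortExact I hL)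
  have h5 := LinearMap.finrank_range_of_inj h4
  have h6 := (equivA k (Ega2.Tens.swap (ClSub.idealMod I) L) 0).finrank_eq
  rw [h2, h5] at h1
  rw [← h1, ← h6]

/-- restriction of functions on the closed subscheme to the preimage of `V`, as classes modulo the ideal -/
noncomputable def quotRing : Γ(I.subscheme, ⊤) →+* Γ(X, V) ⧸ I.ideal V :=
  (I.subschemeObjIso V).hom.hom.comp
    (I.subscheme.presheaf.map (homOfLE (le_top : I.subschemeι ⁻¹ᵁ (V : X.Opens) ≤ ⊤)).op).hom

theorem quotRing_app (a : Γ(X, ⊤)) : quotRing (V := V) I (I.subschemeι.app ⊤ a) =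
    Ideal.Quotient.mk (I.ideal V) (ores le_top a) := by
  have h1 : (I.subscheme.presheaf.map (homOfLE (le_top : I.subschemeι ⁻¹ᵁ (V : X.Opens) ≤ ⊤)).op).hom
      (I.subschemeι.app ⊤ a) = I.subschemeι.app (V : X.Opens) (ores le_top a) := by
    have := I.subschemeι.naturality (homOfLE (le_top : (V : X.Opens) ≤ ⊤)).op
    exact congr($(this.symm) a)
  change (I.subschemeObjIso V).hom.hom ((I.subscheme.presheaf.map
    (homOfLE (le_top : I.subschemeι ⁻¹ᵁ (V : X.Opens) ≤ ⊤)).op).hom (I.subschemeι.app ⊤ a)) = _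
  rw [h1, I.subschemeι_app V]
  change (I.subschemeObjIso V).hom.hom ((I.subschemeObjIso V).inv.hom
    (Ideal.Quotient.mk (I.ideal V) (ores le_top a))) = _
  exact congr($((I.subschemeObjIso V).inv_hom_id).hom _)

theorem quotRing_bijective (hV : (I.support : Set X) ⊆ (V : X.Opens)) :
    Function.Bijective (quotRing (V := V) I) := by
  have htop : I.subschemeι ⁻¹ᵁ (V : X.Opens) = ⊤ := by
    rw [eq_top_iff]
    intro z _
    refine hV ?_
    have : I.subschemeι z ∈ Set.range I.subschemeι := ⟨z, rfl⟩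
    rwa [Scheme.IdealSheafData.range_subschemeι] at this
  have h1 : IsIso (homOfLE (le_top : I.subschemeι ⁻¹ᵁ (V : X.Opens) ≤ ⊤)) :=
    ⟨homOfLE htop.ge, Subsingleton.elim _ _, Subsingleton.elim _ _⟩
  exact ((asIso (I.subscheme.presheaf.map
    (homOfLE (le_top : I.subschemeι ⁻¹ᵁ (V : X.Opens) ≤ ⊤)).op)) ≪≫
      I.subschemeObjIso V).commRingCatIsoToRingEquiv.bijective

/-- The dimension of `Γ(X, V) / I(V)`. -/
theorem finrank_quot (hV : (I.support : Set X) ⊆ (V : X.Opens)) :
    Module.finrank k (Γ(X, V) ⧸ I.ideal V) = Module.finrank k (Coh.HH X (ClSub.quotMod I) 0) ∧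
      (Module.Finite k (Coh.HH X (ClSub.quotMod I) 0) → Module.Finite k (Γ(X, V) ⧸ I.ideal V)) := by
  let φ : Coh.HH X (ClSub.quotMod I) 0 →ₗ[k] (Γ(X, V) ⧸ I.ideal V) :=
    { toFun := fun x => quotRing I (show Γ(I.subscheme, ⊤) from
        CurvesB.HZero.equivAdd (ClSub.quotMod I) x)
      map_add' := fun x y => by
        rw [← map_add]
        congr 1
        exact map_add (CurvesB.HZero.equivAdd (ClSub.quotMod I)) x y
      map_smul' := fun t x => by
        have h1 : (show Γ(I.subscheme, ⊤) from CurvesB.HZero.equivAdd (ClSub.quotMod I) (t • x)) =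
            (show Γ(I.subscheme, ⊤) from I.subschemeι.app ⊤ (CurvesB.HZero.gl k X t)) *
              (show Γ(I.subscheme, ⊤) from CurvesB.HZero.equivAdd (ClSub.quotMod I) x) :=
          CurvesB.HZero.equivAdd_smul_over (ClSub.quotMod I) t x
        rw [h1, map_mul, quotRing_app]
        rfl }
  have hφ : Function.Bijective φ :=
    (quotRing_bijective I hV).comp (CurvesB.HZero.equivAdd (ClSub.quotMod I)).bijective
  let e := LinearEquiv.ofBijective φ hφ
  exact ⟨e.finrank_eq.symm, fun h => Module.Finite.equiv e⟩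

end

end K802.EvalDim
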