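import Groth.Agent.CurvesB.SepLift
import Groth.Agent.CurvesB.HZero
import Groth.Agent.Pi1C.ZeroScheme
import Groth.Agent.AdjLin.K802.SubIdeal
import Mathlib.LinearAlgebra.FiniteDimensional.Lemmas

/-!
# Evaluation of global sections of an invertible module modulo an ideal with support in an affine open

`L` is an invertible module generated by `e` over the affine open `V`, `I` an ideal sheaf with support in `V`.
The coefficient of a global section of `L` with respect to `e` modulo `I(V)` is zero exactly when the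
section comes from `I ⊗ L`.
-/

set_option autoImplicit false

namespace K802.EvalMap

universe u

open CategoryTheory AlgebraicGeometry TopologicalSpace
open Groth.Agent Groth.Agent.Fdesc.LocGen

variable {X : Scheme.{u}} {L M N : X.Modules} (V : X.affineOpens)

/-- The coefficient of a global section with respect to a generator over `V`. -/
noncomputable def coef {e : Γ(L, (V : X.Opens))} (he : IsGen e) (s : Γ(L, ⊤)) : Γ(X, V) :=
  (he.exists_eq (res L le_top s)).choose

variable {V}

theorem coef_smul {e : Γ(L, (V : X.Opens))} (he : IsGen e) (s : Γ(L, ⊤)) :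
    coef V he s • e = res L le_top s :=
  (he.exists_eq (res L le_top s)).choose_spec.symm

theorem coef_eq_of {e : Γ(L, (V : X.Opens))} (he : IsGen e) (s : Γ(L, ⊤)) {a : Γ(X, V)}
    (h : res L le_top s = a • e) : coef V he s = a :=
  he.ext (by rw [coef_smul, h])

theorem coef_add {e : Γ(L, (V : X.Opens))} (he : IsGen e) (s t : Γ(L, ⊤)) :
    coef V he (s + t) = coef V he s + coef V he t :=
  coef_eq_of he _ (by rw [map_add, add_smul, coef_smul, coef_smul])

theorem coef_gsmul {e : Γ(L, (V : X.Opens))} (he : IsGen e) (r : Γ(X, ⊤)) (s : Γ(L, ⊤)) :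
    coef V he (r • s) = ores le_top r * coef V he s :=
  coef_eq_of he _ (by rw [res_smul, mul_smul, coef_smul])

/-- The coefficient of a global section modulo `I(V)`. -/
noncomputable def rho (I : X.IdealSheafData) {e : Γ(L, (V : X.Opens))} (he : IsGen e) :
    Γ(L, ⊤) →+ Γ(X, V) ⧸ I.ideal V where
  toFun s := Ideal.Quotient.mk _ (coef V he s)
  map_zero' := by
    have : coef V he (0 : Γ(L, ⊤)) = 0 := coef_eq_of he _ (by rw [map_zero, zero_smul])
    rw [this, map_zero]
  map_add' s t := by rw [coef_add, map_add]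

theorem rho_apply (I : X.IdealSheafData) {e : Γ(L, (V : X.Opens))} (he : IsGen e) (s : Γ(L, ⊤)) :
    rho I he s = Ideal.Quotient.mk _ (coef V he s) := rfl

theorem rho_gsmul (I : X.IdealSheafData) {e : Γ(L, (V : X.Opens))} (he : IsGen e) (r : Γ(X, ⊤))
    (s : Γ(L, ⊤)) : rho I he (r • s) = Ideal.Quotient.mk _ (ores le_top r) * rho I he s := by
  rw [rho_apply, rho_apply, coef_gsmul, map_mul]

theorem mem_ideal_iff (I : X.IdealSheafData) (a : Γ(X, V)) :
    a ∈ I.ideal V ↔ I.subschemeι.app (V : X.Opens) a = 0 := by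
  rw [← I.ker_subschemeι_app V]
  rfl

/-- A global section has zero image exactly when it comes from `I ⊗ L`. -/
theorem rho_eq_zero_iff (hL : PicF.IsInvertible L) {I : X.IdealSheafData}
    (hV : (I.support : Set X) ⊆ (V : X.Opens)) {e : Γ(L, (V : X.Opens))} (he : IsGen e)
    (s : Γ(L, ⊤)) : rho I he s = 0 ↔ ∃ t, (CurvesB.SepLift.mu I L).app ⊤ t = s := by
  rw [rho_apply, Ideal.Quotient.eq_zero_iff_mem, mem_ideal_iff]
  constructor
  · intro h
    apply CurvesB.SepLift.exists_mu_of_pr_eq_zero I hL
    let W : X.Opens := ⟨(I.support : Set X)ᶜ, I.support.isClosed.isOpen_compl⟩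
    let O : Bool → X.Opens := fun b => bif b then (V : X.Opens) else W
    refine res_ext _ O (fun _ => le_top) ?_ ?_
    · intro x _
      rw [Opens.mem_iSup]
      by_cases hx : x ∈ (I.support : Set X)
      · exact ⟨true, hV hx⟩
      · exact ⟨false, hx⟩
    · rintro (_ | _)
      · change res _ (le_top : W ≤ ⊤) _ = res _ (le_top : W ≤ ⊤) _
        rw [← app_res, map_zero]
        exact CurvesB.SepLift.pr_eq_zero_of_disjoint I hL (fun y hy => hy) _
      · change res _ (le_top : (V : X.Opens) ≤ ⊤) _ = res _ (le_top : (V : X.Opens) ≤ ⊤) _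
        rw [← app_res, map_zero, ← coef_smul he]
        exact CurvesB.SepLift.pr_eq_zero_of_coeff I e _ h
  · rintro ⟨t, rfl⟩
    refine CurvesB.SepLift.exists_coeff_of_pr_eq_zero I hL he
      (res L le_top ((CurvesB.SepLift.mu I L).app ⊤ t)) ?_ _ (coef_smul he _).symm
    rw [app_res]
    have h1 : (CurvesB.SepLift.pr I L).app ⊤ ((CurvesB.SepLift.mu I L).app ⊤ t) = 0 := by
      have := Limits.cokernel.condition (CurvesB.SepLift.mu I L)
      exact congr(($this).app ⊤ t)
    rw [h1, map_zero]

/-- The zero scheme of a section is contained in an ideal containing `I` exactly when the coefficient is. -/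
theorem zeroScheme_le_iff (hL : PicF.IsInvertible L) {I I' : X.IdealSheafData} (hI : I ≤ I')
    (hV : (I.support : Set X) ⊆ (V : X.Opens)) {e : Γ(L, (V : X.Opens))} (he : IsGen e)
    (σ : Coh.structureModule X ⟶ L) :
    PicF2.zeroScheme L σ ≤ I' ↔ coef V he (sec σ ⊤) ∈ I'.ideal V := by
  rw [SubIdeal.le_iff hV hI]
  have h1 : (PicF2.zeroScheme L σ).ideal V = Ideal.span {coef V he (sec σ ⊤)} := by
    refine Pi1C.ZeroScheme.ideal_eq_span (s := σ) hL V he ?_
    rw [coef_smul, res_sec]
  rw [h1, Ideal.span_singleton_le_iff_mem]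

/-- Multiplicativity of coefficients. -/
theorem coef_tmul {e : Γ(L, (V : X.Opens))} (he : IsGen e) {f : Γ(M, (V : X.Opens))} (hf : IsGen f)
    (θ : CohB1.tensorMod L M ⟶ N) {g : Γ(N, (V : X.Opens))} (hg : IsGen g)
    (hθ : θ.app V (Ega2.Tens.tmul e f) = g) (s : Γ(L, ⊤)) (t : Γ(M, ⊤)) :
    coef V hg (θ.app ⊤ (Ega2.Tens.tmul s t)) = coef V he s * coef V hf t := by
  refine coef_eq_of hg _ ?_
  rw [← app_res]
  have h1 : res (CohB1.tensorMod L M) (le_top : (V : X.Opens) ≤ ⊤) (Ega2.Tens.tmul s t) =
      Ega2.Tens.tmul (res L le_top s) (res M le_top t) :=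
    Ega2.Tens.tmul_res (homOfLE le_top) s t
  rw [h1, ← coef_smul he, ← coef_smul hf, Ega2.Tens.smul_tmul, Ega2.Tens.tmul_smul, smul_smul]
  have h2 : θ.app V ((coef V he s * coef V hf t) • Ega2.Tens.tmul e f) =
      (coef V he s * coef V hf t) • θ.app V (Ega2.Tens.tmul e f) :=
    Scheme.Modules.Hom.app_smul _ _ _
  rw [h2, hθ]

end K802.EvalMap
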