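import Groth.Agent.AdjLin.K802.BogAlg
import Groth.Agent.AdjLin.K801.Cousin
import Groth.Agent.BlowUp.K484.CocTwist
import Mathlib.RingTheory.Localization.NumDen
import Mathlib.Algebra.GCDMonoid.IntegrallyClosed

/-!
# Common divisors of pairs of rational functions on a factorial scheme

* `exists_prim`: over a factorial local ring a pair of rational functions, not both zero, is a multiple
  `γ` of a primitive pair;
* `prim_open`: being primitive is an open condition;
* `exists_gcd`: the family `γ` of a family of pairs which is locally constant up to invertible changes is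
  locally constant up to units.
-/

set_option autoImplicit false
universe u
open CategoryTheory CategoryTheory.Limits AlgebraicGeometry TopologicalSpace Opposite
open Groth.Agent.Fdesc.LocGen Groth.Agent.Lefpen.H725.CocDef Groth.Agent.Lefpen.H521.CartierCoc
open K801.Cousin K802.BogAlg

namespace K802.GcdLoc

section alg

theorem ic_range {A K : Type*} [CommRing A] [Field K] [Algebra A K] [IsFractionRing A K] [IsDomain A]
    [IsIntegrallyClosed A] : IC (algebraMap A K).range := by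
  intro z hz
  have h1 : IsIntegral A z := by
    obtain ⟨P, hP, hz⟩ := hz
    have hsurj : Function.Surjective (algebraMap A K).rangeRestrict :=
      (algebraMap A K).rangeRestrict_surjective
    have hl : P ∈ Polynomial.lifts (algebraMap A K).rangeRestrict := by
      rw [Polynomial.lifts_iff_coeff_lifts]
      intro n
      exact hsurj _
    obtain ⟨Q, hQ, hdeg, hmon⟩ := Polynomial.lifts_and_degree_eq_and_monic hl hP
    refine ⟨Q, hmon, ?_⟩
    rw [← hQ, Polynomial.eval₂_map] at hz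
    exact hz
  obtain ⟨y, rfl⟩ := IsIntegrallyClosed.isIntegral_iff.1 h1
  exact ⟨y, rfl⟩

variable {K : Type*} [Field K]

theorem prim_of_isRelPrime {A : Type*} [CommRing A] [IsDomain A] [UniqueFactorizationMonoid A]
    [Algebra A K] [IsFractionRing A K] {a b : A} (h : IsRelPrime a b) :
    Prim (algebraMap A K).range (algebraMap A K a) (algebraMap A K b) := by
  refine ⟨⟨a, rfl⟩, ⟨b, rfl⟩, ?_⟩
  intro z hz1 hz2
  obtain ⟨n, m, hnm, hz⟩ := IsFractionRing.exists_reduced_fraction (A := A) z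
  have hm0 : (m : A) ≠ 0 := nonZeroDivisors.ne_zero m.2
  have hm0' : algebraMap A K m ≠ 0 := by
    rw [Ne, FaithfulSMul.algebraMap_eq_zero_iff]
    exact hm0
  have hz' : z = algebraMap A K n / algebraMap A K m := by
    rw [← hz, IsFractionRing.mk'_eq_div]
  have hdvd : ∀ c : A, z * algebraMap A K c ∈ (algebraMap A K).range → (m : A) ∣ c := by
    intro c hc
    obtain ⟨w, hw⟩ := hc
    have h1 : n * c = m * w := by
      apply IsFractionRing.injective A K
      rw [map_mul, map_mul, hw, hz']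
      field_simp
    exact hnm.symm.dvd_of_dvd_mul_left ⟨w, h1⟩
  have hu : IsUnit (m : A) := h (hdvd a hz1) (hdvd b hz2)
  obtain ⟨v, hv⟩ := hu
  refine ⟨n * (v⁻¹ : Aˣ), ?_⟩
  rw [hz', eq_div_iff hm0', ← map_mul, ← hv, mul_assoc, Units.inv_mul, mul_one]

theorem exists_prim_range {A : Type*} [CommRing A] [IsDomain A] [UniqueFactorizationMonoid A]
    [Algebra A K] [IsFractionRing A K] {u v : K} (h : u ≠ 0 ∨ v ≠ 0) :
    ∃ γ : K, γ ≠ 0 ∧ Prim (algebraMap A K).range (u / γ) (v / γ) := by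
  obtain ⟨a, c, hc, hu⟩ := IsFractionRing.div_surjective (A := A) u
  obtain ⟨b, d, hd, hv⟩ := IsFractionRing.div_surjective (A := A) v
  have hc0 : c ≠ 0 := nonZeroDivisors.ne_zero hc
  have hd0 : d ≠ 0 := nonZeroDivisors.ne_zero hd
  have hc0' : algebraMap A K c ≠ 0 := by
    rw [Ne, FaithfulSMul.algebraMap_eq_zero_iff]
    exact hc0
  have hd0' : algebraMap A K d ≠ 0 := by
    rw [Ne, FaithfulSMul.algebraMap_eq_zero_iff]
    exact hd0
  have hne : a * d ≠ 0 ∨ b * c ≠ 0 := by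
    rcases h with h | h
    · left
      refine mul_ne_zero ?_ hd0
      rintro rfl
      rw [map_zero, zero_div] at hu
      exact h hu.symm
    · right
      refine mul_ne_zero ?_ hc0
      rintro rfl
      rw [map_zero, zero_div] at hv
      exact h hv.symm
  -- reduce
  obtain ⟨a', b', g, hab, ha, hb, hg⟩ : ∃ a' b' g : A, IsRelPrime a' b' ∧ g * a' = a * d ∧
      g * b' = b * c ∧ g ≠ 0 := by
    rcases hne with hne | hne
    · obtain ⟨a', b', g, h1, h2, h3⟩ :=
        UniqueFactorizationMonoid.exists_reduced_factors (a * d) hne (b * c)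
      refine ⟨a', b', g, h1, h2, h3, ?_⟩
      rintro rfl
      rw [zero_mul] at h2
      exact hne h2.symm
    · obtain ⟨b', a', g, h1, h2, h3⟩ :=
        UniqueFactorizationMonoid.exists_reduced_factors (b * c) hne (a * d)
      refine ⟨a', b', g, h1.symm, h3, h2, ?_⟩
      rintro rfl
      rw [zero_mul] at h2
      exact hne h2.symm
  have hg0' : algebraMap A K g ≠ 0 := by
    rw [Ne, FaithfulSMul.algebraMap_eq_zero_iff]
    exact hg
  refine ⟨algebraMap A K g / (algebraMap A K c * algebraMap A K d),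
    div_ne_zero hg0' (mul_ne_zero hc0' hd0'), ?_⟩
  have h1 : u / (algebraMap A K g / (algebraMap A K c * algebraMap A K d)) = algebraMap A K a' := by
    have h2 := congrArg (algebraMap A K) ha
    rw [map_mul, map_mul] at h2
    rw [← hu]
    field_simp
    rw [← h2]
  have h1' : v / (algebraMap A K g / (algebraMap A K c * algebraMap A K d)) = algebraMap A K b' := by
    have h2 := congrArg (algebraMap A K) hb
    rw [map_mul, map_mul] at h2
    rw [← hv]
    field_simp
    rw [← h2]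
  rw [h1, h1']
  exact prim_of_isRelPrime hab

/-- The pair `u', v'` is an `R`-linear combination of `u, v`. -/
def Sp (R : Subring K) (u v u' v' : K) : Prop :=
  ∃ a b c d : K, a ∈ R ∧ b ∈ R ∧ c ∈ R ∧ d ∈ R ∧ u' = a * u + b * v ∧ v' = c * u + d * v

theorem Sp.div {R : Subring K} {u v u' v' : K} (h : Sp R u v u' v') (γ : K) :
    Sp R (u / γ) (v / γ) (u' / γ) (v' / γ) := by
  obtain ⟨a, b, c, d, ha, hb, hc, hd, h1, h2⟩ := h
  exact ⟨a, b, c, d, ha, hb, hc, hd, by rw [h1]; ring, by rw [h2]; ring⟩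

theorem Sp.mul_mem {R : Subring K} {u v u' v' z : K} (h : Sp R u v u' v') (h1 : z * u ∈ R)
    (h2 : z * v ∈ R) : z * u' ∈ R ∧ z * v' ∈ R := by
  obtain ⟨a, b, c, d, ha, hb, hc, hd, rfl, rfl⟩ := h
  constructor
  · have : z * (a * u + b * v) = a * (z * u) + b * (z * v) := by ring
    rw [this]
    exact R.add_mem (R.mul_mem ha h1) (R.mul_mem hb h2)
  · have : z * (c * u + d * v) = c * (z * u) + d * (z * v) := by ring
    rw [this]
    exact R.add_mem (R.mul_mem hc h1) (R.mul_mem hd h2)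

theorem prim_of_sp {R : Subring K} {u v u' v' : K} (h : Sp R u v u' v') (h' : Sp R u' v' u v)
    (hp : Prim R u v) : Prim R u' v' := by
  have h1 := h.mul_mem (z := 1) (by rw [one_mul]; exact hp.1) (by rw [one_mul]; exact hp.2.1)
  rw [one_mul, one_mul] at h1
  refine ⟨h1.1, h1.2, fun z hz1 hz2 => ?_⟩
  obtain ⟨h2, h3⟩ := h'.mul_mem hz1 hz2
  exact hp.2.2 z h2 h3

theorem mem_of_prim {R : Subring K} {u v γ γ' : K} (hγ : γ ≠ 0) (hγ' : γ' ≠ 0)
    (h : Prim R (u / γ) (v / γ)) (h' : Prim R (u / γ') (v / γ')) : γ / γ' ∈ R := by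
  refine h.2.2 _ ?_ ?_
  · have : γ / γ' * (u / γ) = u / γ' := by field_simp
    rw [this]
    exact h'.1
  · have : γ / γ' * (v / γ) = v / γ' := by field_simp
    rw [this]
    exact h'.2.1

end alg

variable {X : Scheme.{u}} [IsIntegral X]

theorem ic_Ox [∀ x : X, UniqueFactorizationMonoid (X.presheaf.stalk x)] (x : X) : IC (Ox x) := by
  have h1 : UniqueFactorizationMonoid (X.presheaf.stalk x) := inferInstance
  have h2 : IsIntegrallyClosed (X.presheaf.stalk x) := by
    let _ : GCDMonoid (X.presheaf.stalk x) := UniqueFactorizationMonoid.toGCDMonoid _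
    infer_instance
  exact ic_range

theorem unitAt_iff {x : X} {φ : X.functionField} : UnitAt x φ ↔ φ ≠ 0 ∧ φ ∈ Ox x ∧ φ⁻¹ ∈ Ox x := by
  constructor
  · intro h
    exact ⟨unitAt_ne_zero h, (regAt_iff _ _).1 (unitAt_regAt h), (regAt_iff _ _).1 (unitAt_regAt (unitAt_inv h))⟩
  · rintro ⟨h0, h1, h2⟩
    obtain ⟨U, hx, hη, g, hg⟩ := (regAt_iff _ _).2 h1
    obtain ⟨V, hx', hη', g', hg'⟩ := (regAt_iff _ _).2 h2
    have hη'' : genericPoint X ∈ U ⊓ V := ⟨hη, hη'⟩
    refine ⟨U ⊓ V, ⟨hx, hx'⟩, hη'', ores inf_le_left g, ?_, by rw [ff_ores, hg]⟩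
    refine IsUnit.of_mul_eq_one (ores inf_le_right g') (ff_injective (U ⊓ V) hη'' ?_)
    rw [map_mul, ff_ores, ff_ores, hg, hg', map_one, mul_inv_cancel₀ h0]

theorem unitAt_of_prim {x : X} {u v γ γ' : X.functionField} (hγ : γ ≠ 0) (hγ' : γ' ≠ 0)
    (h : Prim (Ox x) (u / γ) (v / γ)) (h' : Prim (Ox x) (u / γ') (v / γ')) : UnitAt x (γ / γ') := by
  refine unitAt_iff.2 ⟨div_ne_zero hγ hγ', mem_of_prim hγ hγ' h h', ?_⟩
  rw [inv_div]
  exact mem_of_prim hγ' hγ h' h

/-- Being primitive is an open condition. -/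
theorem prim_open [IsLocallyNoetherian X] {x : X} {u v : X.functionField} (h0 : u ≠ 0 ∨ v ≠ 0)
    (h : Prim (Ox x) u v) :
    ∃ V : X.Opens, x ∈ V ∧ ∀ y ∈ V, Prim (Ox y) u v := by
  classical
  -- an affine neighbourhood where both are regular
  obtain ⟨V1, hx1, hV1⟩ := regAt_open ((regAt_iff x _).2 h.1)
  obtain ⟨V2, hx2, hV2⟩ := regAt_open ((regAt_iff x _).2 h.2.1)
  obtain ⟨W, hW, hxW, hWV⟩ := Opens.isBasis_iff_nbhd.mp X.isBasis_affineOpens (show x ∈ V1 ⊓ V2 from ⟨hx1, hx2⟩)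
  have hη : genericPoint X ∈ W := gen_mem hxW
  let _ : Algebra Γ(X, W) X.functionField := (ff W hη).toAlgebra
  have hal : ∀ a : Γ(X, W), algebraMap Γ(X, W) X.functionField a = ff W hη a := fun a => rfl
  have hNoeth : IsNoetherianRing Γ(X, W) := IsLocallyNoetherian.component_noetherian ⟨W, hW⟩
  -- every local ring is a localisation
  have hloc : ∀ y ∈ W, ∀ b ∈ Ox y, ∃ t : Γ(X, W), UnitAt y (ff W hη t) ∧
      ∃ a : Γ(X, W), ff W hη t * b = ff W hη a := by
    intro y hy b hb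
    obtain ⟨s, rfl⟩ := hb
    let _ : Algebra Γ(X, W) (X.presheaf.stalk y) := (X.presheaf.germ W y hy).hom.toAlgebra
    have hL : IsLocalization.AtPrime (X.presheaf.stalk y) (hW.primeIdealOf ⟨y, hy⟩).asIdeal :=
      hW.isLocalization_stalk ⟨y, hy⟩
    obtain ⟨⟨a, t⟩, hat⟩ := IsLocalization.surj (hW.primeIdealOf ⟨y, hy⟩).asIdeal.primeCompl s
    refine ⟨t.1, ?_, a, ?_⟩
    · have hu : IsUnit (X.presheaf.germ W y hy t.1) := IsLocalization.map_units (X.presheaf.stalk y) t
      have hyt : y ∈ X.basicOpen t.1 := by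
        rwa [Scheme.mem_basicOpen _ _ _ hy]
      refine ⟨X.basicOpen t.1, hyt, gen_mem hyt, ores (X.basicOpen_le _) t.1,
        RingedSpace.isUnit_res_basicOpen _ _, ?_⟩
      rw [ff_ores]
    · have h1 : s * X.presheaf.germ W y hy t.1 = X.presheaf.germ W y hy a := hat
      have h2 := congrArg (algebraMap (X.presheaf.stalk y) X.functionField) h1
      rw [map_mul, algebraMap_germ hy hη, algebraMap_germ hy hη] at h2
      rw [mul_comm]
      exact h2
  obtain ⟨w, hw0, hw⟩ : ∃ w : X.functionField, w ≠ 0 ∧ (w = u ∨ w = v) := by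
    rcases h0 with h0 | h0
    · exact ⟨u, h0, Or.inl rfl⟩
    · exact ⟨v, h0, Or.inr rfl⟩
  -- the module of multipliers
  let M : Submodule Γ(X, W) X.functionField :=
    { carrier := {b | b * u ∈ (ff W hη).range ∧ b * v ∈ (ff W hη).range}
      add_mem' := by
        rintro a b ⟨h1, h2⟩ ⟨h3, h4⟩
        refine ⟨?_, ?_⟩
        · rw [add_mul]; exact Subring.add_mem _ h1 h3
        · rw [add_mul]; exact Subring.add_mem _ h2 h4
      zero_mem' := by
        refine ⟨?_, ?_⟩ <;>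
        · rw [zero_mul]; exact Subring.zero_mem _
      smul_mem' := by
        rintro a b ⟨h1, h2⟩
        have h3 : a • b = ff W hη a * b := Algebra.smul_def a b
        rw [h3]
        refine ⟨?_, ?_⟩
        · rw [mul_assoc]; exact Subring.mul_mem _ ⟨a, rfl⟩ h1
        · rw [mul_assoc]; exact Subring.mul_mem _ ⟨a, rfl⟩ h2 }
  have hMfg : M.FG := by
    have h1 : IsNoetherian Γ(X, W) (Submodule.span Γ(X, W) ({w⁻¹} : Set X.functionField)) :=
      isNoetherian_span_of_finite _ (Set.finite_singleton _)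
    refine isNoetherian_submodule.1 h1 M ?_
    rintro b ⟨h2, h3⟩
    have h4 : b * w ∈ (ff W hη).range := by
      rcases hw with rfl | rfl
      · exact h2
      · exact h3
    obtain ⟨a, ha⟩ := h4
    rw [Submodule.mem_span_singleton]
    refine ⟨a, ?_⟩
    rw [Algebra.smul_def, hal, ha]
    field_simp
  obtain ⟨S, hS⟩ := hMfg
  have hSx : ∀ m ∈ S, m ∈ Ox x := by
    intro m hm
    have h1 : m ∈ M := by
      rw [← hS]
      exact Submodule.subset_span hm
    refine h.2.2 m ?_ ?_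
    · obtain ⟨a, ha⟩ := h1.1
      rw [← ha]
      exact (regAt_iff _ _).1 ⟨W, hxW, hη, a, rfl⟩
    · obtain ⟨a, ha⟩ := h1.2
      rw [← ha]
      exact (regAt_iff _ _).1 ⟨W, hxW, hη, a, rfl⟩
  obtain ⟨V, hxV, hV⟩ : ∃ V : X.Opens, x ∈ V ∧ ∀ y ∈ V, ∀ m ∈ S, m ∈ Ox y := by
    clear hS
    induction S using Finset.induction_on with
    | empty => exact ⟨⊤, trivial, fun y _ m hm => absurd hm (Finset.notMem_empty _)⟩
    | insert m S hm ih =>
      obtain ⟨V, hxV, hV⟩ := ih fun m' hm' => hSx m' (Finset.mem_insert_of_mem hm')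
      obtain ⟨V', hxV', hV'⟩ := regAt_open ((regAt_iff x _).2 (hSx m (Finset.mem_insert_self _ _)))
      refine ⟨V ⊓ V', ⟨hxV, hxV'⟩, fun y hy m' hm' => ?_⟩
      rcases Finset.mem_insert.1 hm' with rfl | hm'
      · exact (regAt_iff _ _).1 (hV' y hy.2)
      · exact hV y hy.1 m' hm'
  refine ⟨V ⊓ W, ⟨hxV, hxW⟩, fun y hy => ?_⟩
  have hyV : y ∈ V := hy.1
  have hyW : y ∈ W := hy.2
  refine ⟨(regAt_iff _ _).1 (hV1 y (hWV hyW).1), (regAt_iff _ _).1 (hV2 y (hWV hyW).2), ?_⟩
  intro b hb1 hb2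
  obtain ⟨t1, ht1, a1, ha1⟩ := hloc y hyW _ hb1
  obtain ⟨t2, ht2, a2, ha2⟩ := hloc y hyW _ hb2
  have hTb : ff W hη t1 * ff W hη t2 * b ∈ M := by
    refine ⟨⟨t2 * a1, ?_⟩, ⟨t1 * a2, ?_⟩⟩
    · rw [map_mul, ← ha1]; ring
    · rw [map_mul, ← ha2]; ring
  have hMy : ∀ m ∈ M, m ∈ Ox y := by
    intro m hm
    rw [← hS] at hm
    refine Submodule.span_induction (p := fun m _ => m ∈ Ox y) ?_ ?_ ?_ ?_ hm
    · exact fun m hm => hV y hyV m hm
    · exact Subring.zero_mem _
    · exact fun a b _ _ ha hb => Subring.add_mem _ ha hb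
    · intro a m _ hm
      have h3 : a • m = ff W hη a * m := Algebra.smul_def a m
      rw [h3]
      exact Subring.mul_mem _ ((regAt_iff _ _).1 ⟨W, hyW, hη, a, rfl⟩) hm
  have h1 := hMy _ hTb
  have h2 := unitAt_mul ht1 ht2
  have h3 := (regAt_iff _ _).1 (unitAt_regAt (unitAt_inv h2))
  have h4 : b = (ff W hη t1 * ff W hη t2)⁻¹ * (ff W hη t1 * ff W hη t2 * b) := by
    rw [← mul_assoc, inv_mul_cancel₀ (unitAt_ne_zero h2), one_mul]
  rw [h4]
  exact Subring.mul_mem _ h3 h1

/-- The greatest common divisor of a locally constant family of pairs is locally constant up to units. -/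
theorem exists_gcd [IsLocallyNoetherian X] [∀ x : X, UniqueFactorizationMonoid (X.presheaf.stalk x)]
    (u v : X → X.functionField) (hne : ∀ x, u x ≠ 0 ∨ v x ≠ 0)
    (hloc : ∀ x, ∃ V : X.Opens, x ∈ V ∧ ∀ y ∈ V,
      Sp (Ox y) (u x) (v x) (u y) (v y) ∧ Sp (Ox y) (u y) (v y) (u x) (v x)) :
    ∃ γ : X → X.functionField, (∀ x, γ x ≠ 0) ∧ (∀ x, Prim (Ox x) (u x / γ x) (v x / γ x)) ∧
      ∀ x, ∃ V : X.Opens, x ∈ V ∧ ∀ y ∈ V, UnitAt y (γ x / γ y) := by
  have h1 : ∀ x, ∃ γ : X.functionField, γ ≠ 0 ∧ Prim (Ox x) (u x / γ) (v x / γ) := fun x =>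
    exists_prim_range (A := X.presheaf.stalk x) (hne x)
  choose γ hγ0 hγ using h1
  refine ⟨γ, hγ0, hγ, fun x => ?_⟩
  obtain ⟨V, hxV, hV⟩ := hloc x
  obtain ⟨V', hxV', hV'⟩ := prim_open (X := X) (x := x) (by
    rcases hne x with h | h
    · exact Or.inl (div_ne_zero h (hγ0 x))
    · exact Or.inr (div_ne_zero h (hγ0 x))) (hγ x)
  refine ⟨V ⊓ V', ⟨hxV, hxV'⟩, fun y hy => ?_⟩
  obtain ⟨s1, s2⟩ := hV y hy.1
  exact unitAt_of_prim (hγ0 x) (hγ0 y) (prim_of_sp (s1.div _) (s2.div _) (hV' y hy.2)) (hγ y)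

/-- Hartogs for families: a family which is locally constant up to units, and is a unit on an open set
containing the points of codimension one, is a unit everywhere. -/
theorem unitAt_of_family [IsLocallyNoetherian X] (hX : ∀ x : X, IsIntegrallyClosed (X.presheaf.stalk x))
    {U : X.Opens} (hcod : ∀ z : X, Order.coheight z = 1 → z ∈ U) {g : X → X.functionField}
    (h0 : ∀ x, g x ≠ 0) (hloc : ∀ x, ∃ V : X.Opens, x ∈ V ∧ ∀ y ∈ V, UnitAt y (g x / g y))
    (h : ∀ x ∈ U, UnitAt x (g x)) (x : X) : UnitAt x (g x) := by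
  refine K484.CocTwist.unitAt_of_ord hX (h0 x) fun z hz hz1 => ?_
  obtain ⟨V, hxV, hV⟩ := hloc x
  have h5 := hV z (hz.mem_open V.2 hxV)
  have h7 := unitAt_mul h5 (h z (hcod z hz1))
  rw [div_mul_cancel₀ _ (h0 z)] at h7
  exact K484.CocTwist.ord_of_unitAt h7

end K802.GcdLoc
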