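import Groth.Agent.AdjLin.K802.TensFrame
import Groth.Agent.AdjLin.K801.CousinH1
import Groth.Agent.AdjLin.K802.GcdLoc

/-!
# Frames of a module of rank two on an integral scheme

* `Fr E`: local bases of two elements near every point; `Fr.p x j i`: the coordinates of the generic frame
  in the frame at `x`;
* `Fr.exists_trans`: the frames at `x` and `y` differ by a matrix regular on `U x ⊓ U y`;
* `Fr.exists_tensor`: the tensor over the function field of a morphism from an invertible module to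
  `E^{⊗ N}`.
-/

set_option autoImplicit false
universe u
open CategoryTheory CategoryTheory.Limits AlgebraicGeometry TopologicalSpace Opposite
open scoped TensorProduct
open Groth.Agent.Sga67.Sec Groth.Agent.Sga67.LocBasis
open Groth.Agent.Lefpen.H725.CocDef Groth.Agent.Lefpen.H521.CartierCoc K801.Cousin K801.CousinH1
open K802.LocVal K802.BogTens K802.TensFrame K802.BogForm

namespace K802.Frame

variable {X : Scheme.{u}} [IsIntegral X]

theorem exists_sec {L : X.Modules} {b : X → X.functionField} (D : Dat L b) :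
    ∃ ε : ∀ x, Sec L (D.U x),
      (∀ x y, ∃ (g : Γ(X, D.U x ⊓ D.U y)) (hη : genericPoint X ∈ D.U x ⊓ D.U y),
        res L inf_le_left (ε x) = g • res L inf_le_right (ε y) ∧ b x = ff (D.U x ⊓ D.U y) hη g * b y) ∧
      (∀ x (V : X.Opens) (h : V ≤ D.U x) (m : Sec L V), ∃ a : Γ(X, V), m = a • res L h (ε x)) := by
  refine ⟨D.e, ?_, ?_⟩
  · intro x y
    obtain ⟨g, hη, hg, hb⟩ := D.tr x y
    refine ⟨g, hη, ?_, hb⟩
    exact hg
  · intro x V h m
    obtain ⟨a, ha⟩ := ((D.gen x).res h).exists_eq m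
    exact ⟨a, ha⟩

/-- Local bases of two elements. -/
structure Fr (E : X.Modules) where
  U : X → X.Opens
  hU : ∀ x, x ∈ U x
  e : ∀ x, Fin 2 → Sec E (U x)
  he : ∀ x, IsLocBasis (e x)

namespace Fr

variable {E : X.Modules} (F : Fr E)

theorem hη (x : X) : genericPoint X ∈ F.U x := gen_mem (F.hU x)

/-- The generic frame in terms of the frame at `x`: `e η i = ∑ j, p x j i • e x j`. -/
noncomputable def p (x : X) : Fin 2 → Fin 2 → X.functionField :=
  fun j i => cf (F.he x) (F.hη x) (F.hη (genericPoint X)) (F.e (genericPoint X) i) j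

theorem exists_mat (x y : X) : ∃ h : Fin 2 → Fin 2 → Γ(X, F.U x ⊓ F.U y),
    ∀ i, res E inf_le_left (F.e x i) = ∑ j, h i j • res E inf_le_right (F.e y j) := by
  have h1 : ∀ i, ∃ a : Fin 2 → Γ(X, F.U x ⊓ F.U y),
      comb (F.e y) inf_le_right a = res E (inf_le_left : F.U x ⊓ F.U y ≤ F.U x) (F.e x i) :=
    fun i => (F.he y _ inf_le_right).2 _
  choose h hh using h1
  exact ⟨h, fun i => (hh i).symm⟩

/-- Two frames differ by a matrix which is regular on the intersection of their domains. -/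
theorem exists_trans (x y : X) : ∃ m : Fin 2 → Fin 2 → X.functionField,
    (∀ z, z ∈ F.U x → z ∈ F.U y → ∀ i j, m i j ∈ Ox z) ∧
      ∀ i k, F.p y k i = ∑ j, F.p x j i * m j k := by
  obtain ⟨h, hh⟩ := F.exists_mat x y
  refine ⟨fun i j => ff (F.U x ⊓ F.U y) (mem_inf (F.hη x) (F.hη y)) (h i j), ?_, ?_⟩
  · intro z hx hy i j
    exact (regAt_iff _ _).1 ⟨F.U x ⊓ F.U y, ⟨hx, hy⟩, mem_inf (F.hη x) (F.hη y), _, rfl⟩
  · intro i k
    exact cf_trans (F.he x) (F.hη x) (F.he y) (F.hη y) (F.hη _) (F.e _ i) inf_le_left inf_le_right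
      (mem_inf (F.hη x) (F.hη y)) h hh k

theorem dt_trans {x y : X} {m : Fin 2 → Fin 2 → X.functionField}
    (hm : ∀ i k, F.p y k i = ∑ j, F.p x j i * m j k) :
    dt (F.p y 0) (F.p y 1) = dt (F.p x 0) (F.p x 1) * (m 0 0 * m 1 1 - m 0 1 * m 1 0) := by
  simp only [dt, hm, Fin.sum_univ_two]
  ring

/-- The transition to the generic frame. -/
theorem p_gen (j i : Fin 2) : F.p (genericPoint X) j i = if i = j then 1 else 0 := by
  classical
  have h := cf_eq (F.he (genericPoint X)) (F.hη _) (F.hη (genericPoint X)) (F.e (genericPoint X) i)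
    le_rfl le_rfl (F.hη _) (Pi.single i 1) (by
      rw [comb_apply, Finset.sum_eq_single i]
      · simp
      · intro j _ hj
        simp [hj]
      · simp) j
  rw [p, h]
  by_cases hij : i = j
  · subst hij
    simp
  · rw [if_neg hij, Pi.single_eq_of_ne (Ne.symm hij), map_zero]

theorem dt_ne_zero (x : X) : dt (F.p x 0) (F.p x 1) ≠ 0 := by
  obtain ⟨m, -, hm⟩ := F.exists_trans x (genericPoint X)
  have h1 := F.dt_trans hm
  have h2 : dt (F.p (genericPoint X) 0) (F.p (genericPoint X) 1) = 1 := by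
    simp [dt, p_gen]
  rw [h2] at h1
  intro h0
  rw [h0, zero_mul] at h1
  exact one_ne_zero h1

/-- The determinants of two frames agree up to a unit. -/
theorem unitAt_dt {x y z : X} (hx : z ∈ F.U x) (hy : z ∈ F.U y) :
    UnitAt z (dt (F.p x 0) (F.p x 1) / dt (F.p y 0) (F.p y 1)) := by
  have key : ∀ x y : X, z ∈ F.U x → z ∈ F.U y →
      dt (F.p y 0) (F.p y 1) / dt (F.p x 0) (F.p x 1) ∈ Ox z := by
    intro x y hx hy
    obtain ⟨m, hm, h⟩ := F.exists_trans x y
    rw [F.dt_trans h, mul_div_cancel_left₀ _ (F.dt_ne_zero x)]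
    exact Subring.sub_mem _ (Subring.mul_mem _ (hm z hx hy _ _) (hm z hx hy _ _))
      (Subring.mul_mem _ (hm z hx hy _ _) (hm z hx hy _ _))
  refine GcdLoc.unitAt_iff.2 ⟨div_ne_zero (F.dt_ne_zero x) (F.dt_ne_zero y), key y x hy hx, ?_⟩
  rw [inv_div]
  exact key x y hx hy

/-- The coordinates of a vector in two frames. -/
theorem sp {x y z : X} (hx : z ∈ F.U x) (hy : z ∈ F.U y) (l : Fin 2 → X.functionField) :
    GcdLoc.Sp (Ox z) (l 0 * F.p x 0 0 + l 1 * F.p x 0 1) (l 0 * F.p x 1 0 + l 1 * F.p x 1 1)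
      (l 0 * F.p y 0 0 + l 1 * F.p y 0 1) (l 0 * F.p y 1 0 + l 1 * F.p y 1 1) := by
  obtain ⟨m, hm, h⟩ := F.exists_trans x y
  refine ⟨m 0 0, m 1 0, m 0 1, m 1 1, hm z hx hy _ _, hm z hx hy _ _, hm z hx hy _ _, hm z hx hy _ _,
    ?_, ?_⟩
  · simp only [h, Fin.sum_univ_two]
    ring
  · simp only [h, Fin.sum_univ_two]
    ring

/-- Coordinates of a section of a tensor power. -/
theorem ev_cf (x : X) (N : ℕ) {W : X.Opens} (hW : genericPoint X ∈ W)
    (s : Sec (CohB1.tensorPow E N) W) (t' : T N) :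
    Ev (fun w => cf (isLocBasis_tb (F.he (genericPoint X)) N) (F.hη _) hW s (unw N w))
      ((wd N t').map (F.p x)) = cf (isLocBasis_tb (F.he x) N) (F.hη x) hW s t' := by
  obtain ⟨h, hh⟩ := F.exists_mat (genericPoint X) x
  have h1 : ∀ i j, ff (F.U (genericPoint X) ⊓ F.U x) (mem_inf (F.hη _) (F.hη x)) (h i j) = F.p x j i := by
    intro i j
    exact (cf_eq (F.he x) (F.hη x) (F.hη _) (F.e _ i) inf_le_left inf_le_right
      (mem_inf (F.hη _) (F.hη x)) (h i) (hh i).symm j).symm
  have h2 := cf_trans (isLocBasis_tb (F.he (genericPoint X)) N) (F.hη _) (isLocBasis_tb (F.he x) N)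
    (F.hη x) hW s inf_le_left inf_le_right (mem_inf (F.hη _) (F.hη x)) (hp h N)
    (tb_trans inf_le_left inf_le_right h hh N) t'
  rw [ev_eq, h2]
  refine Finset.sum_congr rfl fun t _ => ?_
  rw [unw_wd, map_hp]
  simp only [h1]

/-- **The tensor of a morphism** from an invertible module with cocycle `b` to `E^{⊗ N}`. -/
theorem exists_tensor {L : X.Modules} {b : X → X.functionField} (D : Dat L b) {N : ℕ}
    (φ : L ⟶ CohB1.tensorPow E N) (hφ : φ ≠ 0) :
    ∃ c : List (Fin 2) → X.functionField, (∃ w, w.length = N ∧ c w ≠ 0) ∧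
      ∀ (x : X) (ξs : List (Fin 2 → X.functionField)), ξs.length = N →
        (∀ ξ ∈ ξs, ξ = F.p x 0 ∨ ξ = F.p x 1) → b x * Ev c ξs ∈ Ox x := by
  classical
  obtain ⟨ε, hεt, hεg⟩ := exists_sec D
  let s : ∀ x, Sec (CohB1.tensorPow E N) (D.U x) := fun x => appS φ (D.U x) (ε x)
  have hDη : ∀ x, genericPoint X ∈ D.U x := fun x => D.hη x
  let H := isLocBasis_tb (F.he (genericPoint X)) N
  -- the values agree
  have h1 : ∀ x y (t : T N), cf H (F.hη _) (hDη x) (s x) t * b y = cf H (F.hη _) (hDη y) (s y) t * b x := by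
    intro x y t
    obtain ⟨g, hgη, hg', hb⟩ := hεt x y
    have h2 : res (CohB1.tensorPow E N) (inf_le_left : D.U x ⊓ D.U y ≤ D.U x) (s x) =
        g • res (CohB1.tensorPow E N) (inf_le_right : D.U x ⊓ D.U y ≤ D.U y) (s y) := by
      change res _ _ (appS φ _ _) = g • res _ _ (appS φ _ _)
      rw [← appS_res, hg', map_smul, appS_res]
    have h3 := cf_res H (F.hη _) (W := D.U x) hgη inf_le_left (s x) t
    have h4 := cf_res H (F.hη _) (W := D.U y) hgη inf_le_right (s y) t
    rw [h2, cf_smul, h4] at h3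
    rw [← h3, hb]
    ring
  have hb0 : ∀ x, b x ≠ 0 := D.h0
  let c : List (Fin 2) → X.functionField := fun w =>
    (b (genericPoint X))⁻¹ * cf H (F.hη _) (hDη _) (s (genericPoint X)) (unw N w)
  have h2 : ∀ x, (fun w => cf H (F.hη _) (hDη x) (s x) (unw N w)) = b x • c := by
    intro x
    funext w
    have h3 := h1 x (genericPoint X) (unw N w)
    change _ = b x * ((b (genericPoint X))⁻¹ * _)
    rw [mul_left_comm, eq_inv_mul_iff_mul_eq₀ (hb0 _), mul_comm, h3, mul_comm]
  refine ⟨c, ?_, ?_⟩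
  · by_contra hcon
    push Not at hcon
    apply hφ
    have h3 : ∀ x, res (CohB1.tensorPow E N) (inf_le_left : D.U x ⊓ F.U x ≤ D.U x) (s x) = 0 := by
      intro x
      refine res_eq_zero (isLocBasis_tb (F.he x) N) (F.hη x) (hDη x) (s x) fun t' => ?_
      rw [← F.ev_cf x N (hDη x) (s x) t', h2 x, ev_eq]
      refine Finset.sum_eq_zero fun t _ => ?_
      rw [Pi.smul_apply, hcon _ (wd_length N t), smul_zero, zero_mul]
    apply hom_ext
    intro U m
    apply eq_of_locally
    intro x hx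
    have k1 : U ⊓ (D.U x ⊓ F.U x) ≤ D.U x := inf_le_right.trans inf_le_left
    refine ⟨U ⊓ (D.U x ⊓ F.U x), inf_le_left, ⟨hx, D.hU x, F.hU x⟩, ?_⟩
    obtain ⟨a, ha'⟩ := hεg x _ k1 (res L (inf_le_left : U ⊓ (D.U x ⊓ F.U x) ≤ U) m)
    rw [← appS_res, ha', map_smul, appS_res, appS_zero, map_zero]
    have h4 := congrArg (res (CohB1.tensorPow E N) (inf_le_right : U ⊓ (D.U x ⊓ F.U x) ≤ _)) (h3 x)
    rw [res_res, map_zero] at h4
    have h5 : res (CohB1.tensorPow E N) k1 (appS φ (D.U x) (ε x)) = 0 := h4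
    rw [h5, smul_zero]
  · intro x ξs hlen hξ
    obtain ⟨w, rfl⟩ : ∃ w : List (Fin 2), w.map (F.p x) = ξs := by
      clear hlen
      induction ξs with
      | nil => exact ⟨[], rfl⟩
      | cons ξ ξs ih =>
        obtain ⟨w, hw⟩ := ih fun ξ' h' => hξ ξ' (List.mem_cons_of_mem _ h')
        rcases hξ ξ List.mem_cons_self with rfl | rfl
        · exact ⟨0 :: w, by rw [List.map_cons, hw]⟩
        · exact ⟨1 :: w, by rw [List.map_cons, hw]⟩
    have hw : w.length = N := by simpa using hlen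
    have h3 := F.ev_cf x N (hDη x) (s x) (unw N w)
    rw [wd_unw N w hw, h2 x, Ev_smul] at h3
    rw [h3]
    exact cf_mem _ _ _ _ _ (F.hU x) (D.hU x)

end Fr

end K802.Frame
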