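import Groth.Agent.VarietyA.AmpleField
import Groth.Agent.CohqB.AmpGeneric
import Groth.Agent.Sga67.TwistProj
import Groth.Agent.Ega3B.PullTensor

/-!
# Twists of schemes over projective space
-/

set_option autoImplicit false

namespace K802.TwistP

universe u

open CategoryTheory AlgebraicGeometry
open Groth.Agent

variable {k : Type u} [Field k] {N : ℕ} {X : Scheme.{u}} (i : X ⟶ CohB1.ProjSpace N k)

theorem isInvertible (e : ℤ) :
    PicF.IsInvertible ((Scheme.Modules.pullback i).obj (Twist.twistProjSpace N k e)) :=
  Fdesc.LocGen.isInvertible_pullback _ (Ega3B.ProjFrame.isInvertible_twistProjSpace N k e)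

theorem nonempty_mul (e f g : ℤ) (h : e + f = g) :
    Nonempty (CohB1.tensorMod ((Scheme.Modules.pullback i).obj (Twist.twistProjSpace N k e))
      ((Scheme.Modules.pullback i).obj (Twist.twistProjSpace N k f)) ≅
        (Scheme.Modules.pullback i).obj (Twist.twistProjSpace N k g)) := by
  subst h
  obtain ⟨φ⟩ := Sga67.TwistProj.nonempty_mul N k e f
  exact ⟨(Ega3B.PullTensor.pullTensorIso i
    (Ega3B.ProjFrame.isInvertible_twistProjSpace N k e)
    (Ega3B.ProjFrame.isInvertible_twistProjSpace N k f)).symm ≪≫
      (Scheme.Modules.pullback i).mapIso φ⟩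

theorem isAmple_one [IsAffineHom i] :
    CohB1.IsAmple ((Scheme.Modules.pullback i).obj (Twist.twistProjSpace N k 1)) :=
  CohqB.AmpCocycle.isAmple_pullback i (VarietyA.AmpleField.isAmple_twistProjSpace N k)

end K802.TwistP
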