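import Groth.Agent.Curves.K318.PlaneCurve
import Groth.Agent.IntTh.K711.ProjDim
import Groth.Agent.Variety.K426.DimKit
import Groth.Agent.Sga5.ProjReg
import Groth.Agent.S2821
import Groth.Agent.S1684
import Groth.Agent.S1697
import Groth.Agent.S4466
import Groth.Agent.Dix.IdealModCartier
import Groth.Agent.Variety.K427.EulerClosed
import Groth.Agent.Surf.K458.Ip
import Groth.Agent.Fga.IntAdd
import Groth.Agent.Fga.PicMon
import Groth.Agent.AdjLin.K802.TwistP

/-!
# Integral surfaces in `P³`: the ideal is a twist, Euler characteristics of the twists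
-/

set_option autoImplicit false
universe u

open CategoryTheory CategoryTheory.Limits AlgebraicGeometry Opposite TopologicalSpace

open Groth.Agent Groth.Agent.VarietyB Groth.Agent.VarietyA.EulerLES Groth.Agent.Fga.PicMon

namespace K802.Hyp3

variable (k : Type u) [Field k]

/-- Projective three-space. -/
noncomputable abbrev P3 : Scheme.{u} := CohB1.ProjSpace 3 k

/-- The twists of projective three-space. -/
noncomputable abbrev T (m : ℤ) : (P3 k).Modules := Twist.twistProjSpace 3 k m

/-- An integral closed subscheme of dimension `2` of `P³` has local ring of dimension one at its generic point. -/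
theorem ringKrullDim_stalk (D : (CohB1.ProjSpace 3 k).IdealSheafData) [IsIntegral D.subscheme]
    (hdim : topologicalKrullDim D.subscheme = 2) :
    ringKrullDim ((CohB1.ProjSpace 3 k).presheaf.stalk (D.subschemeι (genericPoint ↥D.subscheme))) = 1 := by
  have := K711.ProjDim.isIntegral_projSpace 3 k
  have hlft : LocallyOfFiniteType ((CohB1.ProjSpace 3 k) ↘ Spec (CommRingCat.of k)) :=
    inferInstanceAs (LocallyOfFiniteType (CohB1.ProjSpace.toSpec 3 k))
  set ξ := D.subschemeι (genericPoint ↥D.subscheme) with hξ
  have h1 := DimSch.localDim_eq k ξ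
  have h2 := DimSch.localDim_eq_of_irreducible k ξ
  have h3 := DimSch.topologicalKrullDim_eq_trd k (X := CohB1.ProjSpace 3 k)
  have h4 := K711.ProjDim.topologicalKrullDim_projSpace 3 k
  have h5 := K426.DimKit.dim_closure k (CohB1.ProjSpace 3 k) ξ
  have h6 : closure {ξ} = Set.range D.subschemeι := by
    rw [hξ, ← Set.image_singleton, D.subschemeι.isClosedEmbedding.isClosedMap.closure_image_eq_of_continuous
      D.subschemeι.continuous, genericPoint_closure, Set.image_univ]
  have h7 : topologicalKrullDim (closure {ξ} : Set (CohB1.ProjSpace 3 k)) = 2 := by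
    rw [h6, ← hdim]
    exact (IsHomeomorph.topologicalKrullDim_eq _
      (D.subschemeι.isClosedEmbedding.isEmbedding.toHomeomorph.isHomeomorph)).symm
  rw [h7] at h5
  rw [h2, ← h3, h4, ← h5] at h1
  have h8 := h1.symm
  generalize ringKrullDim ((CohB1.ProjSpace 3 k).presheaf.stalk ξ) = r at h8 ⊢
  induction r with
  | bot => simp at h8
  | coe r =>
    induction r with
    | top => exact absurd h8 (by decide)
    | coe r =>
      have h9 : ((r + 2 : ℕ) : WithBot ℕ∞) = ((3 : ℕ) : WithBot ℕ∞) := h8
      have h10 : r + 2 = 3 := by exact_mod_cast h9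
      have h11 : r = 1 := by omega
      subst h11
      rfl

/-- The ideal of an integral surface in `P³` is invertible. -/
theorem isInvertible_idealMod (D : (CohB1.ProjSpace 3 k).IdealSheafData) [IsIntegral D.subscheme]
    (hdim : topologicalKrullDim D.subscheme = 2) : PicF.IsInvertible (ClSub.idealMod D) := by
  refine Dix.IdealModCartier.isInvertible_idealMod (S1684.result _ D (ringKrullDim_stalk k D hdim) fun x _ => ?_)
  have := Sga5.ProjReg.isRegularLocalRing_stalk 3 k x
  exact S2821.result _

theorem mc_twist (m n : ℤ) : mc (T k m) * mc (T k n) = mc (T k (m + n)) :=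
  (mc_eq_iff _ _).2 (Sga67.TwistProj.nonempty_mul 3 k m n)

theorem hasBases (m : ℤ) : TensCoh.HasBases (T k m) :=
  CohqB.PullTwist471.hasBases_of_isInvertible (FormalB.TwistGen.isInvertible_twistProjSpace 3 k m)

variable {k}
variable {X : Scheme.{u}} [X.Over (Spec (CommRingCat.of k))] [IsIntegral X] (hdim : topologicalKrullDim X = 2)
    (ι : X ⟶ CohB1.ProjSpace 3 k) [IsClosedImmersion ι]

include hdim in
theorem exists_twist : ∃ e : ℤ, Nonempty (ClSub.idealMod ι.ker ≅ T k (-e)) := by
  have h1 : IsIntegral ι.ker.subscheme := K427.EulerClosed.isIntegral_ker_subscheme ι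
  have h2 : topologicalKrullDim ι.ker.subscheme = 2 := by
    rw [← hdim]
    have : IsIso ι.toImage := inferInstance
    exact (IsHomeomorph.topologicalKrullDim_eq _ ι.toImage.homeomorph.isHomeomorph).symm
  obtain ⟨d, h3⟩ := S1697.result k 3 _ (isInvertible_idealMod k ι.ker h2)
  exact ⟨-d, by rwa [neg_neg]⟩

end K802.Hyp3
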