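import Groth.Agent.AdjLin.K802.Hyp3
import Groth.Agent.AdjLin.K802.CBTwist
import Groth.Agent.Surf.K464.Ample
import Groth.Agent.Surf.K461.SerreDual
import Groth.Agent.ArSurf.K480.GGCurve
import Groth.Agent.CohqA.AffPush

/-!
# The canonical module of a smooth surface of degree `d` in `P³` is `O(d - 4)`
-/

set_option autoImplicit false
universe u

open CategoryTheory CategoryTheory.Limits AlgebraicGeometry Opposite TopologicalSpace

open Groth.Agent Groth.Agent.VarietyB Groth.Agent.VarietyA.EulerLES Groth.Agent.Fga.PicMon K802.Hyp3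
  Groth.Agent.Grpsch.PicGrp

namespace K802.HypCanon

variable {k : Type u} [Field k] {X : Scheme.{u}} [X.Over (Spec (CommRingCat.of k))] [IsIntegral X]
    (ι : X ⟶ CohB1.ProjSpace 3 k) [IsClosedImmersion ι]

/-- The twists of `X`. -/
noncomputable abbrev O (m : ℤ) : X.Modules := (Scheme.Modules.pullback ι).obj (T k m)

omit [X.Over (Spec (CommRingCat.of k))] [IsIntegral X] [IsClosedImmersion ι] in
theorem isInvertible_O (m : ℤ) : PicF.IsInvertible (O ι m) := TwistP.isInvertible ι m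

omit [X.Over (Spec (CommRingCat.of k))] [IsIntegral X] [IsClosedImmersion ι] in
theorem mc_O (m n : ℤ) : mc (O ι m) * mc (O ι n) = mc (O ι (m + n)) :=
  (mc_eq_iff _ _).2 (TwistP.nonempty_mul ι m n _ rfl)

omit [X.Over (Spec (CommRingCat.of k))] [IsIntegral X] [IsClosedImmersion ι] in
theorem mc_O_zero : mc (O ι 0) = 1 := by
  obtain ⟨e⟩ := Ega2.TwistInv.nonempty_unit_iso (CohB1.polyGrading 3 k)
  exact (mc_eq_iff _ _).2 ⟨(Scheme.Modules.pullback ι).mapIso e.symm ≪≫ CurvesA.HHMap.pullbackUnit ι⟩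

omit [X.Over (Spec (CommRingCat.of k))] [IsIntegral X] in
/-- The restriction sequence. -/
theorem exists_seq (e m : ℤ) (he : Nonempty (ClSub.idealMod ι.ker ≅ T k (-e))) :
    ∃ S : ShortComplex (P3 k).Modules, S.ShortExact ∧ Nonempty (S.X₁ ≅ T k (m - e)) ∧
      Nonempty (S.X₂ ≅ T k m) ∧ Nonempty (S.X₃ ≅ (Scheme.Modules.pushforward ι).obj (O ι m)) := by
  refine ⟨RestrSeq.restrSeq (hasBases k m) ι.ker, RestrSeq.restrSeq_shortExact (hasBases k m) ι.ker,
    ?_, ⟨Iso.refl _⟩, ?_⟩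
  · refine (mc_eq_iff _ _).1 ?_
    change mc (CohB1.tensorMod (T k m) (ClSub.idealMod ι.ker)) = _
    rw [mc_tensor, (mc_eq_iff _ _).2 he, mc_twist, sub_eq_add_neg]
  · have hu : ι.toImage ≫ ι.ker.subschemeι = ι := ι.toImage_imageι
    let q : X ≅ ι.ker.subscheme := asIso ι.toImage
    change Nonempty ((Scheme.Modules.pushforward ι.ker.subschemeι).obj
      ((Scheme.Modules.pullback ι.ker.subschemeι).obj (T k m)) ≅ _)
    refine ⟨(Scheme.Modules.pushforward ι.ker.subschemeι).mapIso (CurvesC.DegIso.unitIso q _) ≪≫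
      (Scheme.Modules.pushforwardComp q.hom ι.ker.subschemeι).app _ ≪≫
      (Scheme.Modules.pushforwardCongr hu).app _ ≪≫
      (Scheme.Modules.pushforward ι).mapIso ((Scheme.Modules.pullbackComp q.hom ι.ker.subschemeι).app _ ≪≫
        (Scheme.Modules.pullbackCongr hu).app _)⟩

theorem isProper_proj : IsProper ((P3 k) ↘ Spec (CommRingCat.of k)) :=
  inferInstanceAs (IsProper (CohB1.ProjSpace.toSpec 3 k))

/-- The Euler characteristics of the twists of `P³`. -/
theorem euler_T (m : ℤ) : Curv2.euler k (P3 k) (T k m) = Ring.choose (m + 3) 3 := by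
  have := isProper_proj (k := k)
  rw [← Fga.IntAdd.eulerCharLE_eq k (P3 k) 3 (K711.ProjDim.topologicalKrullDim_projSpace 3 k).le]
  exact S4466.result k 3 (by norm_num) m

variable (hι : ι ≫ CohB1.ProjSpace.toSpec 3 k = X ↘ (Spec (CommRingCat.of k)))

include hι in
omit [IsIntegral X] in
theorem isProper_X : IsProper (X ↘ Spec (CommRingCat.of k)) := by
  have := isProper_proj (k := k)
  rw [← hι]
  infer_instance

include hι in
omit [IsIntegral X] in
theorem euler_O (e m : ℤ) (he : Nonempty (ClSub.idealMod ι.ker ≅ T k (-e))) :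
    Curv2.euler k X (O ι m) = Ring.choose (m + 3) 3 - Ring.choose (m - e + 3) 3 := by
  have := isProper_proj (k := k)
  have hN : IsNoetherian (P3 k) := CurvesB.CurveRR.isNoetherian_of_proper k (P3 k)
  obtain ⟨S, hS, ⟨e₁⟩, ⟨e₂⟩, ⟨e₃⟩⟩ := exists_seq ι e m he
  have hT : ∀ j : ℤ, Coh.IsCoh (T k j) := fun j =>
    K464.Base.isCoh_of_isInvertible k (P3 k) (FormalB.TwistGen.isInvertible_twistProjSpace 3 k j)
  have hXp := isProper_X ι hι
  have hOc : Coh.IsCoh (O ι m) := K464.Base.isCoh_of_isInvertible k X (isInvertible_O ι m)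
  have h1 : Coh.IsCoh S.X₁ := CohqB.LocalQC.isCoh_of_iso e₁.symm (hT _)
  have h2 : Coh.IsCoh S.X₂ := CohqB.LocalQC.isCoh_of_iso e₂.symm (hT _)
  have h3 : Coh.IsCoh S.X₃ := CohqB.LocalQC.isCoh_of_iso e₃.symm ⟨CohqA.AffPush.isQCoh_push ι _ hOc.1, CohqA.AffPush.isFT_push ι _ hOc.1 hOc.2⟩
  have h := K458.Ip.euler_add k (P3 k) hS h1 h2 h3
  rw [CurvesC.DegIso.euler_congr k e₁, CurvesC.DegIso.euler_congr k e₂, CurvesC.DegIso.euler_congr k e₃,
    CurvesC.DegIso.euler_push k ι hι, euler_T, euler_T] at h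
  rw [h]
  ring

include hι in
omit [IsIntegral X] in
/-- `h²(O_X(e - 4)) ≠ 0`. -/
theorem h2_ne (e : ℤ) (he : Nonempty (ClSub.idealMod ι.ker ≅ T k (-e))) (he1 : 1 ≤ e) :
    ¬ Subsingleton (Coh.HH X (O ι (e - 4)) 2) := by
  intro hcon
  obtain ⟨S, hS, ⟨e₁⟩, ⟨e₂⟩, ⟨e₃⟩⟩ := exists_seq ι e (e - 4) he
  have h1 := exactA₁ k _ hS 2 3 rfl
  have h2 : Subsingleton (Coh.HH (P3 k) S.X₂ 3) :=
    have := S0844.result k 3 (e - 4) 3 (by omega) (by push_cast; omega)
    (equivA k e₂ 3).toEquiv.subsingleton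
  have h3 : Subsingleton (Coh.HH (P3 k) S.X₃ 2) :=
    have : Subsingleton (Coh.HH (P3 k) ((Scheme.Modules.pushforward ι).obj (O ι (e - 4))) 2) :=
      (CurvesC.CurveNum.hhPushₗ k ι hι (O ι (e - 4)) 2).symm.toEquiv.subsingleton
    (equivA k e₃ 2).toEquiv.subsingleton
  have h4 : Subsingleton (Coh.HH (P3 k) S.X₁ 3) := by
    refine subsingleton_of_forall_eq 0 fun y => ?_
    obtain ⟨x, rfl⟩ := (h1 y).1 (Subsingleton.elim _ _)
    rw [show x = 0 from Subsingleton.elim _ _, map_zero]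
  have h5 : Module.finrank k (Coh.HH (P3 k) S.X₁ 3) = 0 := Module.finrank_zero_of_subsingleton
  rw [(equivA k e₁ 3).finrank_eq] at h5
  obtain ⟨q⟩ := S0845.result k 3 0
  have h6 : e - 4 - e = -(((3 : ℕ) : ℤ) + 1 + ((0 : ℕ) : ℤ)) := by push_cast; ring
  rw [h6, q.finrank_eq, K581.HomDim.finrank_homogeneous k 3 0] at h5
  simp at h5

theorem six_choose (x : ℤ) : 6 * Ring.choose x 3 = x * (x - 1) * (x - 2) := by
  have h := Ring.descPochhammer_eq_factorial_smul_choose x 3
  have h2 : (3 : ℕ).factorial = 6 := rfl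
  rw [h2] at h
  have h3 : (6 : ℕ) • Ring.choose x 3 = 6 * Ring.choose x 3 := by simp
  have h4 : (descPochhammer ℤ 3).smeval x = x * ((x - 1) * (x - 1 - 1)) := by
    simp [descPochhammer, Polynomial.smeval_mul, Polynomial.smeval_X, Polynomial.smeval_sub]
  rw [← h3, ← h, h4]
  ring

include hι in
omit [IsIntegral X] in
theorem six_euler_O (e m : ℤ) (he : Nonempty (ClSub.idealMod ι.ker ≅ T k (-e))) :
    6 * Curv2.euler k X (O ι m) = (m + 3) * (m + 2) * (m + 1) - (m - e + 3) * (m - e + 2) * (m - e + 1) := by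
  rw [euler_O ι hι e m he, mul_sub, six_choose, six_choose]
  ring

omit [IsIntegral X] [IsClosedImmersion ι] in
theorem euler_unit : Curv2.euler k X (Coh.structureModule X) = Curv2.euler k X (O ι 0) := by
  obtain ⟨i⟩ := (mc_eq_iff _ _).1 (mc_O_zero ι)
  exact (CurvesC.DegIso.euler_congr k i).symm

include hι in
omit [IsIntegral X] in
/-- The self-intersection of the hyperplane class. -/
theorem intNum_eq (hdim : topologicalKrullDim X = 2) (e : ℤ)
    (he : Nonempty (ClSub.idealMod ι.ker ≅ T k (-e))) :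
    FGA.intNum k X 2 ![O ι (-1), O ι (-1)] (Coh.structureModule X) = e := by
  have := isProper_X ι hι
  rw [K464.Base.intNum_two k X hdim.le, euler_unit ι]
  obtain ⟨i⟩ := (mc_eq_iff _ _).1 (mc_O ι (-1) (-1))
  rw [CurvesC.DegIso.euler_congr k i]
  have h0 := six_euler_O ι hι e 0 he
  have h1 := six_euler_O ι hι e (-1) he
  have h2 := six_euler_O ι hι e (-1 + -1) he
  linarith

omit [IsIntegral X] in
/-- Serre duality for Euler characteristics on a surface. -/
theorem euler_dual [IsProper (X ↘ Spec (CommRingCat.of k))]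
    [SmoothOfRelativeDimension 2 (X ↘ Spec (CommRingCat.of k))] (hdim : topologicalKrullDim X = 2)
    {W : X.Modules} (hW : ExtPow.IsExtPow 2 (Omega.sheaf (X ↘ Spec (CommRingCat.of k))) W)
    {L L' : X.Modules} (hL : PicF.IsInvertible L)
    (e : Nonempty (CohB1.tensorMod L L' ≅ Coh.structureModule X)) :
    Curv2.euler k X (CohB1.tensorMod W L') = Curv2.euler k X L := by
  have hq : Coh.IsQCoh L := (K464.Base.isCoh_of_isInvertible k X hL).1
  rw [← Fga.IntAdd.eulerCharLE_eq k X 2 hdim.le, ← Fga.IntAdd.eulerCharLE_eq k X 2 hdim.le]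
  unfold FGA.eulerCharLE
  have h0 := K461.SerreDual.finrank_eq k 2 hW e hq 0 2 rfl
  have h1 := K461.SerreDual.finrank_eq k 2 hW e hq 1 1 rfl
  have h2 := K461.SerreDual.finrank_eq k 2 hW e hq 2 0 rfl
  rw [Finset.sum_range_succ, Finset.sum_range_succ, Finset.sum_range_succ, Finset.sum_range_zero,
    Finset.sum_range_succ, Finset.sum_range_succ, Finset.sum_range_succ, Finset.sum_range_zero,
    h0, h1, h2]
  ring

omit [IsIntegral X] in
/-- A module with nonzero `H⁰` has a nonzero section. -/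
theorem exists_section {N : X.Modules} (h : ¬ Subsingleton (Coh.HH X N 0)) :
    ∃ s : Coh.structureModule X ⟶ N, s ≠ 0 := by
  by_contra hcon
  push Not at hcon
  have h3 : Subsingleton Γ(N, ⊤) := by
    refine subsingleton_of_forall_eq 0 fun m => ?_
    have h4 := hcon (Fdesc.LocGen.homOf m)
    have h5 := Fdesc.LocGen.sec_homOf m ⊤
    rw [h4, Fdesc.LocGen.res_refl] at h5
    exact h5.symm
  exact h (CurvesB.HZero.equivAdd N).toEquiv.subsingleton

include hι in
/-- **The canonical module of a smooth surface of degree `d` in `P³`.** -/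
theorem nonempty_iso [Smooth (X ↘ (Spec (CommRingCat.of k)))] (hdim : topologicalKrullDim X = 2)
    (d : ℤ) (hd : FGA.intNum k X 2 ![O ι (-1), O ι (-1)] (Coh.structureModule X) = d)
    {ω : X.Modules} (hω : ExtPow.IsExtPow 2 (Omega.sheaf (X ↘ (Spec (CommRingCat.of k)))) ω) :
    Nonempty (ω ≅ O ι (d - 4)) := by
  have := isProper_X ι hι
  have hsm : SmoothOfRelativeDimension 2 (X ↘ (Spec (CommRingCat.of k))) :=
    Picfga.CurveRelDim.smoothOfRelativeDimension_of_topologicalKrullDim_eq k X _ 2 hdim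
  obtain ⟨e, he⟩ := exists_twist hdim ι
  have h1 := intNum_eq ι hι hdim e he
  rw [hd] at h1
  subst h1
  have hamp : CohB1.IsAmple (O ι 1) := TwistP.isAmple_one ι
  -- positivity
  have hmm : mk (O ι (-1)) (isInvertible_O ι (-1)) = (mk (O ι 1) (isInvertible_O ι 1))⁻¹ := by
    rw [eq_inv_iff_mul_eq_one, mk_mul_mk, Grpsch.PicGrp.one_def, mk_eq_iff]
    exact (mc_eq_iff _ _).1 (by rw [mc_tensor, mc_O]; exact mc_O_zero ι)
  have hpos : 1 ≤ d := by
    have h2 := K464.Ample.dot_pos_of_ample k hdim (isInvertible_O ι 1) (isInvertible_O ι 1) hamp hamp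
    rw [K464.Base.intNum_eq_dot k X hdim.le (isInvertible_O ι (-1)) (isInvertible_O ι (-1)), hmm,
      K464.Base.dot_inv_inv k X hdim.le] at hd
    omega
  have hωi : PicF.IsInvertible ω := Dual.H328.WUniv.isInvertible_extPow
    (Dual.H339.OmegaRank.isFinLocFreeOfRank_omega 2 (X ↘ (Spec (CommRingCat.of k)))) hω
  -- the difference
  have hN : PicF.IsInvertible (CohB1.tensorMod ω (O ι (4 - d))) :=
    Fdesc.LocGen.isInvertible_tensorMod hωi (isInvertible_O ι _)
  have hinv : ∀ m : ℤ, Nonempty (CohB1.tensorMod (O ι m) (O ι (-m)) ≅ Coh.structureModule X) := fun m =>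
    (mc_eq_iff _ _).1 (by rw [mc_tensor, mc_O, add_neg_cancel, mc_O_zero, mc_one])
  have hne : ¬ Subsingleton (Coh.HH X (CohB1.tensorMod ω (O ι (4 - d))) 0) := by
    intro hs
    have h2 := K461.SerreDual.finrank_eq k 2 hω (L := O ι (d - 4)) (L' := O ι (4 - d))
      (by rw [show (4 - d : ℤ) = -(d - 4) by ring]; exact hinv _)
      (K464.Base.isCoh_of_isInvertible k X (isInvertible_O ι _)).1 0 2 rfl
    have hfin : Module.Finite k (Coh.HH X (O ι (d - 4)) 2) :=
      S0002.result k X _ (K464.Base.isCoh_of_isInvertible k X (isInvertible_O ι _)) 2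
    rw [Module.finrank_zero_of_subsingleton (R := k)
      (M := Coh.HH X (CohB1.tensorMod ω (O ι (4 - d))) 0)] at h2
    exact h2_ne ι hι d he hpos (Module.finrank_zero_iff.1 h2)
  obtain ⟨s, hs⟩ := exists_section hne
  obtain ⟨hD, hDi⟩ := K480.GGCurve.isInverseOf_zeroScheme hN s hs
  set D := PicF2.zeroScheme (CohB1.tensorMod ω (O ι (4 - d))) s with hDdef
  -- numerics
  have hchi0 : Curv2.euler k X (CohB1.tensorMod ω (O ι (4 - d))) =
      Curv2.euler k X (Coh.structureModule X) := by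
    rw [euler_dual hdim hω (isInvertible_O ι (d - 4))
      (by rw [show (4 - d : ℤ) = -(d - 4) by ring]; exact hinv _), euler_unit ι]
    have h2 := six_euler_O ι hι d (d - 4) he
    have h3 := six_euler_O ι hι d 0 he
    have h4 : 6 * Curv2.euler k X (O ι (d - 4)) = 6 * Curv2.euler k X (O ι 0) := by
      rw [h2, h3]; ring
    linarith
  have hchi1 : Curv2.euler k X (CohB1.tensorMod (CohB1.tensorMod ω (O ι (4 - d))) (O ι (-1))) =
      Curv2.euler k X (O ι (-1)) := by
    obtain ⟨i⟩ := (mc_eq_iff (CohB1.tensorMod (CohB1.tensorMod ω (O ι (4 - d))) (O ι (-1)))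
      (CohB1.tensorMod ω (O ι (3 - d)))).1 (by
        rw [mc_tensor, mc_tensor, mc_tensor, mul_assoc, mc_O, show (4 - d + -1 : ℤ) = 3 - d by ring])
    rw [CurvesC.DegIso.euler_congr k i, euler_dual hdim hω (isInvertible_O ι (d - 3))
      (by rw [show (3 - d : ℤ) = -(d - 3) by ring]; exact hinv _)]
    have h2 := six_euler_O ι hι d (d - 3) he
    have h3 := six_euler_O ι hι d (-1) he
    have h4 : 6 * Curv2.euler k X (O ι (d - 3)) = 6 * Curv2.euler k X (O ι (-1)) := by
      rw [h2, h3]; ring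
    linarith
  have hdot : K464.Base.dot k X (mk _ hN) (mk (O ι 1) (isInvertible_O ι 1)) = 0 := by
    have h2 : K464.Base.dot k X (mk _ hN) (mk (O ι (-1)) (isInvertible_O ι (-1))) = 0 := by
      rw [K464.Base.dot_def, mk_mul_mk, K464.Base.chi_mk, K464.Base.chi_mk, K464.Base.chi_mk,
        K464.Base.chi_one, hchi0, hchi1]
      ring
    rw [hmm, K464.Base.dot_inv_right k X hdim.le, neg_eq_zero] at h2
    exact h2
  have hic : K464.Base.ic D hD = (mk _ hN)⁻¹ := by
    rw [eq_comm, inv_eq_iff_mul_eq_one]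
    unfold K464.Base.ic
    rw [mk_mul_mk, Grpsch.PicGrp.one_def, mk_eq_iff]
    exact hDi
  have htop : D = ⊤ := by
    by_contra hne'
    have h2 := K464.Comp.degOn_pos_of_ample_eff k hdim (isInvertible_O ι 1) hamp hD hne'
    rw [K464.Curves.degOn_eq_neg_dot k X hD, hic, K464.Base.dot_inv_left k X hdim.le, hdot] at h2
    simp at h2
  have h5 : (mk _ hN : Pic X) = 1 := by
    rw [← inv_eq_one, ← hic, K464.Base.ic_congr hD Divis.EffCartier.isEff_top htop, K464.Base.ic_top]
  rw [Grpsch.PicGrp.one_def, mk_eq_iff] at h5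
  have h6 : mc ω * mc (O ι (4 - d)) = 1 := (mc_eq_iff _ _).2 h5
  refine (mc_eq_iff _ _).1 ?_
  calc mc ω = mc ω * (mc (O ι (4 - d)) * mc (O ι (d - 4))) := by
        rw [mc_O, show (4 - d + (d - 4) : ℤ) = 0 by ring, mc_O_zero, mul_one]
    _ = (mc ω * mc (O ι (4 - d))) * mc (O ι (d - 4)) := (mul_assoc _ _ _).symm
    _ = mc (O ι (d - 4)) := by rw [h6, one_mul]

end K802.HypCanon
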