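import Groth.Agent.Sga67.LocBasis
import Groth.Agent.AdjLin.K801.Cousin

/-!
# Coordinates of sections with respect to local bases, as rational functions

For a local basis `b` of a module `M` on an integral scheme and a section `s` of `M` over a nonempty open:
`cf hb s i` is the `i`-th coordinate of `s` as a rational function; `cf_trans`: change of local basis.
-/

set_option autoImplicit false
universe u
open CategoryTheory CategoryTheory.Limits AlgebraicGeometry TopologicalSpace Opposite
open Groth.Agent.Sga67.Sec Groth.Agent.Sga67.LocBasis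
open Groth.Agent.Lefpen.H725.CocDef Groth.Agent.Lefpen.H521.CartierCoc K801.Cousin

namespace K802.LocVal

variable {X : Scheme.{u}} [IsIntegral X]

theorem ff_resO {U V : X.Opens} (h : V ≤ U) (hη : genericPoint X ∈ V) (g : Γ(X, U)) :
    ff V hη (resO X h g) = ff U (h hη) g := ff_ores h hη g

theorem mem_inf {U V : X.Opens} (hU : genericPoint X ∈ U) (hV : genericPoint X ∈ V) :
    genericPoint X ∈ U ⊓ V := ⟨hU, hV⟩

variable {M : X.Modules} {κ : Type*} [Fintype κ] {U : X.Opens} {b : κ → Sec M U}

/-- The coordinates over `W ⊓ U`. -/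
noncomputable def co (hb : IsLocBasis b) {W : X.Opens} (s : Sec M W) : κ → Γ(X, W ⊓ U) :=
  ((hb (W ⊓ U) inf_le_right).2 (res M inf_le_left s)).choose

theorem co_spec (hb : IsLocBasis b) {W : X.Opens} (s : Sec M W) :
    comb b inf_le_right (co hb s) = res M inf_le_left s :=
  ((hb (W ⊓ U) inf_le_right).2 (res M inf_le_left s)).choose_spec

/-- The coordinates of a section as rational functions. -/
noncomputable def cf (hb : IsLocBasis b) (hU : genericPoint X ∈ U) {W : X.Opens}
    (hW : genericPoint X ∈ W) (s : Sec M W) : κ → X.functionField :=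
  fun i => ff (W ⊓ U) (mem_inf hW hU) (co hb s i)

theorem cf_eq (hb : IsLocBasis b) (hU : genericPoint X ∈ U) {W : X.Opens}
    (hW : genericPoint X ∈ W) (s : Sec M W) {V : X.Opens} (hVW : V ≤ W) (hVU : V ≤ U)
    (hV : genericPoint X ∈ V) (a : κ → Γ(X, V)) (ha : comb b hVU a = res M hVW s) (i : κ) :
    cf hb hU hW s i = ff V hV (a i) := by
  have h1 := congrArg (res M (le_inf hVW hVU)) (co_spec hb s)
  rw [res_comb, res_res] at h1
  have h2 := (hb V hVU).1 (h1.trans ha.symm)
  have h3 := congrFun h2 i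
  rw [← h3, ff_resO]
  rfl

theorem cf_add (hb : IsLocBasis b) (hU : genericPoint X ∈ U) {W : X.Opens}
    (hW : genericPoint X ∈ W) (s t : Sec M W) (i : κ) :
    cf hb hU hW (s + t) i = cf hb hU hW s i + cf hb hU hW t i := by
  have h := cf_eq hb hU hW (s + t) inf_le_left inf_le_right (mem_inf hW hU)
    (co hb s + co hb t) (by rw [map_add, co_spec, co_spec, map_add]) i
  rw [h, Pi.add_apply, map_add]
  rfl

theorem cf_smul (hb : IsLocBasis b) (hU : genericPoint X ∈ U) {W : X.Opens}
    (hW : genericPoint X ∈ W) (g : Γ(X, W)) (s : Sec M W) (i : κ) :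
    cf hb hU hW (g • s) i = ff W hW g * cf hb hU hW s i := by
  have h := cf_eq hb hU hW (g • s) inf_le_left inf_le_right (mem_inf hW hU)
    (resO X inf_le_left g • co hb s) (by rw [map_smul, co_spec, res_smul]) i
  rw [h, Pi.smul_apply, smul_eq_mul, map_mul, ff_resO]
  rfl

theorem cf_res (hb : IsLocBasis b) (hU : genericPoint X ∈ U) {W V : X.Opens}
    (hV : genericPoint X ∈ V) (h : V ≤ W) (s : Sec M W) (i : κ) :
    cf hb hU hV (res M h s) i = cf hb hU (h hV) s i := by
  have h1 := cf_eq hb hU hV (res M h s) inf_le_left inf_le_right (mem_inf hV hU)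
    (fun i => resO X (inf_le_inf_right U h) (co hb s i)) (by
      rw [← res_comb b inf_le_right (inf_le_inf_right U h), co_spec, res_res, res_res]) i
  rw [h1, ff_resO]
  rfl

theorem cf_mem (hb : IsLocBasis b) (hU : genericPoint X ∈ U) {W : X.Opens}
    (hW : genericPoint X ∈ W) (s : Sec M W) (i : κ) {x : X} (hxU : x ∈ U) (hxW : x ∈ W) :
    cf hb hU hW s i ∈ Ox x :=
  (regAt_iff _ _).1 ⟨W ⊓ U, ⟨hxW, hxU⟩, mem_inf hW hU, _, rfl⟩

theorem res_eq_zero (hb : IsLocBasis b) (hU : genericPoint X ∈ U) {W : X.Opens}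
    (hW : genericPoint X ∈ W) (s : Sec M W) (h : ∀ i, cf hb hU hW s i = 0) :
    res M (inf_le_left : W ⊓ U ≤ W) s = 0 := by
  have h1 : co hb s = 0 := by
    funext i
    apply ff_injective (W ⊓ U) (mem_inf hW hU)
    rw [Pi.zero_apply, map_zero]
    exact h i
  rw [← co_spec hb s, h1, map_zero]

/-- Change of the local basis. -/
theorem cf_trans (hb : IsLocBasis b) (hU : genericPoint X ∈ U) {κ' : Type*} [Fintype κ']
    {U' : X.Opens} {b' : κ' → Sec M U'} (hb' : IsLocBasis b') (hU' : genericPoint X ∈ U')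
    {W : X.Opens} (hW : genericPoint X ∈ W) (s : Sec M W) {V : X.Opens} (hVU : V ≤ U) (hVU' : V ≤ U')
    (hV : genericPoint X ∈ V) (H : κ → κ' → Γ(X, V))
    (hH : ∀ i, res M hVU (b i) = ∑ j, H i j • res M hVU' (b' j)) (j : κ') :
    cf hb' hU' hW s j = ∑ i, cf hb hU hW s i * ff V hV (H i j) := by
  have k1 : W ⊓ V ≤ W ⊓ U := inf_le_inf_left W hVU
  have k2 : W ⊓ V ≤ V := inf_le_right
  have h1 := cf_eq hb' hU' hW s (V := W ⊓ V) inf_le_left (inf_le_right.trans hVU') (mem_inf hW hV)
    (fun j => ∑ i, resO X k1 (co hb s i) * resO X k2 (H i j)) (by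
      have h2 := congrArg (res M k1) (co_spec hb s)
      rw [res_comb, res_res] at h2
      rw [← h2, comb_apply, comb_apply]
      have h3 : ∀ i, res M (k1.trans inf_le_right) (b i) =
          ∑ j, resO X k2 (H i j) • res M (k2.trans hVU') (b' j) := by
        intro i
        have h4 := congrArg (res M k2) (hH i)
        rw [res_res, map_sum] at h4
        rw [h4]
        refine Finset.sum_congr rfl fun j _ => ?_
        rw [res_smul, res_res]
      simp only [h3]
      simp only [Finset.sum_smul, Finset.smul_sum, smul_smul]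
      rw [Finset.sum_comm]) j
  rw [h1, map_sum]
  refine Finset.sum_congr rfl fun i _ => ?_
  rw [map_mul, ff_resO, ff_resO]
  rfl

end K802.LocVal
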