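import Groth.Agent.AdjLin.K802.RankSum
import Groth.Agent.AdjLin.K802.BundleCrit
import Groth.Agent.AdjLin.K802.SurfBase
import Groth.Agent.Sga2.LefPow644
import Groth.Agent.S1524

/-!
# The quotient of two ideals of finite colength
-/

set_option autoImplicit false

namespace K802.QuotDim

universe u

open CategoryTheory CategoryTheory.Limits AlgebraicGeometry TopologicalSpace
open Groth.Agent

section Support

variable {X : Scheme.{u}}

theorem support_subset_of_isZero (U : X.Opens) {M : X.Modules}
    (h0 : IsZero ((Scheme.Modules.restrictFunctor U.ι).obj M)) :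
    CohB1.support M ⊆ (U : Set X)ᶜ := by
  intro x hx hxU
  have key : ∀ s : M.presheaf.stalk x, s = 0 := by
    intro s
    obtain ⟨V, hV, t, rfl⟩ := TopCat.Presheaf.exists_germ_eq M.presheaf s
    have hle : U.ι ''ᵁ (U.ι ⁻¹ᵁ V) ≤ V := by
      rw [Scheme.Hom.image_preimage_eq_opensRange_inf]
      exact inf_le_right
    have hy : x ∈ U.ι ''ᵁ (U.ι ⁻¹ᵁ V) := ⟨⟨x, hxU⟩, hV, rfl⟩
    have h1 : M.presheaf.map (homOfLE hle).op t = 0 := by
      have h2 : 𝟙 ((Scheme.Modules.restrictFunctor U.ι).obj M) = 0 := h0.eq_of_src _ _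
      exact congr(($h2).app (U.ι ⁻¹ᵁ V) (M.presheaf.map (homOfLE hle).op t))
    rw [← TopCat.Presheaf.germ_res_apply M.presheaf (homOfLE hle) x hy t, h1, map_zero]
  exact hx ⟨fun a b => (key a).trans (key b).symm⟩

theorem support_cokernel_subset {I I' : X.IdealSheafData} (hle : I ≤ I')
    (φ : ClSub.idealMod I ⟶ ClSub.idealMod I') (hφ : φ ≫ ClSub.idealModι I' = ClSub.idealModι I) :
    CohB1.support (cokernel φ) ⊆ (I.support : Set X) := by
  let U : X.Opens := ⟨(I.support : Set X)ᶜ, I.support.isClosed.isOpen_compl⟩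
  have hU : ∀ x ∈ U, x ∉ I.support := fun x hx => hx
  have hU' : ∀ x ∈ U, x ∉ I'.support :=
    fun x hx hx' => hU x hx (Scheme.IdealSheafData.support_antitone hle hx')
  have h1 := UnitIso.isIso_restrict_idealModι U I hU
  have h2 := UnitIso.isIso_restrict_idealModι U I' hU'
  have h3 : IsIso ((Scheme.Modules.restrictFunctor U.ι).map φ) := by
    have h4 : (Scheme.Modules.restrictFunctor U.ι).map φ ≫
        (Scheme.Modules.restrictFunctor U.ι).map (ClSub.idealModι I') =
          (Scheme.Modules.restrictFunctor U.ι).map (ClSub.idealModι I) := by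
      rw [← Functor.map_comp, hφ]
    have h5 : IsIso ((Scheme.Modules.restrictFunctor U.ι).map φ ≫
        (Scheme.Modules.restrictFunctor U.ι).map (ClSub.idealModι I')) := by rw [h4]; exact h1
    exact IsIso.of_isIso_comp_right _ ((Scheme.Modules.restrictFunctor U.ι).map (ClSub.idealModι I'))
  have hm : Mono φ := by
    have := PerfA.IdealModule.mono_idealModι I
    have h4 : Mono (φ ≫ ClSub.idealModι I') := by rw [hφ]; infer_instance
    exact mono_of_mono φ (ClSub.idealModι I')
  have hS : (ShortComplex.mk φ (cokernel.π φ) (cokernel.condition φ)).ShortExact :=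
    { exact := ShortComplex.exact_cokernel φ }
  have hS' := BundleCrit.restrict_shortExact U hS
  have h6 : IsZero ((Scheme.Modules.restrictFunctor U.ι).obj (cokernel φ)) := by
    have h7 : IsIso ((ShortComplex.mk φ (cokernel.π φ) (cokernel.condition φ)).map
        (Scheme.Modules.restrictFunctor U.ι)).f := h3
    exact hS'.isIso_f_iff.1 h7
  intro x hx
  by_contra hx'
  exact support_subset_of_isZero U h6 hx hx'

end Support

section Euler

variable (k : Type u) [Field k] {X : Scheme.{u}} [X.Over (Spec (CommRingCat.of k))]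
  [IsProper (X ↘ (Spec (CommRingCat.of k)))]

/-- The Euler characteristic of `I ⊗ N`. -/
theorem euler_idealMod {N : X.Modules} (hN : PicF.IsInvertible N) [(DCoh.tensorRightMod N).IsEquivalence]
    (I : X.IdealSheafData) (hdimI : topologicalKrullDim (I.support : Set X) ≤ 0) :
    Curv2.euler k X (CohB1.tensorMod (Coh.structureModule X) N) =
      Curv2.euler k X (CohB1.tensorMod (ClSub.idealMod I) N) +
        (Module.finrank k (Coh.HH X (ClSub.quotMod I) 0) : ℤ) := by
  have hX := SurfBase.isNoetherian (X ↘ (Spec (CommRingCat.of k)))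
  have h1 : ((VarietyB.DegCartier.idealSeq I).map (DCoh.tensorRightMod N)).ShortExact :=
    (VarietyB.DegCartier.idealSeq_shortExact I).map_of_exact _
  have h2 := S1524.result k X _ h1
    (Fga.TwistCoh.isCoh_tensor (VarietyB.DegCartier.isCoh_idealMod I) hN)
    (Fga.TwistCoh.isCoh_tensor (CurvesB.UnitCoh.isCoh_structureModule X) hN)
    (Fga.TwistCoh.isCoh_tensor (VarietyB.DegCartier.isCoh_quotMod I) hN)
  have h3 : Curv2.euler k X (CohB1.tensorMod (ClSub.quotMod I) N) =
      (Module.finrank k (Coh.HH X (ClSub.quotMod I) 0) : ℤ) := by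
    rw [VarietyA.EulerFinite.euler_eq_of_vanish k X _
      fun i hi => CurvesB.TwistIdeal.subsingleton_tensor k hN I hdimI i hi,
      CurvesB.TwistIdeal.finrank_tensor k hN I hdimI]
  rw [← h3]
  exact h2

/-- The dimension of the sections of `(I' / I) ⊗ N`. -/
theorem finrank_quotient {N : X.Modules} (hN : PicF.IsInvertible N) [(DCoh.tensorRightMod N).IsEquivalence]
    {I I' : X.IdealSheafData} (hle : I ≤ I') (hfin : (I.support : Set X).Finite)
    (φ : ClSub.idealMod I ⟶ ClSub.idealMod I') (hφ : φ ≫ ClSub.idealModι I' = ClSub.idealModι I) :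
    (Module.finrank k (Coh.HH X (CohB1.tensorMod (cokernel φ) N) 0) : ℤ) +
      (Module.finrank k (Coh.HH X (ClSub.quotMod I') 0) : ℤ) =
        (Module.finrank k (Coh.HH X (ClSub.quotMod I) 0) : ℤ) := by
  have hX := SurfBase.isNoetherian (X ↘ (Spec (CommRingCat.of k)))
  have hJ : JacobsonSpace X := LocallyOfFiniteType.jacobsonSpace (X ↘ (Spec (CommRingCat.of k)))
  have hfin' : (I'.support : Set X).Finite := hfin.subset (Scheme.IdealSheafData.support_antitone hle)
  have hZ : topologicalKrullDim (I.support : Set X) ≤ 0 :=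
    CycB.DegSky.dim_support_le_zero hfin fun x hx => GoodPoint.isClosed_of_finite I.support.isClosed hfin hx
  have hZ' : topologicalKrullDim (I'.support : Set X) ≤ 0 :=
    CycB.DegSky.dim_support_le_zero hfin'
      fun x hx => GoodPoint.isClosed_of_finite I'.support.isClosed hfin' hx
  have e1 := euler_idealMod k hN I hZ
  have e2 := euler_idealMod k hN I' hZ'
  have hm : Mono φ := by
    have := PerfA.IdealModule.mono_idealModι I
    have h4 : Mono (φ ≫ ClSub.idealModι I') := by rw [hφ]; infer_instance
    exact mono_of_mono φ (ClSub.idealModι I')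
  have hS : (ShortComplex.mk φ (cokernel.π φ) (cokernel.condition φ)).ShortExact :=
    { exact := ShortComplex.exact_cokernel φ }
  have hQ : Coh.IsCoh (cokernel φ) := CycB.CohProp.isCoh_cokernel φ
    (VarietyB.DegCartier.isCoh_idealMod I) (VarietyB.DegCartier.isCoh_idealMod I')
  have h1 : ((ShortComplex.mk φ (cokernel.π φ) (cokernel.condition φ)).map
      (DCoh.tensorRightMod N)).ShortExact := hS.map_of_exact _
  have e3 := S1524.result k X _ h1
    (Fga.TwistCoh.isCoh_tensor (VarietyB.DegCartier.isCoh_idealMod I) hN)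
    (Fga.TwistCoh.isCoh_tensor (VarietyB.DegCartier.isCoh_idealMod I') hN)
    (Fga.TwistCoh.isCoh_tensor hQ hN)
  change Curv2.euler k X (CohB1.tensorMod (ClSub.idealMod I') N) =
    Curv2.euler k X (CohB1.tensorMod (ClSub.idealMod I) N) +
      Curv2.euler k X (CohB1.tensorMod (cokernel φ) N) at e3
  have hsub : CohB1.support (CohB1.tensorMod (cokernel φ) N) ⊆ (I.support : Set X) :=
    (Fga.TwistCoh.support_tensor_subset hN).trans (support_cokernel_subset hle φ hφ)
  have hd : topologicalKrullDim (CohB1.support (CohB1.tensorMod (cokernel φ) N)) ≤ 0 :=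
    CycB.DegSky.dim_support_le_zero (hfin.subset hsub)
      fun x hx => GoodPoint.isClosed_of_finite I.support.isClosed hfin (hsub hx)
  have e4 : Curv2.euler k X (CohB1.tensorMod (cokernel φ) N) =
      (Module.finrank k (Coh.HH X (CohB1.tensorMod (cokernel φ) N) 0) : ℤ) :=
    VarietyA.EulerFinite.euler_eq_of_vanish k X _
      fun i hi => S1526.result k X _ (Fga.TwistCoh.isCoh_tensor hQ hN) hd i hi
  rw [← e4]
  omega

end Euler

end K802.QuotDim
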