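import Groth.Agent.AdjLin.K802.EvalDim
import Groth.Agent.AdjLin.K802.GoodPoint
import Groth.Agent.AdjLin.K802.GorensteinPairing
import Groth.Agent.AdjLin.K802.Nbhd
import Groth.Agent.Ega3B.PullTensor
import Groth.Agent.CycB.DegSky
import Groth.Agent.CurvesB.SubPoint

/-!
# The ranks of evaluation at a Cayley–Bacharach scheme
-/

set_option autoImplicit false

namespace K802.RankSum

universe u

open CategoryTheory AlgebraicGeometry TopologicalSpace
open Groth.Agent Groth.Agent.Fdesc.LocGen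
open K802.EvalMap K802.EvalDim

/-- An element killed by a maximal ideal generates a minimal overideal. -/
theorem covBy_sup_span {A : Type*} [CommRing A] {I m : Ideal A} (hm : m.IsMaximal) {a : A} (ha : a ∉ I)
    (h : ∀ z ∈ m, z * a ∈ I) : I ⋖ I ⊔ Ideal.span {a} := by
  refine ⟨lt_of_le_of_ne le_sup_left fun he => ha ?_, fun K h1 h2 => h2.not_ge ?_⟩
  · rw [he]
    exact (le_sup_right : Ideal.span {a} ≤ _) (Ideal.mem_span_singleton_self a)
  · obtain ⟨b, hbK, hbI⟩ := SetLike.exists_of_lt h1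
    obtain ⟨i, hi, c, hc, rfl⟩ := Submodule.mem_sup.1 (h2.le hbK)
    obtain ⟨c, rfl⟩ := Ideal.mem_span_singleton'.1 hc
    have hcm : c ∉ m := fun hcm => hbI (I.add_mem hi (h c hcm))
    obtain ⟨d, z, hz, hdz⟩ := (Ideal.IsMaximal.exists_inv hm hcm)
    have haK : a ∈ K := by
      have h3 : a = d * (i + c * a) - d * i + z * a := by
        linear_combination -a * hdz
      rw [h3]
      exact K.add_mem (K.sub_mem (K.mul_mem_left _ hbK) (K.mul_mem_left _ (h1.le hi))) (h1.le (h z hz))
    exact sup_le h1.le ((Ideal.span_singleton_le_iff_mem _).2 haK)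

variable (k : Type u) [Field k] {X : Scheme.{u}} [X.Over (Spec (CommRingCat.of k))]

section

attribute [local instance] alg

/-- The Cayley–Bacharach property keeps socle elements out of the image of the evaluation. -/
theorem notMem_range {N : X.Modules} (hN : PicF.IsInvertible N) {I : X.IdealSheafData} {V : X.affineOpens}
    [QuasiCompact (V : X.Opens).ι] (hV : (I.support : Set X) ⊆ (V : X.Opens))
    (hCB : ∀ I' : X.IdealSheafData, I ⋖ I' → ∀ σ : Coh.structureModule X ⟶ N,
      PicF2.zeroScheme N σ ≤ I' → PicF2.zeroScheme N σ ≤ I)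
    {g : Γ(N, (V : X.Opens))} (hg : IsGen g) {s : Γ(X, V) ⧸ I.ideal V} (hs : s ≠ 0)
    {m : Ideal Γ(X, V)} (hm : m.IsMaximal) (hms : ∀ z ∈ m, Ideal.Quotient.mk (I.ideal V) z * s = 0) :
    s ∉ LinearMap.range (rhoLin k I hg) := by
  rintro ⟨x, hx⟩
  obtain ⟨a, rfl⟩ := Ideal.Quotient.mk_surjective s
  have ha : a ∉ I.ideal V := fun h => hs (Ideal.Quotient.eq_zero_iff_mem.2 h)
  have hcov := covBy_sup_span hm ha fun z hz => by
    rw [← Ideal.Quotient.eq_zero_iff_mem, map_mul]
    exact hms z hz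
  obtain ⟨I', hI', hI'V⟩ := SubIdeal.exists_ideal V (I.ideal V ⊔ Ideal.span {a}) le_sup_left
  have hcov' : I ⋖ I' := SubIdeal.covBy_of_covBy_ideal hV hI' (by rw [hI'V]; exact hcov)
  have hσ : sec (homOf (CurvesB.HZero.equivAdd N x)) ⊤ = CurvesB.HZero.equivAdd N x := by
    rw [sec_homOf, res_refl]
  rw [rhoLin_apply, rho_apply] at hx
  have h1 : PicF2.zeroScheme N (homOf (CurvesB.HZero.equivAdd N x)) ≤ I' := by
    rw [zeroScheme_le_iff hN hI' hV hg, hσ, hI'V]
    have h2 := Ideal.Quotient.eq.1 hx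
    have h3 := Ideal.add_mem _ ((le_sup_left : I.ideal V ≤ I.ideal V ⊔ Ideal.span {a}) h2)
      ((le_sup_right : _ ≤ I.ideal V ⊔ Ideal.span {a}) (Ideal.mem_span_singleton_self a))
    rwa [sub_add_cancel] at h3
  have h4 := hCB I' hcov' _ h1
  rw [zeroScheme_le_iff hN le_rfl hV hg, hσ] at h4
  apply hs
  rw [← hx]
  exact Ideal.Quotient.eq_zero_iff_mem.2 h4

/-- Products of values of sections are values of sections of the product. -/
theorem mul_mem_range {L M N : X.Modules} (θ : CohB1.tensorMod L M ≅ N) {I : X.IdealSheafData}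
    {V : X.affineOpens} {e : Γ(L, (V : X.Opens))} (he : IsGen e) {f : Γ(M, (V : X.Opens))} (hf : IsGen f)
    {g : Γ(N, (V : X.Opens))} (hg : IsGen g) (hθ : θ.hom.app V (Ega2.Tens.tmul e f) = g)
    {v w : Γ(X, V) ⧸ I.ideal V} (hv : v ∈ LinearMap.range (rhoLin k I he))
    (hw : w ∈ LinearMap.range (rhoLin k I hf)) : v * w ∈ LinearMap.range (rhoLin k I hg) := by
  obtain ⟨x, rfl⟩ := hv
  obtain ⟨y, rfl⟩ := hw
  refine ⟨(CurvesB.HZero.equivAdd N).symm
    (θ.hom.app ⊤ (Ega2.Tens.tmul (CurvesB.HZero.equivAdd L x) (CurvesB.HZero.equivAdd M y))), ?_⟩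
  rw [rhoLin_apply, rhoLin_apply, rhoLin_apply, rho_apply, rho_apply, rho_apply, ← map_mul,
    AddEquiv.apply_symm_apply, coef_tmul he hf θ.hom hg hθ]

/-- The inequality between the ranks of evaluation. -/
theorem finrank_range_add_le [IsAlgClosed k] [IsProper (X ↘ (Spec (CommRingCat.of k)))]
    [Smooth (X ↘ (Spec (CommRingCat.of k)))] [IrreducibleSpace X] (hdim : topologicalKrullDim X = 2)
    {A : X.Modules} (hA : CohB1.IsAmple A) {L M N : X.Modules} (hL : PicF.IsInvertible L)
    (hM : PicF.IsInvertible M) (hN : PicF.IsInvertible N) (θ : CohB1.tensorMod L M ≅ N)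
    (I : X.IdealSheafData) (hfin : (I.support : Set X).Finite)
    (hlci : ∀ x : X, ∃ V : X.affineOpens, x ∈ (V : X.Opens) ∧
      ∃ a b : Γ(X, V), I.ideal V = Ideal.span {a, b})
    (hCB : ∀ I' : X.IdealSheafData, I ⋖ I' → ∀ σ : Coh.structureModule X ⟶ N,
      PicF2.zeroScheme N σ ≤ I' → PicF2.zeroScheme N σ ≤ I) :
    ((Module.finrank k (Coh.HH X L 0) : ℤ) -
        (Module.finrank k (Coh.HH X (CohB1.tensorMod L (ClSub.idealMod I)) 0) : ℤ)) +
      ((Module.finrank k (Coh.HH X M 0) : ℤ) -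
        (Module.finrank k (Coh.HH X (CohB1.tensorMod M (ClSub.idealMod I)) 0) : ℤ)) ≤
      (Module.finrank k (Coh.HH X (ClSub.quotMod I) 0) : ℤ) := by
  obtain ⟨V, hV, hgen⟩ := Nbhd.exists_affine hA (fun b : Bool => bif b then L else M)
    (by rintro (_ | _); exacts [hM, hL]) hfin
  obtain ⟨e, he⟩ := hgen true
  obtain ⟨f, hf⟩ := hgen false
  change Γ(L, (V : X.Opens)) at e
  change Γ(M, (V : X.Opens)) at f
  change IsGen e at he
  change IsGen f at hf
  have hg : IsGen (θ.hom.app V (Ega2.Tens.tmul e f)) := (Ega3B.PullTensor.isGen_tmul he hf).app θ.hom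
  have hX : LocallyOfFiniteType (X ↘ (Spec (CommRingCat.of k))) := inferInstance
  have : IsLocallyNoetherian X := LocallyOfFiniteType.isLocallyNoetherian (X ↘ (Spec (CommRingCat.of k)))
  have : CompactSpace X := QuasiCompact.compactSpace_of_compactSpace (X ↘ (Spec (CommRingCat.of k)))
  have : IsNoetherian X := { }
  have hfinL : Module.Finite k (Coh.HH X L 0) := S0002.result k X L (CurvesB.SubPoint.isCoh_of_isInvertible hL) 0
  have hfinM : Module.Finite k (Coh.HH X M 0) := S0002.result k X M (CurvesB.SubPoint.isCoh_of_isInvertible hM) 0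
  have hfinQ : Module.Finite k (Coh.HH X (ClSub.quotMod I) 0) :=
    S0002.result k X _ (VarietyB.DegCartier.isCoh_quotMod I) 0
  obtain ⟨h1, h2⟩ := finrank_quot k I hV
  have hfinR := h2 hfinQ
  have hArt : IsArtinianRing (Γ(X, V) ⧸ I.ideal V) := IsArtinianRing.of_finite k _
  obtain ⟨S, hS1, hS2⟩ := SocleFinite.exists_finset (I := I.ideal V)
    (fun m hm _ => GoodPoint.good (X ↘ (Spec (CommRingCat.of k))) hdim I hlci V m hm)
  have key := GorensteinPairing.finrank_add_le_of_notMem S hS2 (LinearMap.range (rhoLin k I hg)) (by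
    intro s hs
    obtain ⟨hs0, m, hm, -, hms⟩ := hS1 s hs
    exact notMem_range k hN hV hCB hg hs0 hm hms)
    (LinearMap.range (rhoLin k I he)) (LinearMap.range (rhoLin k I hf))
    (fun v hv w hw => mul_mem_range k θ he hf hg rfl hv hw)
  have h3 := finrank_range k I hL hV he
  have h4 := finrank_range k I hM hV hf
  rw [← h1]
  omega

end

/-- The Euler characteristic of the structure sheaf of a finite subscheme. -/
theorem eulerCharLE_quotMod [IsProper (X ↘ (Spec (CommRingCat.of k)))] (I : X.IdealSheafData)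
    (hfin : (I.support : Set X).Finite) (n : ℕ) :
    FGA.eulerCharLE k X (ClSub.quotMod I) n = (Module.finrank k (Coh.HH X (ClSub.quotMod I) 0) : ℤ) := by
  have : JacobsonSpace X := LocallyOfFiniteType.jacobsonSpace (X ↘ (Spec (CommRingCat.of k)))
  have hZ : topologicalKrullDim (I.support : Set X) ≤ 0 :=
    CycB.DegSky.dim_support_le_zero hfin fun x hx => GoodPoint.isClosed_of_finite I.support.isClosed hfin hx
  rw [FGA.eulerCharLE, Finset.sum_eq_single_of_mem 0 (Finset.mem_range.2 (Nat.succ_pos _))]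
  · simp
  · intro i _ hi
    have := CurvesB.TwistIdeal.subsingleton_quotMod k I hZ i (Nat.pos_of_ne_zero hi)
    rw [Module.finrank_zero_of_subsingleton]
    simp

end K802.RankSum
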