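import Groth.Agent.AdjLin.K802.GoodPoint

/-!
# Ideals containing the ideal of a finite reduced subscheme
-/

set_option autoImplicit false

namespace K802.ReducedZ

universe u

open CategoryTheory AlgebraicGeometry TopologicalSpace

/-- An ideal containing the intersection of finitely many maximal ideals is radical. -/
theorem isRadical {A : Type*} [CommRing A] (S : Finset (Ideal A)) (hS : ∀ m ∈ S, m.IsMaximal) (J : Ideal A)
    (hJ : S.inf id ≤ J) : J.radical ≤ J := by
  classical
  rintro f ⟨n, hn⟩
  -- the annihilator of `f` modulo `J`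
  let K : Ideal A := J.colon {f}
  have hK : ∀ {h : A}, h * f ∈ J → h ∈ K := fun {h} hh => by
    rw [Submodule.mem_colon_singleton]
    exact hh
  by_contra hf
  have hKtop : K ≠ ⊤ := fun h => hf (by
    have h1 : (1 : A) ∈ K := by rw [h]; trivial
    rw [Submodule.mem_colon_singleton, one_smul] at h1
    exact h1)
  obtain ⟨m, hm, hKm⟩ := Ideal.exists_le_maximal K hKtop
  have hJm : J ≤ m := fun g hg => hKm (hK (J.mul_mem_right f hg))
  have hp := hm.isPrime
  obtain ⟨p, hpS, hpm⟩ := (Ideal.IsPrime.inf_le' hp).1 (hJ.trans hJm)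
  have hpm' : p = m := (hS p hpS).eq_of_le hp.ne_top hpm
  have hfm : f ∈ m := hp.mem_of_pow_mem n (hJm hn)
  -- an element in the other maximal ideals
  have hne : ∀ q : Ideal A, q ∈ S.erase m → ∃ h ∈ q, h ∉ m := by
    intro q hq
    rw [Finset.mem_erase] at hq
    by_contra hcon
    push Not at hcon
    exact hq.1 ((hS q hq.2).eq_of_le hp.ne_top hcon)
  choose! h hh1 hh2 using hne
  have h3 : (∏ q ∈ S.erase m, h q) * f ∈ J := by
    apply hJ
    rw [Submodule.mem_finsetInf]
    intro q hq
    by_cases hqm : q = m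
    · rw [hqm]
      exact Ideal.mul_mem_left _ _ hfm
    · refine Ideal.mul_mem_right _ _ ?_
      exact Ideal.mem_of_dvd _ (Finset.dvd_prod_of_mem h (Finset.mem_erase.2 ⟨hqm, hq⟩))
        (hh1 q (Finset.mem_erase.2 ⟨hqm, hq⟩))
  have h4 := hKm (hK h3)
  obtain ⟨q, hq, hqm⟩ := (Ideal.IsPrime.prod_mem_iff (hp := hp)).1 h4
  exact hh2 q hq hqm

variable {X : Scheme.{u}}

/-- The ideals containing the ideal of a finite set of closed points are radical. -/
theorem eq_vanishingIdeal (Z : Closeds X) (hfin : (Z : Set X).Finite)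
    (hcl : ∀ z ∈ (Z : Set X), IsClosed ({z} : Set X)) (I : X.IdealSheafData)
    (hI : Scheme.IdealSheafData.vanishingIdeal Z ≤ I) :
    I = Scheme.IdealSheafData.vanishingIdeal I.support := by
  classical
  rw [Scheme.IdealSheafData.vanishingIdeal_support]
  refine le_antisymm I.le_radical fun V => ?_
  let T : Set (PrimeSpectrum Γ(X, V)) := V.2.fromSpec ⁻¹' Z
  have hT : T.Finite := hfin.preimage V.2.isOpenImmersion_fromSpec.base_open.injective.injOn
  have hmax : ∀ p ∈ T, p.asIdeal.IsMaximal := by
    intro p hp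
    rw [← PrimeSpectrum.isClosed_singleton_iff_isMaximal]
    have h1 := (hcl _ hp).preimage V.2.fromSpec.continuous
    have h2 : V.2.fromSpec ⁻¹' {V.2.fromSpec p} = {p} := by
      ext q
      simp only [Set.mem_preimage, Set.mem_singleton_iff]
      exact V.2.isOpenImmersion_fromSpec.base_open.injective.eq_iff
    rwa [h2] at h1
  refine isRadical (hT.toFinset.image PrimeSpectrum.asIdeal) ?_ (I.ideal V) ?_
  · intro m hm
    obtain ⟨p, hp, rfl⟩ := Finset.mem_image.1 hm
    exact hmax p (hT.mem_toFinset.1 hp)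
  · refine le_trans ?_ (hI V)
    rw [Scheme.IdealSheafData.vanishingIdeal_ideal]
    intro f hf
    rw [PrimeSpectrum.mem_vanishingIdeal]
    intro p hp
    rw [Submodule.mem_finsetInf] at hf
    exact hf p.asIdeal (Finset.mem_image_of_mem _ (hT.mem_toFinset.2 hp))

end K802.ReducedZ
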