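import Groth.Agent.AdjLin.K802.Frame
import Groth.Agent.Sga67.ExtSheaf
import Groth.Agent.BlowUp.K484.CocIdeal

/-!
# Values of sections and frames adapted to an extension `0 → O → E → L ⊗ I → 0`

* `vl D hW s`: the value of a section `s` of an invertible module with cocycle data `D`;
* `datTO D`: the cocycle data of `L ⊗ O`;
* `vl_tmap_mem`: sections of `L ⊗ I` have values in `ℓ I`;
* `exists_good`: frames of `E` which outside of the support of `I` consist of the image of `1` and a lift of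
  the generator of `L`.
-/

set_option autoImplicit false
universe u
open CategoryTheory CategoryTheory.Limits AlgebraicGeometry TopologicalSpace Opposite
open scoped TensorProduct
open Groth.Agent.Sga67.Sec Groth.Agent.Sga67.LocBasis Groth.Agent.Sga67.ExtSheaf
open Groth.Agent.Lefpen.H725.CocDef Groth.Agent.Lefpen.H521.CartierCoc K801.Cousin K801.CousinH1
open K802.LocVal K802.Frame
open Groth.Agent.Divis.CartierBasic (stalkIdeal)

noncomputable section

namespace K802.SesVal

variable {X : Scheme.{u}} [IsIntegral X]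

section vl

variable {L : X.Modules} {c : X → X.functionField} (D : Dat L c)

/-- The value of a section. -/
def vl {W : X.Opens} (hW : genericPoint X ∈ W) (s : Sec L W) : X.functionField :=
  D.value (W := W) s ⟨genericPoint X, hW⟩

/-- The generator at `x`. -/
def ge (x : X) : Sec L (D.U x) := D.e x

theorem vl_eq {W : X.Opens} (hW : genericPoint X ∈ W) (s : Sec L W) {x : X} (hx : x ∈ W)
    {V : X.Opens} (hVW : V ≤ W) (hVU : V ≤ D.U x) (hη : genericPoint X ∈ V) {a : Γ(X, V)}
    (h : res L hVW s = a • res L hVU (ge D x)) : vl D hW s = ff V hη a * c x := by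
  have h1 : vl D hW s = D.value (W := W) s ⟨x, hx⟩ := D.value_const _ _ _
  rw [h1]
  exact D.value_eq_of (W := W) s ⟨x, hx⟩ (le_inf hVW hVU) hη h

theorem exists_coef {W : X.Opens} (s : Sec L W) (x : X) :
    ∃ a : Γ(X, W ⊓ D.U x), res L inf_le_left s = a • res L inf_le_right (ge D x) :=
  ⟨_, D.coef_spec s x⟩

theorem vl_add {W : X.Opens} (hW : genericPoint X ∈ W) (s t : Sec L W) :
    vl D hW (s + t) = vl D hW s + vl D hW t := by
  obtain ⟨a, ha⟩ := exists_coef D s (genericPoint X)
  obtain ⟨b, hb⟩ := exists_coef D t (genericPoint X)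
  rw [vl_eq D hW s hW inf_le_left inf_le_right (mem_inf hW (D.hη _)) ha,
    vl_eq D hW t hW inf_le_left inf_le_right (mem_inf hW (D.hη _)) hb,
    vl_eq D hW (s + t) hW inf_le_left inf_le_right (mem_inf hW (D.hη _)) (a := a + b)
      (by rw [map_add, ha, hb, add_smul]), map_add, add_mul]

theorem vl_smul {W : X.Opens} (hW : genericPoint X ∈ W) (g : Γ(X, W)) (s : Sec L W) :
    vl D hW (g • s) = ff W hW g * vl D hW s := by
  obtain ⟨a, ha⟩ := exists_coef D s (genericPoint X)
  rw [vl_eq D hW s hW inf_le_left inf_le_right (mem_inf hW (D.hη _)) ha,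
    vl_eq D hW (g • s) hW inf_le_left inf_le_right (mem_inf hW (D.hη _)) (a := resO X inf_le_left g * a)
      (by rw [res_smul, ha, mul_smul]), map_mul, ff_resO, mul_assoc]

theorem vl_zero {W : X.Opens} (hW : genericPoint X ∈ W) : vl D hW (0 : Sec L W) = 0 := by
  have h := vl_smul D hW 0 (0 : Sec L W)
  rwa [map_zero, zero_mul, smul_zero] at h

theorem vl_sum {W : X.Opens} (hW : genericPoint X ∈ W) {κ : Type*} (t : Finset κ) (s : κ → Sec L W) :
    vl D hW (∑ i ∈ t, s i) = ∑ i ∈ t, vl D hW (s i) := by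
  classical
  induction t using Finset.induction_on with
  | empty => rw [Finset.sum_empty, Finset.sum_empty, vl_zero]
  | insert i t hi ih => rw [Finset.sum_insert hi, Finset.sum_insert hi, vl_add, ih]

theorem vl_res {W V : X.Opens} (hV : genericPoint X ∈ V) (h : V ≤ W) (s : Sec L W) :
    vl D hV (res L h s) = vl D (h hV) s := D.value_res h s ⟨_, hV⟩

theorem vl_ge (x : X) : vl D (D.hη x) (ge D x) = c x := by
  rw [vl_eq D (D.hη x) (ge D x) (D.hU x) le_rfl le_rfl (D.hη x) (a := 1) (by rw [one_smul]), map_one,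
    one_mul]

theorem vl_mem {W : X.Opens} (hW : genericPoint X ∈ W) (s : Sec L W) {x : X} (hx : x ∈ W) :
    vl D hW s / c x ∈ Ox x := by
  obtain ⟨a, ha⟩ := exists_coef D s x
  rw [vl_eq D hW s hx inf_le_left inf_le_right (mem_inf hW (D.hη _)) ha, mul_div_cancel_right₀ _ (D.h0 x)]
  exact (regAt_iff _ _).1 ⟨W ⊓ D.U x, ⟨hx, D.hU x⟩, mem_inf hW (D.hη _), _, rfl⟩

end vl

/-- The stalk of an ideal sheaf in the function field. -/
def Ix (I : X.IdealSheafData) (x : X) : AddSubgroup X.functionField :=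
  (stalkIdeal I x).toAddSubgroup.map (algebraMap (X.presheaf.stalk x) X.functionField).toAddMonoidHom

theorem mem_Ix {I : X.IdealSheafData} {x : X} {f : X.functionField} :
    f ∈ Ix I x ↔ ∃ s ∈ stalkIdeal I x, algebraMap (X.presheaf.stalk x) X.functionField s = f := Iff.rfl

theorem mul_mem_Ix {I : X.IdealSheafData} {x : X} {f g : X.functionField} (hf : f ∈ Ox x)
    (hg : g ∈ Ix I x) : f * g ∈ Ix I x := by
  obtain ⟨a, rfl⟩ := hf
  obtain ⟨b, hb, rfl⟩ := mem_Ix.1 hg
  exact mem_Ix.2 ⟨a * b, Ideal.mul_mem_left _ _ hb, map_mul _ _ _⟩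

theorem ff_mem_Ix {I : X.IdealSheafData} {V : X.Opens} (hV : genericPoint X ∈ V) {x : X} (hx : x ∈ V)
    (n : Sec (ClSub.idealMod I) V) : ff V hV (toO (appS (ClSub.idealModι I) V n)) ∈ Ix I x := by
  obtain ⟨_, ⟨A, rfl⟩, hxA, hA⟩ := Opens.isBasis_iff_nbhd.mp (affineBasis X) hx
  have h1 : toO (appS (ClSub.idealModι I) A.1 (res _ hA n)) ∈ I.ideal A :=
    Groth.Agent.PerfA.IdealModule.val_mem I A (res _ hA n)
  have h2 : toO (appS (ClSub.idealModι I) A.1 (res _ hA n)) =
      resO X hA (toO (appS (ClSub.idealModι I) V n)) := by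
    rw [appS_res, toO_res]
  rw [h2] at h1
  refine mem_Ix.2 ⟨X.presheaf.germ A.1 x hxA (resO X hA (toO (appS (ClSub.idealModι I) V n))), ?_, ?_⟩
  · rw [Groth.Agent.Divis.CartierBasic.stalkIdeal_eq I A hxA]
    exact Ideal.mem_map_of_mem _ h1
  · rw [algebraMap_germ hxA (gen_mem hxA), ff_resO]

section TO

variable {L : X.Modules} {c : X → X.functionField} (D : Dat L c)

/-- The cocycle data of `L ⊗ O`. -/
def datTO : Dat (CohB1.tensorMod L (Coh.structureModule X)) c where
  h0 := D.h0
  U := D.U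
  hU := D.hU
  e x := Groth.Agent.Fdesc.LocGen.tmul (D.e x) (Groth.Agent.Fdesc.LocGen.one (D.U x))
  gen x := (D.gen x).tmul (Groth.Agent.Fdesc.LocGen.isGen_one _)
  tr x y := by
    obtain ⟨g, hη, hg, hc⟩ := D.tr x y
    refine ⟨g, hη, ?_, hc⟩
    rw [Groth.Agent.Fdesc.LocGen.res_tmul, Groth.Agent.Fdesc.LocGen.res_tmul, hg,
      Groth.Agent.Fdesc.LocGen.res_one, Groth.Agent.Fdesc.LocGen.res_one,
      Groth.Agent.Fdesc.LocGen.smul_tmul]

/-- The generator of `L ⊗ O` at `x`. -/
def gTO (x : X) : Sec (CohB1.tensorMod L (Coh.structureModule X)) (D.U x) :=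
  tau L (Coh.structureModule X) (D.U x) (ge D x ⊗ₜ[Γ(X, D.U x)] one X (D.U x))

theorem vl_gTO (x : X) {V : X.Opens} (h : V ≤ D.U x) (hV : genericPoint X ∈ V) :
    vl (datTO D) hV (res _ h (gTO D x)) = c x := by
  rw [vl_res]
  exact vl_ge (datTO D) x

/-- Values of sections of `L ⊗ I`. -/
theorem vl_tmap_mem (I : X.IdealSheafData) {W : X.Opens} (hW : genericPoint X ∈ W)
    (m : Sec (CohB1.tensorMod L (ClSub.idealMod I)) W) {x : X} (hx : x ∈ W) :
    vl (datTO D) hW (appS (tmap L (ClSub.idealModι I)) W m) / c x ∈ Ix I x := by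
  obtain ⟨V, hV, hxV, t, ht⟩ := tau_locsurj L (ClSub.idealMod I) m x hx
  have hη : genericPoint X ∈ V := gen_mem hxV
  have h1 : vl (datTO D) hW (appS (tmap L (ClSub.idealModι I)) W m) =
      vl (datTO D) hη (appS (tmap L (ClSub.idealModι I)) V (tau L (ClSub.idealMod I) V t)) := by
    rw [ht, appS_res, vl_res]
  rw [h1]
  clear h1 ht
  induction t using TensorProduct.induction_on with
  | zero =>
    rw [map_zero, map_zero, vl_zero, zero_div]
    exact AddSubgroup.zero_mem _
  | tmul f n =>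
    rw [appS_tmap, TensorProduct.map_tmul, LinearMap.id_apply]
    have h2 : appS (ClSub.idealModι I) V n = toO (appS (ClSub.idealModι I) V n) • one X V :=
      (toO_smul_one _).symm
    rw [h2, TensorProduct.tmul_smul, map_smul, vl_smul, mul_div_assoc, mul_comm]
    exact mul_mem_Ix (vl_mem (datTO D) hη _ hxV) (ff_mem_Ix hη hxV n)
  | add a b ha hb =>
    rw [map_add, map_add, vl_add, add_div]
    exact AddSubgroup.add_mem _ ha hb

end TO

section good

omit [IsIntegral X] in
theorem isLocBasis_of_isGen {M : X.Modules} {U : X.Opens} (e : Sec M U)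
    (he : Groth.Agent.Fdesc.LocGen.IsGen (M := M) (U := U) e) :
    IsLocBasis (κ := Unit) (fun _ => e) := by
  intro V h
  have h1 : (comb (κ := Unit) (fun _ => e) h : (Unit → Γ(X, V)) → Sec M V) =
      (fun a : Γ(X, V) => a • res M h e) ∘ (fun f : Unit → Γ(X, V) => f ()) := by
    funext a
    rw [comb_apply, Fintype.sum_unique]
    rfl
  rw [h1]
  refine Function.Bijective.comp (he V h) ?_
  exact (Equiv.funUnique Unit Γ(X, V)).bijective

omit [IsIntegral X] in
theorem ideal_eq_top_of_disjoint (I : X.IdealSheafData) (V : X.affineOpens)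
    (h : ∀ x ∈ V.1, x ∉ I.support) : I.ideal V = ⊤ := by
  rw [← PrimeSpectrum.zeroLocus_empty_iff_eq_top]
  have h1 := I.coe_support_inter V
  have h2 := V.2.fromSpec_image_zeroLocus (I.ideal V)
  rw [← h1] at h2
  have h3 : ((I.support : Set X) ∩ (V.1 : Set X)) = ∅ := by
    ext x
    simp only [Set.mem_inter_iff, Set.mem_empty_iff_false, iff_false, not_and]
    exact fun hx hV => h x hV hx
  rw [h3, Set.image_eq_empty] at h2
  exact h2

variable {L : X.Modules} {c : X → X.functionField} (D : Dat L c) (I : X.IdealSheafData)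
  {E : X.Modules} (hE : FlatMod.IsFinLocFreeOfRank 2 E) (i : Coh.structureModule X ⟶ E)
  (p : E ⟶ CohB1.tensorMod L (ClSub.idealMod I)) (w : i ≫ p = 0)
  (hex : (ShortComplex.mk i p w).ShortExact)

include hE hex

/-- Frames adapted to the extension. -/
theorem exists_good : ∃ F : Fr E, ∀ x, x ∉ (I.support : Set X) →
    F.e x 0 = appS i (F.U x) (one X (F.U x)) ∧ ∃ h : F.U x ≤ D.U x,
      appS (p ≫ tmap L (ClSub.idealModι I)) (F.U x) (F.e x 1) = res _ h (gTO D x) := by
  have key : ∀ x : X, ∃ (U : X.Opens) (e : Fin 2 → Sec E U), x ∈ U ∧ IsLocBasis e ∧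
      (x ∉ (I.support : Set X) → e 0 = appS i U (one X U) ∧ ∃ h : U ≤ D.U x,
      appS (p ≫ tmap L (ClSub.idealModι I)) U (e 1) = res _ h (gTO D x)) := by
    intro x
    by_cases hx : x ∈ (I.support : Set X)
    · obtain ⟨U, hxU, hU⟩ := hE x
      obtain ⟨e, he⟩ := nonempty_restrict_iso_iff.1 hU
      exact ⟨U, e, hxU, he, fun h => absurd hx h⟩
    · have hopen : IsOpen ((I.support : Set X)ᶜ) := I.support.isClosed.isOpen_compl
      obtain ⟨_, ⟨A, rfl⟩, hxA, hA⟩ := Opens.isBasis_iff_nbhd.mp (affineBasis X)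
        (show x ∈ (⟨(I.support : Set X)ᶜ, hopen⟩ : X.Opens) ⊓ D.U x from ⟨hx, D.hU x⟩)
      have hAtop : I.ideal A = ⊤ := ideal_eq_top_of_disjoint I A fun y hy => (hA hy).1
      have hAU : A.1 ≤ D.U x := hA.trans inf_le_right
      -- the generator of the ideal module
      obtain ⟨n, hn', hngen⟩ : ∃ n : Sec (ClSub.idealMod I) A.1,
          appS (ClSub.idealModι I) A.1 n = one X A.1 ∧
          Groth.Agent.Fdesc.LocGen.IsGen (M := ClSub.idealMod I) (U := A.1) n := by
        obtain ⟨n, hn⟩ := Groth.Agent.PerfA.IdealModule.exists_val_eq I A (a := 1)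
          (by rw [hAtop]; trivial)
        refine ⟨n, hn, Groth.Agent.Ega1.IdealGen.isGen_of_span I ?_ ?_⟩
        · rw [hn, hAtop, Ideal.span_singleton_one]
        · rw [hn]; exact one_mem _
      have hfgen : Groth.Agent.Fdesc.LocGen.IsGen (M := L) (U := A.1) (res L hAU (ge D x)) :=
        (D.gen x).res hAU
      obtain ⟨c', hc', hcj⟩ : ∃ c' : Sec (CohB1.tensorMod L (ClSub.idealMod I)) A.1,
          IsLocBasis (κ := Unit) (fun _ => c') ∧
          appS (tmap L (ClSub.idealModι I)) A.1 c' = res _ hAU (gTO D x) := by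
        refine ⟨tau L (ClSub.idealMod I) A.1 (res L hAU (ge D x) ⊗ₜ[Γ(X, A.1)] n),
          isLocBasis_of_isGen _ (hfgen.tmul hngen), ?_⟩
        rw [appS_tmap, TensorProduct.map_tmul, LinearMap.id_apply, hn', gTO, ← tau_tres,
          tres_tmul, res_one]
      have hepi : Epi p := hex.epi_g
      obtain ⟨V, hVA, hxV, v, hv⟩ := exists_lifts p (fun _ : Unit => c') hxA
      have hb := isLocBasis_extension hex (b := fun _ : Unit => one X V)
        (TensFrame.isLocBasis_one' V) (hc'.restrict hVA) v hv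
      let eqv : Fin 2 ≃ Unit ⊕ Unit :=
        { toFun := ![Sum.inl (), Sum.inr ()]
          invFun := Sum.elim (fun _ => 0) (fun _ => 1)
          left_inv := by intro j; fin_cases j <;> rfl
          right_inv := by rintro (⟨⟩ | ⟨⟩) <;> rfl }
      have hb2 := hb.reindex eqv
      refine ⟨V, _, hxV, hb2, fun _ => ⟨rfl, hVA.trans hAU, ?_⟩⟩
      have h1 : appS p V (v ()) = res _ hVA c' := hv ()
      change appS (p ≫ tmap L (ClSub.idealModι I)) V (v ()) = _
      rw [appS_comp, h1, appS_res, hcj, res_res]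
  choose U e hxU he h using key
  exact ⟨⟨U, hxU, e, he⟩, h⟩

end good

end K802.SesVal
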