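import Groth.Agent.AdjLin.K802.SocleTwo
import Mathlib.RingTheory.Artinian.Module
import Mathlib.RingTheory.Artinian.Ring
import Mathlib.RingTheory.Localization.AtPrime.Basic
import Mathlib.RingTheory.Ideal.MinimalPrime.Basic

/-!
# Minimal ideals of a quotient which is locally generated by two elements

`A` is a ring, `I` an ideal with `A / I` Artinian.  Suppose that at each maximal ideal
containing `I` the localization of `A` is regular of dimension two and `I` becomes generated by two
elements.  Then a finite set of nonzero elements of `A / I`, each killed by a maximal ideal, meets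
all nonzero ideals.
-/

set_option autoImplicit false

namespace K802.SocleFinite

universe u v

open IsLocalRing

/-- The local hypothesis at a maximal ideal. -/
def Good {A : Type u} [CommRing A] (I m : Ideal A) : Prop :=
  ∃ (_ : m.IsPrime) (O : Type u) (_ : CommRing O) (_ : Algebra A O) (_ : IsLocalization.AtPrime O m)
    (_ : IsRegularLocalRing O), ringKrullDim O = 2 ∧ ∃ a b : O, I.map (algebraMap A O) = Ideal.span {a, b}

variable {A : Type u} [CommRing A]

/-- A power of the maximal ideal of the localization lies in the ideal. -/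
theorem exists_pow_le {I m : Ideal A} [IsArtinianRing (A ⧸ I)] (hm : m.IsMaximal) (hp : m.IsPrime)
    (O : Type u) [CommRing O] [Algebra A O] [IsLocalization.AtPrime O m] [IsLocalRing O]
    [IsNoetherianRing O] : ∃ n : ℕ, maximalIdeal O ^ n ≤ I.map (algebraMap A O) := by
  have hmax : maximalIdeal O = m.map (algebraMap A O) :=
    (IsLocalization.AtPrime.map_eq_maximalIdeal m O).symm
  refine Ideal.exists_pow_le_of_le_radical_of_fg ?_ (maximalIdeal O).fg_of_isNoetherianRing
  rw [Ideal.radical_eq_sInf]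
  refine le_sInf ?_
  rintro P ⟨hP1, hP2⟩
  have h1 : I ≤ P.comap (algebraMap A O) := Ideal.map_le_iff_le_comap.1 hP1
  have h2 : (P.comap (algebraMap A O)).IsPrime := hP2.comap _
  have h3 : P.comap (algebraMap A O) ≤ m := by
    have h4 := IsLocalRing.le_maximalIdeal hP2.ne_top
    have h5 := Ideal.comap_mono (f := algebraMap A O) h4
    have h6 : (maximalIdeal O).comap (algebraMap A O) = m :=
      IsLocalization.AtPrime.under_maximalIdeal O m
    rwa [h6] at h5
  have h6 : (P.comap (algebraMap A O)).IsMaximal := by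
    have h7 : ((P.comap (algebraMap A O)).map (Ideal.Quotient.mk I)).IsPrime :=
      Ideal.map_isPrime_of_surjective Ideal.Quotient.mk_surjective (by simpa using h1)
    have h8 : ((P.comap (algebraMap A O)).map (Ideal.Quotient.mk I)).IsMaximal :=
      IsArtinianRing.isMaximal_of_isPrime _
    have h9 := Ideal.comap_isMaximal_of_surjective (Ideal.Quotient.mk I)
      Ideal.Quotient.mk_surjective (K := (P.comap (algebraMap A O)).map (Ideal.Quotient.mk I))
    rwa [Ideal.comap_map_of_surjective' (Ideal.Quotient.mk I) Ideal.Quotient.mk_surjective,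
      Ideal.mk_ker, sup_eq_left.2 h1] at h9
  have h10 : P.comap (algebraMap A O) = m := h6.eq_of_le hm.ne_top h3
  rw [hmax, Ideal.map_le_iff_le_comap, h10]

/-- Membership descends from the localization for elements killed by the maximal ideal. -/
theorem mem_of_algebraMap_mem {I m : Ideal A} (hm : m.IsMaximal) (hp : m.IsPrime)
    (O : Type u) [CommRing O] [Algebra A O] [IsLocalization.AtPrime O m] {c : A}
    (hc : ∀ z ∈ m, z * c ∈ I) (h : algebraMap A O c ∈ I.map (algebraMap A O)) : c ∈ I := by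
  rw [IsLocalization.algebraMap_mem_map_algebraMap_iff m.primeCompl O] at h
  obtain ⟨t, ht, htc⟩ := h
  obtain ⟨u, v, hv, huv⟩ := hm.exists_inv ht
  have h2 : c = u * (t * c) + v * c := by rw [← mul_assoc, ← add_mul, huv, one_mul]
  rw [h2]
  exact I.add_mem (I.mul_mem_left _ htc) (hc v hv)

/-- Two elements killed by a maximal ideal modulo `I` are proportional modulo `I`. -/
theorem exists_sub_mul_mem {I m : Ideal A} [IsArtinianRing (A ⧸ I)] (hm : m.IsMaximal)
    (h : Good I m) {c c' : A} (hc : ∀ z ∈ m, z * c ∈ I) (hc' : ∀ z ∈ m, z * c' ∈ I)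
    (hne : c' ∉ I) : ∃ l : A, c - l * c' ∈ I := by
  obtain ⟨hp, O, _, _, hloc, hreg, hdim, a, b, hab⟩ := h
  have hmax : maximalIdeal O = m.map (algebraMap A O) :=
    (IsLocalization.AtPrime.map_eq_maximalIdeal m O).symm
  obtain ⟨n, hn⟩ := exists_pow_le (I := I) hm hp O
  have hmem : ∀ c : A, (∀ z ∈ m, z * c ∈ I) →
      ∀ z ∈ maximalIdeal O, z * algebraMap A O c ∈ Ideal.span {a, b} := by
    intro c hc z hz
    rw [hmax] at hz
    rw [← hab]
    induction hz using Submodule.span_induction with
    | mem z hz =>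
      obtain ⟨w, hw, rfl⟩ := hz
      rw [← map_mul]
      exact Ideal.mem_map_of_mem _ (hc w hw)
    | zero => rw [zero_mul]; exact Ideal.zero_mem _
    | add z w _ _ h1 h2 => rw [add_mul]; exact Ideal.add_mem _ h1 h2
    | smul r z _ h1 => rw [smul_eq_mul, mul_assoc]; exact Ideal.mul_mem_left _ _ h1
  have hne' : algebraMap A O c' ∉ Ideal.span {a, b} := fun h =>
    hne (mem_of_algebraMap_mem hm hp O hc' (by rwa [hab]))
  rw [hab] at hn
  obtain ⟨l, hl⟩ := SocleTwo.exists_sub_mul_mem hdim hn (hmem c hc) (hmem c' hc') hne'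
  obtain ⟨⟨r, s⟩, hrs⟩ := IsLocalization.surj m.primeCompl l
  dsimp only at hrs
  obtain ⟨u, v, hv, huv⟩ := hm.exists_inv s.2
  -- `s c - r c'` is in `I` because it is killed by `m` and lies in the extension
  have h1 : s.1 * c - r * c' ∈ I := by
    refine mem_of_algebraMap_mem hm hp O (fun z hz => ?_) ?_
    · have : z * (s.1 * c - r * c') = s.1 * (z * c) - r * (z * c') := by ring
      rw [this]
      exact I.sub_mem (I.mul_mem_left _ (hc z hz)) (I.mul_mem_left _ (hc' z hz))
    · rw [hab, map_sub, map_mul, map_mul, ← hrs]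
      have : algebraMap A O s.1 * algebraMap A O c - l * algebraMap A O s.1 * algebraMap A O c' =
          algebraMap A O s.1 * (algebraMap A O c - l * algebraMap A O c') := by ring
      rw [this]
      exact Ideal.mul_mem_left _ _ hl
  refine ⟨u * r, ?_⟩
  have h2 : c - u * r * c' = u * (s.1 * c - r * c') + v * c := by
    linear_combination (-c) * huv
  rw [h2]
  exact I.add_mem (I.mul_mem_left _ h1) (hc v hv)

/-- The finite set of generators of minimal ideals. -/
theorem exists_finset {I : Ideal A} [IsArtinianRing (A ⧸ I)]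
    (h : ∀ m : Ideal A, m.IsMaximal → I ≤ m → Good I m) :
    ∃ S : Finset (A ⧸ I), (∀ s ∈ S, s ≠ 0 ∧ ∃ m : Ideal A, m.IsMaximal ∧ I ≤ m ∧
      ∀ z ∈ m, Ideal.Quotient.mk I z * s = 0) ∧ ∀ J : Ideal (A ⧸ I), J ≠ ⊥ → ∃ s ∈ S, s ∈ J := by
  classical
  have hfin : Finite (MaximalSpectrum (A ⧸ I)) := inferInstance
  have := Fintype.ofFinite (MaximalSpectrum (A ⧸ I))
  -- a socle element for each maximal ideal
  have hch : ∀ M : MaximalSpectrum (A ⧸ I), ∃ s : A ⧸ I,
      (∀ z ∈ M.asIdeal, z * s = 0) ∧ ((∃ t : A ⧸ I, t ≠ 0 ∧ ∀ z ∈ M.asIdeal, z * t = 0) → s ≠ 0) := by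
    intro M
    by_cases hM : ∃ t : A ⧸ I, t ≠ 0 ∧ ∀ z ∈ M.asIdeal, z * t = 0
    · obtain ⟨t, ht, ht'⟩ := hM
      exact ⟨t, ht', fun _ => ht⟩
    · exact ⟨0, by simp, fun h => absurd h hM⟩
  choose σ hσ1 hσ2 using hch
  refine ⟨(Finset.univ.image σ).filter (· ≠ 0), ?_, ?_⟩
  · intro s hs
    obtain ⟨hs, hs0⟩ := Finset.mem_filter.1 hs
    obtain ⟨M, -, rfl⟩ := Finset.mem_image.1 hs
    refine ⟨hs0, M.asIdeal.comap (Ideal.Quotient.mk I), ?_, ?_, fun z hz => hσ1 M _ hz⟩
    · have := M.isMaximal
      exact Ideal.comap_isMaximal_of_surjective _ Ideal.Quotient.mk_surjective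
    · intro z hz
      rw [Ideal.mem_comap, Ideal.Quotient.eq_zero_iff_mem.2 hz]
      exact M.asIdeal.zero_mem
  · intro J hJ
    obtain ⟨J₀, hJ₀, hle⟩ := (IsAtomic.eq_bot_or_exists_atom_le J).resolve_left hJ
    obtain ⟨j, hj, hj0⟩ := Submodule.exists_mem_ne_zero_of_ne_bot hJ₀.1
    -- the annihilator of `j` is maximal
    have hspan : Ideal.span {j} = J₀ := by
      have h1 : Ideal.span {j} ≤ J₀ := (Ideal.span_singleton_le_iff_mem _).2 hj
      refine (hJ₀.le_iff.1 h1).resolve_left fun h0 => hj0 ?_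
      have h2 : j ∈ Ideal.span {j} := Ideal.mem_span_singleton_self j
      rw [h0] at h2
      simpa using h2
    -- some maximal ideal kills `j`
    obtain ⟨M, hM, hMj⟩ : ∃ M : Ideal (A ⧸ I), M.IsMaximal ∧ ∀ z ∈ M, z * j = 0 := by
      let K : Ideal (A ⧸ I) := LinearMap.ker (LinearMap.toSpanSingleton (A ⧸ I) (A ⧸ I) j)
      have hK : K ≠ ⊤ := by
        intro h0
        have h2 : (1 : A ⧸ I) ∈ K := by rw [h0]; trivial
        exact hj0 (by simpa [K] using h2)
      obtain ⟨M, hM, hKM⟩ := K.exists_le_maximal hK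
      refine ⟨M, hM, fun z hz => ?_⟩
      by_contra hne
      have h3 : Ideal.span {z * j} = J₀ := by
        have h1 : Ideal.span {z * j} ≤ J₀ :=
          (Ideal.span_singleton_le_iff_mem _).2 (J₀.mul_mem_left _ hj)
        refine (hJ₀.le_iff.1 h1).resolve_left fun h0 => hne ?_
        have h2 : z * j ∈ Ideal.span {z * j} := Ideal.mem_span_singleton_self _
        rw [h0] at h2
        simpa using h2
      rw [← h3] at hj
      obtain ⟨w, hw⟩ := Ideal.mem_span_singleton'.1 hj
      have h4 : (1 - w * z) ∈ K := by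
        simp only [K, LinearMap.mem_ker, LinearMap.toSpanSingleton_apply, smul_eq_mul]
        rw [sub_mul, one_mul, mul_assoc, hw, sub_self]
      have h5 : (1 : A ⧸ I) ∈ M := by
        have := M.add_mem (hKM h4) (M.mul_mem_left w hz)
        simpa using this
      exact hM.ne_top ((Ideal.eq_top_iff_one _).2 h5)
    let M' : MaximalSpectrum (A ⧸ I) := ⟨M, hM⟩
    have hs0 : σ M' ≠ 0 := hσ2 M' ⟨j, hj0, hMj⟩
    refine ⟨σ M', Finset.mem_filter.2 ⟨Finset.mem_image_of_mem _ (Finset.mem_univ _), hs0⟩,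
      hle ?_⟩
    -- proportionality
    obtain ⟨c, hc⟩ := Ideal.Quotient.mk_surjective (σ M')
    obtain ⟨c', hc'⟩ := Ideal.Quotient.mk_surjective j
    have hm : (M.comap (Ideal.Quotient.mk I)).IsMaximal :=
      Ideal.comap_isMaximal_of_surjective _ Ideal.Quotient.mk_surjective
    have hIm : I ≤ M.comap (Ideal.Quotient.mk I) := by
      intro z hz
      rw [Ideal.mem_comap, Ideal.Quotient.eq_zero_iff_mem.2 hz]
      exact M.zero_mem
    obtain ⟨l, hl⟩ := exists_sub_mul_mem (c := c) (c' := c') hm (h _ hm hIm)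
      (fun z hz => by
        rw [← Ideal.Quotient.eq_zero_iff_mem, map_mul, hc]
        exact hσ1 M' _ hz)
      (fun z hz => by
        rw [← Ideal.Quotient.eq_zero_iff_mem, map_mul, hc']
        exact hMj _ hz)
      (fun h0 => hj0 (by rw [← hc']; exact Ideal.Quotient.eq_zero_iff_mem.2 h0))
    have h6 : σ M' = Ideal.Quotient.mk I l * j := by
      rw [← hc, ← hc', ← map_mul, ← sub_eq_zero, ← map_sub]
      exact Ideal.Quotient.eq_zero_iff_mem.2 hl
    rw [h6]
    exact J₀.mul_mem_left _ hj

end K802.SocleFinite
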