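import Groth.Agent.Dix.RegTwoDim
import Groth.Agent.AdjLin.K802.GorensteinPairing
import Mathlib.RingTheory.UniqueFactorizationDomain.GCDMonoid
import Mathlib.RingTheory.Artinian.Module
import Mathlib.RingTheory.Localization.AtPrime.Basic

/-!
# The socle of a quotient of a two-dimensional regular local ring by two elements

If `O` is a regular local ring of dimension two with maximal ideal `m` and `(a, b)` an `m`-primary
ideal, then the socle of `O / (a, b)` is one-dimensional: two elements of `O` sent into `(a, b)` by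
`m` are proportional modulo `(a, b)`.
-/

set_option autoImplicit false

namespace K802.SocleTwo

universe u

open IsLocalRing

section Domain

variable {O : Type u} [CommRing O] [IsDomain O]

/-- Relations between two relatively prime elements. -/
theorem exists_of_relation [UniqueFactorizationMonoid O] {a b : O} (ha : a ≠ 0)
    (hab : ∀ d, d ∣ a → d ∣ b → IsUnit d) {u v : O} (h : u * a + v * b = 0) :
    ∃ t, u = t * b ∧ v = -(t * a) := by
  have h1 : a ∣ v * b := ⟨-u, by linear_combination h⟩
  have hrel : IsRelPrime a b := fun d => hab d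
  obtain ⟨w, hw⟩ := hrel.dvd_of_dvd_mul_right h1
  refine ⟨-w, ?_, by rw [hw]; ring⟩
  have : a * (u + w * b) = 0 := by rw [hw] at h; linear_combination h
  have := (mul_eq_zero.1 this).resolve_left ha
  linear_combination this

/-- The computation: an element sent into `(a, b)` by `x` and `y` whose second coefficient lies in
`(x, y)` lies in `(a, b)`. -/
theorem mem_of_coeff {a b x y c p q r s t t₁ t₂ : O} (hx : Prime x) (hxy : ¬ x ∣ y)
    (h1 : x * c = p * a + q * b)
    (h3 : y * p - x * r = t * b) (h4 : y * q - x * s = -(t * a)) (ht : t = t₁ * x + t₂ * y) :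
    c ∈ Ideal.span {a, b} := by
  have h5 : x ∣ y * (p - t₂ * b) := ⟨r + t₁ * b, by rw [ht] at h3; linear_combination h3⟩
  have h6 : x ∣ y * (q + t₂ * a) := ⟨s - t₁ * a, by rw [ht] at h4; linear_combination h4⟩
  obtain ⟨u, hu⟩ := (hx.dvd_or_dvd h5).resolve_left hxy
  obtain ⟨v, hv⟩ := (hx.dvd_or_dvd h6).resolve_left hxy
  have h7 : x * (c - (u * a + v * b)) = 0 := by linear_combination h1 + a * hu + b * hv
  have h8 := (mul_eq_zero.1 h7).resolve_left hx.ne_zero
  rw [Ideal.mem_span_pair]
  exact ⟨u, v, by linear_combination -h8⟩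

end Domain

section Regular

variable {O : Type u} [CommRing O] [IsRegularLocalRing O]

/-- Generators of a primary ideal are relatively prime. -/
theorem isUnit_of_dvd (hO : ringKrullDim O = 2) {a b : O} {n : ℕ}
    (hn : maximalIdeal O ^ n ≤ Ideal.span {a, b}) (d : O) (hda : d ∣ a) (hdb : d ∣ b) :
    IsUnit d := by
  have hdom : IsDomain O := Groth.Agent.CalgA.RegBasic.isDomain O
  have hufd : UniqueFactorizationMonoid O := Groth.Agent.Dix.RegTwoDim.ufd hO.le
  obtain ⟨x, y, hxy⟩ := Groth.Agent.Dix.RegTwoDim.exists_span_pair hO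
  obtain ⟨hx, hnd⟩ := Groth.Agent.Dix.RegTwoDim.prime_and_not_dvd hO x y hxy
  have hle : Ideal.span {a, b} ≤ Ideal.span {d} := by
    rw [Ideal.span_le]
    rintro w (rfl | rfl)
    · exact Ideal.mem_span_singleton.2 hda
    · exact Ideal.mem_span_singleton.2 hdb
  have hxm : x ∈ maximalIdeal O := by rw [hxy]; exact Ideal.subset_span (by simp)
  have hym : y ∈ maximalIdeal O := by rw [hxy]; exact Ideal.subset_span (by simp)
  have h1 : ∀ z ∈ maximalIdeal O, d ∣ z ^ n := fun z hz =>
    Ideal.mem_span_singleton.1 (hle (hn (Ideal.pow_mem_pow hz n)))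
  by_contra hd
  have hd0 : d ≠ 0 := by
    rintro rfl
    exact hx.ne_zero (eq_zero_of_pow_eq_zero (zero_dvd_iff.1 (h1 x hxm)))
  obtain ⟨π, hπ, hπd⟩ := WfDvdMonoid.exists_irreducible_factor hd hd0
  have hπ' : Prime π := UniqueFactorizationMonoid.irreducible_iff_prime.1 hπ
  have h2 : π ∣ x := hπ'.dvd_of_dvd_pow (hπd.trans (h1 x hxm))
  have h3 : π ∣ y := hπ'.dvd_of_dvd_pow (hπd.trans (h1 y hym))
  exact hnd ((hπ'.associated_of_dvd hx h2).symm.dvd.trans h3)

/-- The socle of `O / (a, b)` is one-dimensional. -/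
theorem exists_sub_mul_mem (hO : ringKrullDim O = 2) {a b : O} {n : ℕ}
    (hn : maximalIdeal O ^ n ≤ Ideal.span {a, b}) {c c' : O}
    (hc : ∀ z ∈ maximalIdeal O, z * c ∈ Ideal.span {a, b})
    (hc' : ∀ z ∈ maximalIdeal O, z * c' ∈ Ideal.span {a, b}) (hne : c' ∉ Ideal.span {a, b}) :
    ∃ l : O, c - l * c' ∈ Ideal.span {a, b} := by
  have hdom : IsDomain O := Groth.Agent.CalgA.RegBasic.isDomain O
  have hufd : UniqueFactorizationMonoid O := Groth.Agent.Dix.RegTwoDim.ufd hO.le
  have hcop := isUnit_of_dvd hO hn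
  obtain ⟨x, y, hxy⟩ := Groth.Agent.Dix.RegTwoDim.exists_span_pair hO
  obtain ⟨hx, hnd⟩ := Groth.Agent.Dix.RegTwoDim.prime_and_not_dvd hO x y hxy
  have hxm : x ∈ maximalIdeal O := by rw [hxy]; exact Ideal.subset_span (by simp)
  have hym : y ∈ maximalIdeal O := by rw [hxy]; exact Ideal.subset_span (by simp)
  by_cases ha : a = 0
  · -- then `b` is a unit
    have hb : IsUnit b := hcop b (by rw [ha]; exact dvd_zero b) dvd_rfl
    have hbm : b ∈ Ideal.span {a, b} := Ideal.subset_span (Set.mem_insert_of_mem _ rfl)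
    exact absurd (by rw [Ideal.eq_top_of_isUnit_mem _ hbm hb]; exact Submodule.mem_top) hne
  -- the data attached to an element of the socle
  have key : ∀ c : O, (∀ z ∈ maximalIdeal O, z * c ∈ Ideal.span {a, b}) →
      ∃ p q r s t : O, x * c = p * a + q * b ∧ y * c = r * a + s * b ∧
        y * p - x * r = t * b ∧ y * q - x * s = -(t * a) := by
    intro c hc
    obtain ⟨p, q, hpq⟩ := Ideal.mem_span_pair.1 (hc x hxm)
    obtain ⟨r, s, hrs⟩ := Ideal.mem_span_pair.1 (hc y hym)
    obtain ⟨t, h1, h2⟩ := exists_of_relation (u := y * p - x * r) (v := y * q - x * s) ha hcop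
      (by linear_combination y * hpq - x * hrs)
    exact ⟨p, q, r, s, t, hpq.symm, hrs.symm, h1, h2⟩
  obtain ⟨p, q, r, s, t, h1, h2, h3, h4⟩ := key c hc
  obtain ⟨p', q', r', s', t', h1', h2', h3', h4'⟩ := key c' hc'
  have ht' : IsUnit t' := by
    by_contra hu
    have : t' ∈ maximalIdeal O := hu
    rw [hxy] at this
    obtain ⟨t₁, t₂, ht⟩ := Ideal.mem_span_pair.1 this
    exact hne (mem_of_coeff hx hnd h1' h3' h4' ht.symm)
  obtain ⟨w, hw⟩ := ht'.exists_right_inv
  refine ⟨t * w, mem_of_coeff (p := p - t * w * p') (q := q - t * w * q') (r := r - t * w * r')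
    (s := s - t * w * s') (t := 0) (t₁ := 0) (t₂ := 0) hx hnd ?_ ?_ ?_ (by ring)⟩
  · linear_combination h1 - t * w * h1'
  · linear_combination h3 - t * w * h3' - t * b * hw
  · linear_combination h4 - t * w * h4' + t * a * hw

end Regular

end K802.SocleTwo
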