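import Groth.Agent.Sga67.TensorOps
import Groth.Agent.AdjLin.K802.LocVal
import Groth.Agent.AdjLin.K802.BogTens

/-!
# Local bases of tensor powers of a module with local bases of two elements

* `T N`: the words of length `N`; `tb e N`: the local basis of `E^{⊗ N}` defined by a local basis `e` of `E`;
* `tb_trans`: change of basis;
* `ev_eq`: evaluation of tensors on the rows of a transition matrix.
-/

set_option autoImplicit false
universe u
open CategoryTheory CategoryTheory.Limits AlgebraicGeometry TopologicalSpace Opposite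
open scoped TensorProduct
open Groth.Agent.Sga67.Sec Groth.Agent.Sga67.LocBasis Groth.Agent.Sga67.TensorOps
open Groth.Agent.Lefpen.H725.CocDef Groth.Agent.Lefpen.H521.CartierCoc K801.Cousin
open K802.LocVal K802.BogTens

namespace K802.TensFrame

/-- Words of length `N` in `0, 1`; the last letter is the first one of the list `wd`. -/
def T : ℕ → Type
  | 0 => Unit
  | N + 1 => T N × Fin 2

instance instFintypeT : (N : ℕ) → Fintype (T N)
  | 0 => inferInstanceAs (Fintype Unit)
  | N + 1 => by
    have := instFintypeT N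
    exact inferInstanceAs (Fintype (T N × Fin 2))

/-- The list of a word. -/
def wd : (N : ℕ) → T N → List (Fin 2)
  | 0, _ => []
  | N + 1, t => t.2 :: wd N t.1

/-- The word of a list. -/
def unw : (N : ℕ) → List (Fin 2) → T N
  | 0, _ => ()
  | N + 1, [] => (unw N [], 0)
  | N + 1, i :: w => (unw N w, i)

theorem wd_length (N : ℕ) (t : T N) : (wd N t).length = N := by
  induction N with
  | zero => rfl
  | succ N ih => rw [wd, List.length_cons, ih]

theorem wd_unw (N : ℕ) (w : List (Fin 2)) (hw : w.length = N) : wd N (unw N w) = w := by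
  induction N generalizing w with
  | zero =>
    rw [List.length_eq_zero_iff] at hw
    subst hw
    rfl
  | succ N ih =>
    cases w with
    | nil => simp at hw
    | cons i w =>
      have h1 : w.length = N := by simpa using hw
      have h2 := ih w h1
      change i :: wd N (unw N w) = i :: w
      rw [h2]

theorem unw_wd (N : ℕ) (t : T N) : unw N (wd N t) = t := by
  induction N with
  | zero => rfl
  | succ N ih =>
    change (unw N (wd N t.1), t.2) = t
    rw [ih]
    rfl

/-- The Kronecker power of a matrix. -/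
def hp {R : Type*} [CommSemiring R] (h : Fin 2 → Fin 2 → R) : (N : ℕ) → T N → T N → R
  | 0, _, _ => 1
  | N + 1, t, t' => hp h N t.1 t'.1 * h t.2 t'.2

theorem map_hp {R S : Type*} [CommSemiring R] [CommSemiring S] (f : R →+* S) (h : Fin 2 → Fin 2 → R)
    (N : ℕ) (t t' : T N) : f (hp h N t t') = hp (fun i j => f (h i j)) N t t' := by
  induction N with
  | zero => exact map_one f
  | succ N ih => rw [hp, hp, map_mul, ih]

theorem sum_T {R : Type*} [AddCommMonoid R] (N : ℕ) (f : T (N + 1) → R) :
    ∑ t, f t = ∑ t : T N, ∑ i : Fin 2, f (t, i) :=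
  Fintype.sum_prod_type (α₁ := T N) (α₂ := Fin 2) (f := f)

variable {K : Type*} [Field K]

theorem ev_eq (N : ℕ) (c : List (Fin 2) → K) (p : Fin 2 → Fin 2 → K) (t' : T N) :
    Ev c ((wd N t').map p) = ∑ t : T N, c (wd N t) * hp (fun i j => p j i) N t t' := by
  induction N generalizing c with
  | zero =>
    change c [] = ∑ t : Unit, c [] * 1
    simp
  | succ N ih =>
    change Ev (ctr (p t'.2) c) ((wd N t'.1).map p) = _
    rw [ih, sum_T]
    refine Finset.sum_congr rfl fun t _ => ?_
    rw [Fin.sum_univ_two]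
    change (p t'.2 0 * c (0 :: wd N t) + p t'.2 1 * c (1 :: wd N t)) * _ =
      c (0 :: wd N t) * (hp (fun i j => p j i) N t t'.1 * p t'.2 0) +
      c (1 :: wd N t) * (hp (fun i j => p j i) N t t'.1 * p t'.2 1)
    ring

variable {X : Scheme.{u}}

/-- The local basis of `E^{⊗ N}`. -/
noncomputable def tb {E : X.Modules} {U : X.Opens} (e : Fin 2 → Sec E U) :
    (N : ℕ) → T N → Sec (CohB1.tensorPow E N) U
  | 0, _ => one X U
  | N + 1, t => tau (CohB1.tensorPow E N) E U (tb e N t.1 ⊗ₜ[Γ(X, U)] e t.2)

theorem isLocBasis_one' (U : X.Opens) :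
    IsLocBasis (M := Coh.structureModule X) (κ := Unit) (fun _ => one X U) := by
  have h1 := (isLocBasis_one (X := X)).restrict (le_top : U ≤ ⊤)
  have h2 := h1.reindex (κ' := Unit) (Equiv.ofUnique Unit (Fin 1))
  simp only [res_one] at h2
  exact h2

theorem isLocBasis_tb {E : X.Modules} {U : X.Opens} {e : Fin 2 → Sec E U} (he : IsLocBasis e) (N : ℕ) :
    IsLocBasis (tb e N) := by
  induction N with
  | zero => exact isLocBasis_one' U
  | succ N ih =>
    exact isLocBasis_tensor ih he

theorem res_tb {E : X.Modules} {U V : X.Opens} (h : V ≤ U) (e : Fin 2 → Sec E U) (N : ℕ) (t : T N) :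
    res (CohB1.tensorPow E N) h (tb e N t) = tb (fun i => res E h (e i)) N t := by
  induction N with
  | zero => exact res_one X h
  | succ N ih =>
    have h1 : res (CohB1.tensorPow E (N + 1)) h (tb e (N + 1) t) =
        tau (CohB1.tensorPow E N) E V (tres _ _ h (tb e N t.1 ⊗ₜ[Γ(X, U)] e t.2)) :=
      (tau_tres _ _ h _).symm
    rw [h1, tres_tmul, ih]
    rfl

/-- Change of basis over the same open. -/
theorem tb_change {E : X.Modules} {U : X.Opens} {e e' : Fin 2 → Sec E U} (h : Fin 2 → Fin 2 → Γ(X, U))
    (he : ∀ i, e i = ∑ j, h i j • e' j) (N : ℕ) (t : T N) :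
    tb e N t = ∑ t' : T N, hp h N t t' • tb e' N t' := by
  induction N with
  | zero =>
    change one X U = ∑ t' : Unit, (1 : Γ(X, U)) • one X U
    simp
  | succ N ih =>
    rw [sum_T]
    have h1 : tb e (N + 1) t = tau (CohB1.tensorPow E N) E U
        ((∑ t' : T N, hp h N t.1 t' • tb e' N t') ⊗ₜ[Γ(X, U)] (∑ j, h t.2 j • e' j)) := by
      rw [← he, ← ih]
      rfl
    rw [h1, TensorProduct.sum_tmul, map_sum]
    refine Finset.sum_congr rfl fun t' _ => ?_
    rw [TensorProduct.tmul_sum, map_sum]
    refine Finset.sum_congr rfl fun j _ => ?_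
    rw [TensorProduct.smul_tmul_smul, map_smul]
    rfl

/-- Change of basis on a common open. -/
theorem tb_trans {E : X.Modules} {U U' V : X.Opens} {e : Fin 2 → Sec E U} {e' : Fin 2 → Sec E U'}
    (hVU : V ≤ U) (hVU' : V ≤ U') (h : Fin 2 → Fin 2 → Γ(X, V))
    (he : ∀ i, res E hVU (e i) = ∑ j, h i j • res E hVU' (e' j)) (N : ℕ) (t : T N) :
    res (CohB1.tensorPow E N) hVU (tb e N t) =
      ∑ t' : T N, hp h N t t' • res (CohB1.tensorPow E N) hVU' (tb e' N t') := by
  simp only [res_tb]
  exact tb_change h he N t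

end K802.TensFrame
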