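import Groth.Agent.AdjLin.K802.UnitLemma
import Groth.Agent.PerfC.ExtZero2
import Groth.Agent.PerfA.IdealModule
import Groth.Agent.S1689
import Groth.Agent.S1690
import Groth.Agent.S1691
import Groth.Agent.S2821
import Groth.Agent.CycB.CohProp

/-!
# The functor `j_* j^*` for an open immersion
-/

set_option autoImplicit false

namespace K802.UnitIso

universe u

open CategoryTheory CategoryTheory.Limits AlgebraicGeometry TopologicalSpace
open Groth.Agent

variable {X : Scheme.{u}} (U : X.Opens)

/-- The functor `j_* j^*`. -/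
noncomputable abbrev T : X.Modules ⥤ X.Modules :=
  Scheme.Modules.restrictFunctor U.ι ⋙ Scheme.Modules.pushforward U.ι

/-- The unit. -/
noncomputable abbrev η : 𝟭 X.Modules ⟶ T U := (Scheme.Modules.restrictAdjunction U.ι).unit

instance : PreservesFiniteLimits (T U) := by
  have h0 : (Scheme.Modules.pushforward U.ι).IsRightAdjoint :=
    (Scheme.Modules.restrictAdjunction U.ι).isRightAdjoint
  have h1 : PreservesFiniteLimits (Scheme.Modules.pushforward U.ι) := inferInstance
  exact comp_preservesFiniteLimits _ _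

instance : (T U).PreservesZeroMorphisms := inferInstance

/-- Over the complement of the support the ideal is everything. -/
theorem isIso_restrict_idealModι (I : X.IdealSheafData) (h : ∀ x ∈ U, x ∉ I.support) :
    IsIso ((Scheme.Modules.restrictFunctor U.ι).map (ClSub.idealModι I)) := by
  rw [Scheme.Modules.Hom.isIso_iff_isIso_app]
  intro W
  rw [ConcreteCategory.isIso_iff_bijective]
  have h1 : Function.Bijective ((ClSub.idealModι I).app (U.ι ''ᵁ W)) := by
    refine ⟨PerfA.IdealModule.ι_injective I _, fun a => ?_⟩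
    refine (PerfA.IdealModule.exact_app I (U.ι ''ᵁ W) a).1 ?_
    have h2 : I.subschemeι ⁻¹ᵁ (U.ι ''ᵁ W) = ⊥ := by
      rw [eq_bot_iff]
      intro z hz
      have h3 : I.subschemeι z ∈ (I.support : Set X) := by
        rw [← Scheme.IdealSheafData.range_subschemeι]
        exact ⟨z, rfl⟩
      have h4 : I.subschemeι z ∈ U := by
        obtain ⟨w, -, hw⟩ := hz
        rw [← hw]
        exact w.2
      exact absurd h3 (h _ h4)
    have h5 : Subsingleton Γ(I.subscheme, I.subschemeι ⁻¹ᵁ (U.ι ''ᵁ W)) := by
      rw [h2]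
      infer_instance
    exact Subsingleton.elim (α := Γ(I.subscheme, I.subschemeι ⁻¹ᵁ (U.ι ''ᵁ W))) _ _
  exact h1

variable [IsIntegral X] [IsLocallyNoetherian X]

/-- A finite locally free module extends over points of depth two. -/
theorem isIso_unit (hreg : ∀ x : X, IsRegularLocalRing (X.presheaf.stalk x))
    (hdim : topologicalKrullDim X ≤ 2)
    (hU : ∀ x : X, x ∉ U → (2 : WithBot ℕ∞) ≤ ringKrullDim (X.presheaf.stalk x))
    {F : X.Modules} (hF : Coh.IsCoh F) (hl : FlatMod.IsFinLocFree F) :
    IsIso ((η U).app F) := by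
  have hr := (S1689.result X hreg hdim F hF).2 hl
  rw [Divis.ReflexSheaf.isIso_unit_iff]
  apply Divis.ExtendStalk.bijective_of_stalk hF
  intro x hx
  have h0 := hreg x
  obtain ⟨h1, h2⟩ := S2821.result (X.presheaf.stalk x)
  have h3 := hr x
  obtain ⟨a, ha, b, hb, hab⟩ := Divis.ReflexAlg.exists_regPair_of_isIntegrallyClosed (hU x hx)
  exact ⟨a, ha, b, hb, Divis.ReflexAlg.regPair_of_isReflexive hab⟩

/-- A coherent module which is locally free outside and extends is locally free. -/
theorem isFinLocFree_of_isIso_unit (hreg : ∀ x : X, IsRegularLocalRing (X.presheaf.stalk x))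
    (hdim : topologicalKrullDim X ≤ 2)
    (hU : ∀ x : X, x ∉ U → (2 : WithBot ℕ∞) ≤ ringKrullDim (X.presheaf.stalk x))
    {F : X.Modules} (hF : Coh.IsCoh F) (hl : FlatMod.IsFinLocFree (F.restrict U.ι))
    (h : IsIso ((η U).app F)) : FlatMod.IsFinLocFree F := by
  have hn : Pi1.IsNormalScheme X := fun x => by
    have h0 := hreg x
    obtain ⟨h1, h2⟩ := S2821.result (X.presheaf.stalk x)
    exact ⟨h1, inferInstance⟩
  exact (S1689.result X hreg hdim F hF).1 ((S1690.result X hn F hF).2 ⟨U, hU, hl, h⟩)

end K802.UnitIso
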