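import Mathlib.Algebra.Homology.ShortComplex.ShortExact
import Mathlib.Algebra.Homology.ShortComplex.Abelian
import Mathlib.Algebra.Homology.ShortComplex.PreservesHomology
import Mathlib.CategoryTheory.Abelian.Basic

/-!
# Extensions and a left exact functor with a unit
-/

set_option autoImplicit false

namespace K802.UnitLemma

open CategoryTheory CategoryTheory.Limits

universe v u

variable {C : Type u} [Category.{v} C] [Abelian C] (T : C ⥤ C) (η : 𝟭 C ⟶ T)

/-- If the unit is a monomorphism at the ends of a short exact sequence it is a monomorphism at the middle. -/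
theorem mono_unit [T.PreservesMonomorphisms] {S : ShortComplex C} (hS : S.ShortExact) [Mono (η.app S.X₁)]
    [Mono (η.app S.X₃)] : Mono (η.app S.X₂) := by
  have hf := hS.mono_f
  refine Preadditive.mono_of_cancel_zero _ fun {P} h hh => ?_
  have h1 : h ≫ S.g = 0 := by
    rw [← cancel_mono (η.app S.X₃), Category.assoc, zero_comp]
    have h2 := η.naturality S.g
    simp only [Functor.id_map] at h2
    rw [h2, ← Category.assoc]
    exact (congrArg (· ≫ T.map S.g) hh).trans zero_comp
  have h3 : hS.exact.lift h h1 = 0 := by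
    rw [← cancel_mono (η.app S.X₁), ← cancel_mono (T.map S.f), zero_comp, zero_comp, Category.assoc]
    have h2 := η.naturality S.f
    simp only [Functor.id_map] at h2
    rw [← h2, ← Category.assoc, hS.exact.lift_f]
    exact hh
  rw [← hS.exact.lift_f h h1, h3, zero_comp]

/-- If `g` becomes invertible and the unit is invertible at its source and a monomorphism at its target,
then `g` is invertible. -/
theorem isIso_of_isIso_map {F F' : C} (g : F ⟶ F') [IsIso (T.map g)] [IsIso (η.app F)] [Mono (η.app F')] :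
    IsIso g := by
  have h1 : g ≫ η.app F' = η.app F ≫ T.map g := η.naturality g
  have h2 : IsIso (g ≫ η.app F') := by rw [h1]; infer_instance
  have h4 : IsSplitEpi (η.app F') :=
    IsSplitEpi.mk' ⟨inv (g ≫ η.app F') ≫ g, by rw [Category.assoc, IsIso.inv_hom_id]⟩
  have h5 : IsIso (η.app F') := isIso_of_mono_of_epi _
  exact IsIso.of_isIso_comp_right g (η.app F')

section

variable [T.PreservesZeroMorphisms] [PreservesFiniteLimits T] {M F I O : C} (a : M ⟶ F) (b : F ⟶ I)
  (w : a ≫ b = 0) (hex : (ShortComplex.mk a b w).ShortExact) (j : I ⟶ O) [IsIso (η.app O)]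


/-- The extended cosection. -/
noncomputable def ext : T.obj F ⟶ O := T.map b ≫ T.map j ≫ inv (η.app O)

theorem unit_ext : η.app F ≫ ext T η b j = b ≫ j := by
  rw [ext, ← Category.assoc]
  have h1 : η.app F ≫ T.map b = b ≫ η.app I := (η.naturality b).symm
  have h2 : η.app I ≫ T.map j = j ≫ η.app O := (η.naturality j).symm
  rw [h1, Category.assoc, ← Category.assoc (η.app I), h2, Category.assoc, IsIso.hom_inv_id,
    Category.comp_id]

include w in
theorem comp_ext : (a ≫ η.app F) ≫ ext T η b j = 0 := by
  rw [Category.assoc, unit_ext, ← Category.assoc, w, zero_comp]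

include hex in
/-- The extended sequence is exact. -/
theorem exact_ext [IsIso (T.map j)] [IsIso (η.app M)] : (ShortComplex.mk (a ≫ η.app F) (ext T η b j) (comp_ext T η a b w j)).Exact ∧
    Mono (a ≫ η.app F) := by
  have hm := hex.mono_f
  have hma : Mono a := hm
  have h0 := hex.exact.map_of_mono_of_preservesKernel T hex.mono_f inferInstance
  have hmT : Mono (T.map a) := inferInstance
  have e1 : a ≫ η.app F = η.app M ≫ T.map a := η.naturality a
  constructor
  · let r : O ⟶ T.obj I := η.app O ≫ inv (T.map j)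
    let φ : ShortComplex.mk (a ≫ η.app F) (ext T η b j) (comp_ext T η a b w j) ⟶
        (ShortComplex.mk a b w).map T :=
      { τ₁ := η.app M
        τ₂ := 𝟙 _
        τ₃ := r
        comm₁₂ := by
          change η.app M ≫ T.map a = (a ≫ η.app F) ≫ 𝟙 _
          rw [Category.comp_id, e1]
        comm₂₃ := by
          change 𝟙 _ ≫ T.map b = ext T η b j ≫ r
          simp only [r]
          rw [ext, Category.id_comp, Category.assoc, Category.assoc, IsIso.inv_hom_id_assoc,
            IsIso.hom_inv_id, Category.comp_id] }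
    have h1 : Epi φ.τ₁ := inferInstanceAs (Epi (η.app M))
    have h2 : IsIso φ.τ₂ := inferInstanceAs (IsIso (𝟙 (T.obj F)))
    have h3 : Mono φ.τ₃ := inferInstanceAs (Mono (η.app O ≫ inv (T.map j)))
    exact (ShortComplex.exact_iff_of_epi_of_isIso_of_mono φ).2 h0
  · rw [e1]
    exact mono_comp _ _

include hex in
/-- The pull-back of the extended sequence along an inclusion. -/
theorem exists_data [IsIso (T.map j)] [IsIso (η.app M)] {I' : C} (l : T.obj F ⟶ I') [Epi l] (j' : I' ⟶ O) [Mono j'] (hl : l ≫ j' = ext T η b j) :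
    ∃ (w' : (a ≫ η.app F) ≫ l = 0) (φ : I ⟶ I'),
      (ShortComplex.mk (a ≫ η.app F) l w').ShortExact ∧ φ ≫ j' = j ∧ η.app F ≫ l = b ≫ φ := by
  obtain ⟨h1, h2⟩ := exact_ext T η a b w hex j
  have w' : (a ≫ η.app F) ≫ l = 0 := by
    rw [← cancel_mono j', Category.assoc, hl, comp_ext T η a b w j, zero_comp]
  have hb := hex.epi_g
  have hb' : Epi b := hb
  have h3 : (ShortComplex.mk a b w).f ≫ (η.app F ≫ l) = 0 := by
    rw [← Category.assoc]; exact w'
  refine ⟨w', hex.exact.desc (η.app F ≫ l) h3, ?_, ?_, ?_⟩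
  · let φ : ShortComplex.mk (a ≫ η.app F) l w' ⟶
        ShortComplex.mk (a ≫ η.app F) (ext T η b j) (comp_ext T η a b w j) :=
      { τ₁ := 𝟙 _
        τ₂ := 𝟙 _
        τ₃ := j'
        comm₁₂ := by
          change 𝟙 _ ≫ (a ≫ η.app F) = (a ≫ η.app F) ≫ 𝟙 _
          rw [Category.comp_id, Category.id_comp]
        comm₂₃ := by
          change 𝟙 _ ≫ ext T η b j = l ≫ j'
          rw [hl, Category.id_comp] }
    have h4 : Epi φ.τ₁ := inferInstanceAs (Epi (𝟙 M))
    have h5 : IsIso φ.τ₂ := inferInstanceAs (IsIso (𝟙 (T.obj F)))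
    have h6 : Mono φ.τ₃ := inferInstanceAs (Mono j')
    have h7 := (ShortComplex.exact_iff_of_epi_of_isIso_of_mono φ).2 h1
    exact { exact := h7, mono_f := h2, epi_g := inferInstanceAs (Epi l) }
  · rw [← cancel_epi b, ← Category.assoc]
    have h8 : b ≫ hex.exact.desc (η.app F ≫ l) h3 = η.app F ≫ l := hex.exact.g_desc _ _
    rw [h8, Category.assoc, hl, unit_ext]
  · exact (hex.exact.g_desc _ _).symm

end

end K802.UnitLemma
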